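import Cfsg.Agent.Lib.SUPres.Main
import Cfsg.Agent.Lib.Schur.UnitaryPSU

/-!
# Presentations of `SU₃(q)` and `PSU₃(q)`
-/

set_option autoImplicit false

namespace CfsgLib.SUPres

open Cfsg
open CfsgLib.ClassicalAut (Unitary.Conj)
open CfsgLib.SLPres (Presents)

variable {F : Type*} [Field F] [Fintype F] {q : ℕ}

theorem exists_conj_of_card (hF : Fintype.card F = q ^ 2) : Nonempty (Unitary.Conj F q) := by
  obtain ⟨p, hp⟩ := CharP.exists F
  obtain ⟨e, hpp, hcard⟩ := FiniteField.card F p
  have := Fact.mk hpp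
  obtain ⟨f, -, hf⟩ := (Nat.dvd_prime_pow hpp).1
    (show q ∣ p ^ (e : ℕ) by rw [← hcard, hF]; exact dvd_pow_self q two_ne_zero)
  exact CfsgLib.ClassicalAut.Unitary.exists_conj (F := F) hf (by rw [Nat.card_eq_fintype_card, hF])

/-- Eighteen relations for `SU₃(q)`. -/
theorem su_three_presents (hq : 3 ≤ q) (hF : Fintype.card F = q ^ 2) : Presents (SU 3 F q) 3 18 := by
  obtain ⟨K⟩ := exists_conj_of_card hF
  obtain ⟨p, hp⟩ := CharP.exists F
  have := Fact.mk (CharP.char_is_prime F p)
  haveI : CharP (F0 K) p := (F0 K).subtype.charP Subtype.val_injective p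
  letI := ZMod.algebra (F0 K) p
  exact su_three K hq p

/-- Nineteen relations for `PSU₃(q)`. -/
theorem psu_three_presents (hq : 3 ≤ q) (hF : Fintype.card F = q ^ 2) : Presents (PSU 3 F q) 3 19 := by
  obtain ⟨K⟩ := exists_conj_of_card hF
  have := Schur.UnitaryPSU.isCyclic_center (n := 3) K (by norm_num)
  exact (su_three_presents hq hF).quotient _

end CfsgLib.SUPres
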