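import Cfsg.Agent.Lib.SUPres.Transfer

/-!
# Unitary groups over fields with at least sixteen elements
-/

set_option autoImplicit false
set_option linter.style.haveILetI false

namespace CfsgLib.SUPres

open Matrix Cfsg Equiv
open CfsgLib.Classical.Herm
open CfsgLib.Classical.Phan (Blk bv bA bB emb range_emb_two emb_injective emb_emb h01 h12)
open CfsgLib.ClassicalAut (Unitary.Conj)
open CfsgLib.SLPres (Presents)

universe u

variable {F : Type u} [Field F] [Finite F] {q : ℕ} (K : Unitary.Conj F q) {n : ℕ}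

set_option maxHeartbeats 1000000 in
include K in
/-- Nine mixed relations. -/
theorem su_big [NeZero n] (hq : 4 ≤ q) (hn : 4 ≤ n) {k r : ℕ} (hB : Presents (SU 3 F q) k r) :
    Presents (SU n F q) (k + 2) (r + 7 + 9) := by
  classical
  have hmn : 0 + 3 ≤ n := by omega
  set e := (emb K hmn : SU 3 F q →* SU n F q) with he
  obtain ⟨xa, xb, hgen⟩ := su_two_gen K (F := F) (q := q)
  set S : Subgroup (SU 3 F q) := (bA K).range with hS
  set T : Subgroup (SU 3 F q) := (bB K).range with hT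
  have eS : S.map e = Blk 0 2 := win_map K h01 hmn (by omega)
  have eT : T.map e = Blk 1 3 := win_map K h12 hmn (by omega)
  have eA : ∀ x, e (bA K x) ∈ (Blk 0 2 : Subgroup (SU n F q)) := fun x =>
    eS ▸ ⟨bA K x, ⟨x, rfl⟩, rfl⟩
  -- the permutations
  set c := cyc (n := n) (by omega) with hc
  set p := dbl (n := n) (a := 0) (b := 2) (c := 1) (d := 3) (by omega) (by omega) (by omega) with hp
  set g := stabHom (n := n) (k := 2) (by omega) le_rfl with hg
  set g1 := g (finRotate (n - 2)) with hg1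
  set g2 := g (adj (n - 2)) with hg2
  obtain ⟨c₃, hc₃⟩ : altSU K c ∈ e.range := by
    rw [PhanSmall.range_emb_win K hmn]
    refine altSU_mem_Blk K c fun i hi h => ?_
    rw [hc, cyc_apply _ hi, if_neg (by omega), if_neg (by omega), if_neg (by omega)]
  have hgstab : ∀ x, (pts 2).image (g x : Perm (Fin n)) = pts 2 := fun x =>
    stabFun_stab (by omega) le_rfl x
  have hmove : ∀ x y, ∃ z : SU 2 F q,
      altSU K (g x) * e (bA K y) * (altSU K (g x))⁻¹ = e (bA K z) := fun x y => by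
    have h1 : altSU K (g x) * e (bA K y) * (altSU K (g x))⁻¹ ∈ S.map e := by
      rw [eS, ← alt_Blk_stab K (show 2 ≤ n by omega) (hgstab x)]
      exact ⟨_, eA y, rfl⟩
    obtain ⟨_, ⟨z, rfl⟩, hz⟩ := h1
    exact ⟨z, hz.symm⟩
  choose z hz using hmove
  have hpB : (Blk 0 2 : Subgroup (SU n F q)).map (MulAut.conj (altSU K p)).toMonoidHom = Blk 2 4 :=
    alt_Blk K p fun i hi => by
      rw [hp, dbl_apply _ _ _ (by omega) hi]
      split_ifs <;> rw [pt_val (by omega)] <;> omega
  set E : List (List (SU 3 F q ⊕ alternatingGroup (Fin n))) :=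
    [relEq c c₃,
      relMove g1 (bA K xa) (bA K (z (finRotate (n - 2)) xa)),
      relMove g1 (bA K xb) (bA K (z (finRotate (n - 2)) xb)),
      relMove g2 (bA K xa) (bA K (z (adj (n - 2)) xa)),
      relMove g2 (bA K xb) (bA K (z (adj (n - 2)) xb)),
      relComm p (bA K xa) (bA K xa), relComm p (bA K xa) (bA K xb),
      relComm p (bA K xb) (bA K xa), relComm p (bA K xb) (bA K xb)] with hE
  refine (glue_rels K hn (le_refl 3) hmn hB E ?_ ?_)
  · have hcm : ∀ x y, wval e (altSU (n := n) K) (relComm p (bA K x) (bA K y)) = 1 := fun x y => by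
      rw [relComm_iff]
      exact ((Classical.Phan.comm_Blk_Fix K (le_refl 2) (eA y) (Classical.Phan.Blk_le_Fix le_rfl
        (hpB ▸ ⟨_, eA x, rfl⟩ : altSU K p * e (bA K x) * (altSU K p)⁻¹ ∈
          (Blk 2 4 : Subgroup (SU n F q))))).eq).symm
    intro l hl
    simp only [hE, List.mem_cons, List.not_mem_nil, or_false] at hl
    rcases hl with rfl | rfl | rfl | rfl | rfl | rfl | rfl | rfl | rfl
    · exact (relEq_iff _ _ _ _).2 hc₃.symm
    · exact (relMove_iff _ _ _ _ _).2 (hz _ _)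
    · exact (relMove_iff _ _ _ _ _).2 (hz _ _)
    · exact (relMove_iff _ _ _ _ _).2 (hz _ _)
    · exact (relMove_iff _ _ _ _ _).2 (hz _ _)
    · exact hcm _ _
    · exact hcm _ _
    · exact hcm _ _
    · exact hcm _ _
  intro G _ θ τ π hπθ hπτ hrel hgenG
  have hR : Reads K hmn θ τ π := ⟨hπθ, hπτ⟩
  have hmem : ∀ l ∈ E, wval θ τ l = 1 := hrel
  have rc : τ c = θ c₃ := (relEq_iff _ _ _ _).1 (hmem _ (by simp [hE]))
  have hU : (θ.comp (bA K)).range = S.map θ := by rw [hS, MonoidHom.range_comp]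
  have hTe : (θ.comp (bB K)).range = T.map θ := by rw [hT, MonoidHom.range_comp]
  have hXS : Subgroup.closure ({θ (bA K xa), θ (bA K xb)} : Set G) = S.map θ := by
    rw [hS, ← MonoidHom.range_comp, MonoidHom.range_eq_map, ← hgen, MonoidHom.map_closure, Set.image_pair]
    rfl
  haveI : Finite (S.map θ) := Finite.of_surjective (fun x : S => (⟨θ x, ⟨x, x.2, rfl⟩⟩ : S.map θ))
    (by rintro ⟨_, y, hy, rfl⟩; exact ⟨⟨y, hy⟩, rfl⟩)
  refine glue_main K hn (τ := τ) (ψ := θ)
    ⟨hR.θ_inj, fun σ hσ => ?_, ⟨c, ⟨c₃, rc.symm⟩, ?_, ?_, ?_, ?_, ?_⟩, ⟨p, ?_, ?_, ?_⟩, hgenG,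
      fun h => absurd h (by omega), fun h => absurd h (by omega)⟩
  · rw [hU]
    have hsm : ∀ {σ : alternatingGroup (Fin n)} {a b : SU 2 F q},
        relMove σ (bA K xa) (bA K a) ∈ E → relMove σ (bA K xb) (bA K b) ∈ E →
        σ ∈ normSub τ (S.map θ) := fun {σ a b} ha hb => by
      refine norm_of_rels _ _ hXS σ ?_
      rintro x (rfl | rfl)
      · rw [(relMove_iff _ _ _ _ _).1 (hmem _ ha)]; exact ⟨_, ⟨a, rfl⟩, rfl⟩
      · rw [(relMove_iff _ _ _ _ _).1 (hmem _ hb)]; exact ⟨_, ⟨b, rfl⟩, rfl⟩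
    exact stab_mem (show 2 ≤ n by omega) le_rfl (normSub τ (S.map θ))
      (hsm (a := z (finRotate (n - 2)) xa) (b := z (finRotate (n - 2)) xb) (by simp [hE, hg1, hg])
        (by simp [hE, hg1, hg]))
      (hsm (a := z (adj (n - 2)) xa) (b := z (adj (n - 2)) xb) (by simp [hE, hg2, hg])
        (by simp [hE, hg2, hg]))
      (fun σ' h => by rw [even_pair σ' h]; exact one_mem _) σ hσ
  · rw [hc, cyc_apply _ (by omega)]; rfl
  · rw [hc, cyc_apply _ (by omega)]; rfl
  · rw [hc, cyc_apply _ (by omega)]; rfl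
  · intro i hi h3
    rw [hc, cyc_apply _ hi, if_neg (by omega), if_neg (by omega), if_neg (by omega)]
  · rw [hU, hTe]
    refine (hR.transfer K rc S T ?_).symm
    rw [← he, eS, eT]
    refine alt_Blk K c fun i hi => ?_
    rw [hc, cyc_apply _ hi]
    split_ifs <;> rw [pt_val (by omega)] <;> omega
  · rw [hp, dbl_apply _ _ _ (by omega) (by omega)]; rfl
  · rw [hp, dbl_apply _ _ _ (by omega) (by omega)]; rfl
  · rw [hU]
    have hcc : ∀ {x y}, relComm p (bA K x) (bA K y) ∈ E →
        θ (bA K y) * (τ p * θ (bA K x) * (τ p)⁻¹) = τ p * θ (bA K x) * (τ p)⁻¹ * θ (bA K y) :=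
      fun h => ((relComm_iff _ _ _ _ _).1 (hmem _ h)).symm
    have hcl : cU τ (S.map θ) p =
        Subgroup.closure ({τ p * θ (bA K xa) * (τ p)⁻¹, τ p * θ (bA K xb) * (τ p)⁻¹} : Set G) := by
      rw [cU, ← hXS, MonoidHom.map_closure, Set.image_pair]
      rfl
    rw [hcl]
    intro x hx y hy
    rw [← hXS] at hx
    refine closure_commute ?_ x hx y hy
    rintro a (rfl | rfl) b (rfl | rfl) <;> exact hcc (by simp [hE])

end CfsgLib.SUPres
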