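import Cfsg.Agent.Lib.SLPres.Comm

/-!
# Commutation spreading along a geometric progression

A relation `X (1 + c) = X 1 * X c` together with commutation at a few consecutive powers of `c` gives
commutation at all of them.
-/

set_option autoImplicit false

namespace CfsgLib.SUPres

variable {F : Type*} [Field F] {G : Type*} [Group G]

/-- The powers of a generator and zero exhaust the field. -/
theorem forall_of_powers {c : F} (hgen : ∀ t : F, t ≠ 0 → ∃ i : ℕ, t = c ^ i) {P : F → Prop}
    (h0 : P 0) (h : ∀ i : ℕ, P (c ^ i)) (t : F) : P t := by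
  by_cases ht : t = 0
  · rw [ht]; exact h0
  · obtain ⟨i, rfl⟩ := hgen t ht; exact h i

variable {c : F} {g : G}

/-- Iterating the scaling. -/
theorem scale_iterate {X : F → G} {d : F} (hX : ∀ t, g * X t * g⁻¹ = X (d * t)) (n : ℕ) (t : F) :
    g ^ n * X t * (g ^ n)⁻¹ = X (d ^ n * t) := by
  induction n with
  | zero => simp
  | succ n ih =>
    rw [pow_succ', pow_succ', mul_assoc d, ← hX, ← ih]
    group

variable (hgen : ∀ t : F, t ≠ 0 → ∃ i : ℕ, t = c ^ i)
include hgen

/-- An additive family scaled by `c²` commutes with `u` scaled by `c`. -/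
theorem commute_double {Z : F → G} (hadd : ∀ s t, Z (s + t) = Z s * Z t)
    (hZ : ∀ t, g * Z t * g⁻¹ = Z (c ^ 2 * t)) {u : G}
    (hcase : (∃ (a : ℕ) (t₀ : F), c ^ a = 1 + c ∧ g ^ a * u * (g ^ a)⁻¹ = u * (g * u * g⁻¹) * Z t₀) ∨
      ∀ t : F, ∃ n : ℕ, (n : F) = t)
    (base : ∀ j < 4, Commute (Z (c ^ j)) u) (t : F) : Commute (Z t) u := by
  have h0 : Z 0 = 1 := by
    have := hadd 0 0
    rwa [add_zero, eq_comm, mul_eq_left] at this
  have hnat : ∀ (n : ℕ) (s : F), Z ((n : F) * s) = Z s ^ n := by
    intro n s
    induction n with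
    | zero => simp [h0]
    | succ n ih => rw [Nat.cast_succ, add_mul, one_mul, hadd, ih, pow_succ]
  rcases hcase with ⟨a, t₀, ha, hu⟩ | hp
  swap
  · obtain ⟨n, rfl⟩ := hp t
    have := (base 0 (by norm_num)).pow_left n
    rwa [← hnat, pow_zero, mul_one] at this
  revert t
  refine forall_of_powers hgen (P := fun t => Commute (Z t) u) (by rw [h0]; exact Commute.one_left u) ?_
  suffices key : ∀ k : ℕ, ∀ j < k + 4, Commute (Z (c ^ j)) u from fun i => key i i (by omega)
  intro k
  induction k with
  | zero => exact base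
  | succ k ih =>
    intro j hj
    by_cases h' : j < k + 4
    · exact ih j h'
    obtain rfl : j = k + 4 := by omega
    set u₁ := g * u * g⁻¹ with hu₁
    have shift : ∀ s, Commute (Z s) u → Commute (Z (c ^ 2 * s)) u₁ := fun s hs => by
      rw [← hZ, hu₁]; exact (Commute.conj_iff g).2 hs
    set x := c ^ (k + 2) with hx
    have c0 : Commute (Z x) u := ih (k + 2) (by omega)
    have c1 : Commute (Z (c * x)) u := by rw [hx, ← pow_succ']; exact ih (k + 3) (by omega)
    have d0 : Commute (Z x) u₁ := by
      have := shift _ (ih k (by omega)); rwa [← pow_add, show 2 + k = k + 2 by omega] at this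
    have d1 : Commute (Z (c * x)) u₁ := by
      have := shift _ (ih (k + 1) (by omega))
      rwa [← pow_add, show 2 + (k + 1) = k + 2 + 1 by omega, pow_succ'] at this
    have d2 : Commute (Z (c ^ 2 * x)) u₁ := shift _ c0
    have zz : ∀ r s, Commute (Z r) (Z s) := fun r s => by
      rw [Commute, SemiconjBy, ← hadd, ← hadd, add_comm]
    have big : Commute (Z ((c ^ a) ^ 2 * x)) (u * u₁) := by
      have h1 : Commute (Z ((c ^ a) ^ 2 * x)) (g ^ a * u * (g ^ a)⁻¹) := by
        rw [← pow_mul, mul_comm a 2, pow_mul, ← scale_iterate hZ a x]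
        exact (Commute.conj_iff (g ^ a)).2 c0
      rw [hu] at h1
      have h2 := h1.mul_right (zz _ (-t₀))
      rwa [mul_assoc _ (Z t₀), ← hadd, add_neg_cancel, h0, mul_one] at h2
    have e : (c ^ a) ^ 2 * x = c ^ 2 * x + (c * x + (c * x + x)) := by rw [ha]; ring
    have small : Commute (Z (c * x + (c * x + x))) (u * u₁) := by
      rw [hadd, hadd]
      exact (c1.mul_right d1).mul_left ((c1.mul_right d1).mul_left (c0.mul_right d0))
    rw [e, hadd] at big
    have top : Commute (Z (c ^ 2 * x)) (u * u₁) := by
      simpa using big.mul_left small.inv_left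
    have := top.mul_right d2.inv_right
    rwa [mul_inv_cancel_right, hx, ← pow_add, show 2 + (k + 2) = k + 4 by omega] at this

/-- Two additive families, both scaled by `c`, commute from two values. -/
theorem commute_cross {A B : F → G} (hA : ∀ s t, A (s + t) = A s * A t) (hB : ∀ s t, B (s + t) = B s * B t)
    (gA : ∀ t, g * A t * g⁻¹ = A (c * t)) (gB : ∀ t, g * B t * g⁻¹ = B (c * t))
    (hcase : (∃ a : ℕ, c ^ a = 1 + c) ∨ ∀ t : F, ∃ n : ℕ, (n : F) = t)
    (base : ∀ j < 2, Commute (A 1) (B (c ^ j))) (s t : F) : Commute (A s) (B t) := by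
  have z0 : ∀ {X : F → G}, (∀ s t, X (s + t) = X s * X t) → X 0 = 1 := fun {X} hX => by
    have := hX 0 0
    rwa [add_zero, eq_comm, mul_eq_left] at this
  have hnat : ∀ {X : F → G}, (∀ s t, X (s + t) = X s * X t) → ∀ (n : ℕ) (s : F),
      X ((n : F) * s) = X s ^ n := fun {X} hX n s => by
    induction n with
    | zero => simp [z0 hX]
    | succ n ih => rw [Nat.cast_succ, add_mul, one_mul, hX, ih, pow_succ]
  have one : ∀ t, Commute (A 1) (B t) := by
    rcases hcase with ⟨a, ha⟩ | hp
    swap
    · intro t
      obtain ⟨n, rfl⟩ := hp t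
      have := (base 0 (by norm_num)).pow_right n
      rwa [← hnat hB, pow_zero, mul_one] at this
    refine forall_of_powers hgen (P := fun t => Commute (A 1) (B t)) (by rw [z0 hB]; exact Commute.one_right _) ?_
    suffices key : ∀ k : ℕ, ∀ j < k + 2, Commute (A 1) (B (c ^ j)) from fun i => key i i (by omega)
    intro k
    induction k with
    | zero => exact base
    | succ k ih =>
      intro j hj
      by_cases h' : j < k + 2
      · exact ih j h'
      obtain rfl : j = k + 2 := by omega
      have shift : ∀ (n : ℕ) (s : F), Commute (A 1) (B s) → Commute (A (c ^ n)) (B (c ^ n * s)) :=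
        fun n s hs => by
          rw [← scale_iterate gB n, ← mul_one (c ^ n), ← scale_iterate gA n]
          exact (Commute.conj_iff (g ^ n)).2 hs
      set x := c ^ (k + 1) with hx
      have c0 : Commute (A 1) (B x) := ih (k + 1) (by omega)
      have d0 : Commute (A c) (B x) := by
        have := shift 1 _ (ih k (by omega)); rwa [pow_one, ← pow_succ'] at this
      have d1 : Commute (A c) (B (c * x)) := by simpa using shift 1 _ c0
      have big : Commute (A 1 * A c) (B x * B (c * x)) := by
        rw [← hA, ← hB, ← ha, show x + c * x = c ^ a * x by rw [ha]; ring]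
        exact shift a _ c0
      have := (big.mul_right (c0.mul_left d0).inv_right)
      have top : Commute (A 1 * A c) (B (c * x)) := by
        have e : B x * B (c * x) = B (c * x) * B x := by rw [← hB, ← hB, add_comm]
        rw [e] at big
        have := big.mul_right (c0.mul_left d0).inv_right
        rwa [mul_inv_cancel_right] at this
      have h2 := top.mul_left d1.inv_left
      rwa [mul_inv_cancel_right, hx, ← pow_succ'] at h2
  revert s
  refine forall_of_powers hgen (P := fun s => Commute (A s) (B t)) (by rw [z0 hA]; exact Commute.one_left _) ?_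
  intro n
  by_cases hc : c = 0
  · rcases n with _ | n
    · rw [pow_zero]; exact one t
    · rw [hc, pow_succ, mul_zero, z0 hA]; exact Commute.one_left _
  have := (Commute.conj_iff (g ^ n)).2 (one ((c ^ n)⁻¹ * t))
  rwa [scale_iterate gA, scale_iterate gB, mul_one, mul_inv_cancel_left₀ (pow_ne_zero n hc)] at this

end CfsgLib.SUPres
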