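import Cfsg.Agent.Lib.SUPres.Coord
import Cfsg.Agent.Lib.SUPres.Recur
import Cfsg.Agent.Lib.SLPres.Comm

/-!
# The root group from few relations
-/

set_option autoImplicit false

namespace CfsgLib.SUPres

open Polynomial
open scoped commutatorElement
open CfsgLib.ClassicalAut (Unitary.Conj)
open CfsgLib.Classical.URoot (Par pmul pinv pone)
open CfsgLib.SLPres (sh wv map_wv map_sh exists_additive_hom)

variable {F : Type*} [Field F] [Finite F] {q : ℕ} {K : Unitary.Conj F q}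

/-- `g` is a word in the centre. -/
def InZ {G : Type*} [Group G] (p : ℕ) (z h g : G) : Prop := ∃ f : (ZMod p)[X], g = wv p z h f

/-- All shifts commute, by the triangle or in degree one. -/
theorem shifts_commute {E : Type*} [Field E] [Fintype E] (p : ℕ) [Fact p.Prime] [Algebra (ZMod p) E]
    {G : Type*} [Group G] (x g : G) (ν : E) (hm : wv p x g (minpoly (ZMod p) ν) = 1)
    (hcase : (∃ a, sh x g a = x * sh x g 1 ∧ sh x g a = sh x g 1 * x) ∨ ∀ t : E, ∃ n : ℕ, (n : E) = t)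
    (i j : ℕ) : Commute (sh x g i) (sh x g j) := by
  rcases hcase with ⟨a, h1, h2⟩ | hp
  · wlog hij : i ≤ j generalizing i j
    · exact (this j i (by omega)).symm
    have := SLPres.commute_shift (u := x) (h := g) (i := 0) (j := 1 * (j - i))
      (by rw [SLPres.sh_zero]; exact SLPres.commute_triangle h1 h2 (j - i)) i
    rwa [add_zero, one_mul, Nat.add_sub_cancel' hij] at this
  · obtain ⟨n, hn⟩ := hp ν
    have hd : (minpoly (ZMod p) ν).natDegree = 1 := by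
      rw [← hn, ← map_natCast (algebraMap (ZMod p) E), minpoly.eq_X_sub_C, natDegree_X_sub_C]
    exact SLPres.commute_small p x g ν (by omega) hm (fun h => by omega) i j

variable {T : Type*} [Group T] {φ : Par K → T} {th : F → T} {w : T} {μ : F}

/-- The Heisenberg group inside any group with these relations. -/
theorem exists_root_hom (M : Model K T φ th w) (D : FD K μ) (hq : 3 ≤ q) (p : ℕ) [Fact p.Prime]
    [Algebra (ZMod p) (F0 K)] {G : Type*} [Group G] (π : G →* T) (u h z : G) (u₁ : Par K)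
    (hu₁ : u₁.1.1 = 1) (hπu : π u = φ u₁) (hπh : π h = th μ) (hz : z = ⁅u, h * u * h⁻¹⁆)
    (zmin : wv p z h (minpoly (ZMod p) (nu K μ)) = 1) (zpow : z ^ p = 1)
    (hcase : (∃ a : ℕ, nu K μ ^ a = 1 + nu K μ ∧ sh z h a = z * sh z h 1 ∧ sh z h a = sh z h 1 * z ∧
        InZ p z h ((u * sh u (h ^ (q + 1)) 1)⁻¹ * sh u (h ^ (q + 1)) a) ∧
        InZ p z h ⁅u, sh u (h ^ (q + 1)) 1⁆) ∨ ∀ t : F0 K, ∃ n : ℕ, (n : F0 K) = t)
    (zu : ∀ j < 4, Commute (sh z h j) u)
    (umin : InZ p z h (wv p u (h ^ (q + 1)) (minpoly (ZMod p) (nu K μ)))) (upow : InZ p z h (u ^ p))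
    (uv : InZ p z h ⁅u, sh (h * u * h⁻¹) (h ^ (q + 1)) 1⁆)
    (hv : ∃ f g : (ZMod p)[X], InZ p z h ((wv p u (h ^ (q + 1)) f * wv p (h * u * h⁻¹) (h ^ (q + 1)) g)⁻¹ *
      (h * (h * u * h⁻¹) * h⁻¹))) :
    ∃ Φ : Par K → G, (∀ x y, Φ x * Φ y = Φ (pmul K x y)) ∧ (∀ x, π (Φ x) = φ x) ∧ Φ u₁ = u ∧
      ∀ x, h * Φ x * h⁻¹ = Φ (act K μ x) := by
  classical
  cases nonempty_fintype (F0 K)
  set ν := nu K μ with hν
  set h₀ := h ^ (q + 1) with hh0
  set v := h * u * h⁻¹ with hv_def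
  set N₀ := Subgroup.centralizer ({h} : Set G)
  have hhh : Commute h h₀ := Commute.self_pow h _
  -- the centre
  have zcomm := shifts_commute p z h ν zmin (hcase.imp_left fun ⟨a, _, h1, h2, _⟩ => ⟨a, h1, h2⟩)
  obtain ⟨Z, Zadd, Z1, Zconj, Zwv⟩ := exists_additive_hom p z h zcomm zpow ν (D.exists_poly p) zmin
  have Z0 : Z 0 = 1 := by
    have := Zadd 0 0
    rwa [add_zero, eq_comm, mul_eq_left] at this
  have Zneg : ∀ t, (Z t)⁻¹ = Z (-t) := fun t =>
    inv_eq_of_mul_eq_one_right (by rw [← Zadd, add_neg_cancel, Z0])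
  let Zs : Subgroup G :=
    { carrier := Set.range Z
      one_mem' := ⟨0, Z0⟩
      mul_mem' := by rintro _ _ ⟨s, rfl⟩ ⟨t, rfl⟩; exact ⟨s + t, Zadd s t⟩
      inv_mem' := by rintro _ ⟨t, rfl⟩; exact ⟨-t, (Zneg t).symm⟩ }
  have toZs : ∀ g, InZ p z h g → g ∈ Zs := fun g ⟨f, hf⟩ => ⟨aeval ν f, by rw [hf, Zwv]⟩
  have Zh0 : ∀ t, h₀ * Z t * h₀⁻¹ = Z (ν ^ 2 * t) := fun t => by
    rw [hh0, scale_iterate Zconj (q + 1) t, pow_succ, hν, FD.nu_pow_q, ← pow_two]
  have shz : ∀ j, sh z h j = Z (ν ^ j) := fun j => by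
    rw [SLPres.sh, ← Z1, scale_iterate Zconj j 1, mul_one]
  have Zu : ∀ t, Commute (Z t) u := by
    refine commute_double (D.nu_gen) (g := h₀) Zadd Zh0 ?_ (fun j hj => shz j ▸ zu j hj)
    rcases hcase with ⟨a, ha, -, -, h9, -⟩ | hp
    · obtain ⟨t₀, ht₀⟩ := toZs _ h9
      refine Or.inl ⟨a, t₀, ha, ?_⟩
      have e := ht₀.symm
      rw [SLPres.sh_one, inv_mul_eq_iff_eq_mul, SLPres.sh] at e
      exact e
    · exact Or.inr hp
  -- the normaliser
  set N := Subgroup.normalizer (Zs : Set G)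
  have hN : h ∈ N := by
    rw [Subgroup.mem_normalizer_iff]
    intro g
    constructor
    · rintro ⟨t, rfl⟩; exact ⟨ν * t, (Zconj t).symm⟩
    · rintro ⟨t, ht⟩
      refine ⟨ν⁻¹ * t, ?_⟩
      have e := Zconj (ν⁻¹ * t)
      rw [mul_inv_cancel_left₀ (D.nu_ne), ht] at e
      exact mul_left_cancel (mul_right_cancel e)
  have hu : u ∈ N := by
    rw [Subgroup.mem_normalizer_iff]
    intro g
    constructor
    · rintro ⟨t, rfl⟩; exact ⟨t, by rw [← (Zu t).eq, mul_inv_cancel_right]⟩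
    · rintro ⟨t, ht⟩
      refine ⟨t, ?_⟩
      have e : u⁻¹ * (u * g * u⁻¹) * u = g := by group
      rw [← e, ← ht, mul_assoc, (Zu t).eq, inv_mul_cancel_left]
  have : (Zs.subgroupOf N).Normal := Subgroup.normal_in_normalizer
  set mk : N →* N ⧸ Zs.subgroupOf N := QuotientGroup.mk' _
  have mk1 : ∀ g : N, mk g = 1 ↔ (g : G) ∈ Zs := fun g => by
    rw [QuotientGroup.mk'_apply, QuotientGroup.eq_one_iff]; exact Subgroup.mem_subgroupOf
  set uN : N := ⟨u, hu⟩
  set hNe : N := ⟨h, hN⟩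
  set gN : N := hNe ^ (q + 1) with hgN
  set vN : N := hNe * uN * hNe⁻¹ with hvN
  have cwv : ∀ (a b : N) (f : (ZMod p)[X]), ((wv p a b f : N) : G) = wv p (a : G) (b : G) f := fun a b f =>
    map_wv N.subtype p a b f
  have csh : ∀ (a b : N) (k : ℕ), ((sh a b k : N) : G) = sh (a : G) (b : G) k := fun a b k =>
    map_sh N.subtype a b k
  have cg : (gN : G) = h₀ := by simp [hgN, hNe, hh0]
  have cv : (vN : G) = v := by simp [hvN, hNe, uN, hv_def]
  set ub := mk uN with hub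
  set gb := mk gN with hgb
  set hb := mk hNe with hhb
  have umin' : wv p ub gb (minpoly (ZMod p) ν) = 1 := by
    rw [hub, hgb, ← map_wv, mk1, cwv, cg]; exact toZs _ umin
  have ucomm := shifts_commute p ub gb ν umin' (by
    refine hcase.imp_left fun ⟨a, _, _, _, h9, h10⟩ => ⟨a, ?_, ?_⟩
    · rw [hub, hgb, ← map_sh, ← map_sh, ← map_mul, eq_comm, ← inv_mul_eq_one, ← map_inv, ← map_mul, mk1,
        Subgroup.coe_mul, Subgroup.coe_inv, Subgroup.coe_mul, csh, csh, cg]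
      exact toZs _ h9
    · have e : ub * sh ub gb 1 = sh ub gb 1 * ub := by
        rw [hub, hgb, ← map_sh]
        show mk uN * mk (sh uN gN 1) = _
        have : mk ⁅uN, sh uN gN 1⁆ = 1 := by
          rw [mk1, commutatorElement_def]
          simp only [Subgroup.coe_mul, Subgroup.coe_inv, csh, cg]
          exact toZs _ h10
        rw [map_commutatorElement, commutatorElement_eq_one_iff_mul_comm] at this
        exact this
      rw [← e, hub, hgb, ← map_sh, ← map_sh, ← map_mul, eq_comm, ← inv_mul_eq_one, ← map_inv, ← map_mul, mk1,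
        Subgroup.coe_mul, Subgroup.coe_inv, Subgroup.coe_mul, csh, csh, cg]
      exact toZs _ h9)
  have upow' : ub ^ p = 1 := by
    rw [hub, ← map_pow, mk1, Subgroup.coe_pow]; exact toZs _ upow
  obtain ⟨A, Aadd, A1, Aconj, Awv⟩ := exists_additive_hom p ub gb ucomm upow' ν (D.exists_poly p) umin'
  set Bf := fun t => hb * A t * hb⁻¹ with hBf
  have Badd : ∀ s t, Bf (s + t) = Bf s * Bf t := fun s t => by simp [hBf, Aadd]
  have hgcomm : Commute hb gb := by
    rw [hhb, hgb, hgN, map_pow]; exact Commute.self_pow _ _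
  have Bconj : ∀ t, gb * Bf t * gb⁻¹ = Bf (ν * t) := fun t => by
    simp only [hBf, ← Aconj]
    rw [show gb * (hb * A t * hb⁻¹) * gb⁻¹ = (gb * hb) * A t * (gb * hb)⁻¹ by group, ← hgcomm.eq]
    group
  have Bwv : ∀ f : (ZMod p)[X], Bf (aeval ν f) = mk (wv p vN gN f) := fun f => by
    have e : MulAut.conj hb gb = gb := by rw [MulAut.conj_apply, hgcomm.eq, mul_inv_cancel_right]
    show hb * A _ * hb⁻¹ = _
    rw [Awv, map_wv mk]
    have := map_wv (MulAut.conj hb).toMonoidHom p ub gb f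
    simp only [MulEquiv.coe_toMonoidHom, e] at this
    rw [MulAut.conj_apply] at this
    rw [this]
    simp [hvN, hub, hhb, hgb]
  have B1 : Bf 1 = mk vN := by simp [hBf, A1, hvN, hub, hhb]
  have hAB : ∀ s t, Commute (A s) (Bf t) := by
    refine commute_cross (D.nu_gen) (g := gb) Aadd Badd Aconj Bconj
      (hcase.imp_left fun ⟨a, ha, _⟩ => ⟨a, ha⟩) fun j hj => ?_
    obtain rfl | rfl : j = 0 ∨ j = 1 := by omega
    · rw [pow_zero, A1, B1, ← commutatorElement_eq_one_iff_commute, hub, ← map_commutatorElement, mk1,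
        commutatorElement_def]
      simp only [Subgroup.coe_mul, Subgroup.coe_inv, cv, uN]
      exact ⟨1, by rw [Z1, hz, hv_def, commutatorElement_def]⟩
    · rw [A1, pow_one, ← hν, ← mul_one ν, ← Bconj, B1, hub, hgb, ← map_inv, ← map_mul, ← map_mul,
        ← commutatorElement_eq_one_iff_commute, ← map_commutatorElement, mk1, commutatorElement_def]
      simp only [Subgroup.coe_mul, Subgroup.coe_inv, cv, cg, uN]
      have := toZs _ uv
      rw [SLPres.sh_one, commutatorElement_def] at this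
      simpa using this
  -- the root subgroup
  let AB : Multiplicative (F0 K × F0 K) →* N ⧸ Zs.subgroupOf N :=
    MonoidHom.mk' (fun d => A (Multiplicative.toAdd d).1 * Bf (Multiplicative.toAdd d).2) fun a b => by
      simp only [toAdd_mul, Prod.fst_add, Prod.snd_add, Aadd, Badd]
      exact (hAB _ _).mul_mul_mul_comm _ _
  set U₁ := AB.range.comap mk
  set UG := U₁.map N.subtype
  have AB_mem : ∀ x y, A x * Bf y ∈ AB.range := fun x y => ⟨Multiplicative.ofAdd (x, y), rfl⟩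
  have A0 : A 0 = 1 := by
    have := Aadd 0 0
    rwa [add_zero, eq_comm, mul_eq_left] at this
  have B0 : Bf 0 = 1 := by simp [hBf, A0]
  have hAm : ∀ x, A x ∈ AB.range := fun x => by simpa [B0] using AB_mem x 0
  have hBm : ∀ x, Bf x ∈ AB.range := fun x => by simpa [A0] using AB_mem 0 x
  have hBh : ∀ t, hb * Bf t * hb⁻¹ ∈ AB.range := by
    obtain ⟨f, g, hfg⟩ := hv
    have e : hb * Bf 1 * hb⁻¹ = A (aeval ν f) * Bf (aeval ν g) := by
      rw [B1, Awv, Bwv, hhb, hub, hgb, ← map_wv, ← map_mul, ← map_inv, ← map_mul, ← map_mul, eq_comm,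
        ← inv_mul_eq_one, ← map_inv, ← map_mul, mk1]
      simp only [Subgroup.coe_mul, Subgroup.coe_inv, cwv, cv, cg, uN, hNe]
      exact toZs _ hfg
    refine forall_of_powers (D.nu_gen) (P := fun t => hb * Bf t * hb⁻¹ ∈ AB.range) ?_ fun i => ?_
    · rw [B0, mul_one, mul_inv_cancel]; exact one_mem _
    · have hc : Commute hb (gb ^ i) := hgcomm.pow_right i
      rw [← mul_one (ν ^ i), ← scale_iterate Bconj i 1,
        show hb * (gb ^ i * Bf 1 * (gb ^ i)⁻¹) * hb⁻¹ = (hb * gb ^ i) * Bf 1 * (hb * gb ^ i)⁻¹ by group,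
        hc.eq, show gb ^ i * hb * Bf 1 * (gb ^ i * hb)⁻¹ = gb ^ i * (hb * Bf 1 * hb⁻¹) * (gb ^ i)⁻¹ by group,
        e, ← conj_mul, scale_iterate Aconj, scale_iterate Bconj]
      exact AB_mem _ _
  have hUh : ∀ g ∈ UG, h * g * h⁻¹ ∈ UG := by
    rintro _ ⟨g, hg, rfl⟩
    refine ⟨hNe * g * hNe⁻¹, ?_, by simp [hNe]⟩
    obtain ⟨d, hd⟩ := hg
    show mk _ ∈ AB.range
    rw [map_mul, map_mul, map_inv, ← hhb, ← hd]
    show hb * (A _ * Bf _) * hb⁻¹ ∈ AB.range
    rw [← conj_mul]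
    exact mul_mem (hBm _) (hBh _)
  -- images in the model
  have hzc : ∃ hs, π z = φ (zpar K (mm K μ - K.bar (mm K μ)) hs) := by
    obtain ⟨hs, e⟩ := M.commutator_eq u₁ (act K μ u₁)
    have e1 : K.bar u₁.1.1 * (act K μ u₁).1.1 - K.bar (act K μ u₁).1.1 * u₁.1.1 =
        mm K μ - K.bar (mm K μ) := by simp [act, mm, hu₁]
    refine ⟨e1 ▸ hs, ?_⟩
    rw [hz, map_commutatorElement, map_mul, map_mul, map_inv, hπh, hπu, M.th_conj μ D.ne, e]
    exact congrArg φ (Subtype.ext (Prod.ext rfl e1))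
  obtain ⟨hs, hπz⟩ := hzc
  have πZ : ∀ t, π (Z t) = φ (zc K hs t) := fun t => by
    obtain ⟨f, rfl⟩ := D.exists_poly p t
    rw [Zwv, map_wv π, hπz, hπh]
    exact (SLPres.IsRoot.wv_eq (isRoot_zc M D hs) p f)
  have πA : ∀ f, Aco φ (π (wv p u h₀ f)) (aeval ν f : F) := fun f => by
    rw [map_wv π, hπu, hh0, map_pow, hπh]
    simpa using Aco.word M D p ⟨u₁, rfl, hu₁⟩ f
  have πB : ∀ f, Aco φ (π (wv p v h₀ f)) (mm K μ * (aeval ν f : F)) := fun f => by
    rw [map_wv π, hh0, map_pow, hπh, hv_def, map_mul, map_mul, map_inv, hπu, hπh]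
    have := Aco.word M D p ((Aco.conj M D.ne ⟨u₁, rfl, hu₁⟩ : Aco φ _ (μ ^ 2 / K.bar μ * 1))) f
    rwa [mul_one, mul_comm] at this
  choose P hP using D.exists_poly p
  have Zmem : ∀ t, Z t ∈ UG := fun t => by
    have ht : Z t ∈ N := Subgroup.le_normalizer ⟨t, rfl⟩
    refine ⟨⟨Z t, ht⟩, ?_, rfl⟩
    show mk _ ∈ AB.range
    rw [(mk1 ⟨Z t, ht⟩).2 ⟨t, rfl⟩]
    exact one_mem _
  have repr_mem : ∀ x y t, wv p u h₀ (P x) * wv p v h₀ (P y) * Z t ∈ UG := fun x y t => by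
    refine mul_mem ?_ (Zmem t)
    refine ⟨wv p uN gN (P x) * wv p vN gN (P y), ?_, by simp [cwv, cg, cv, uN]⟩
    show mk _ ∈ AB.range
    rw [map_mul, map_wv mk, ← hub, ← hgb, ← Awv, ← Bwv, hP, hP]
    exact AB_mem _ _
  have decomp : ∀ g ∈ UG, ∃ x y t, g = wv p u h₀ (P x) * wv p v h₀ (P y) * Z t := by
    rintro _ ⟨g, ⟨d, hd⟩, rfl⟩
    set x := (Multiplicative.toAdd d).1
    set y := (Multiplicative.toAdd d).2
    have hd' : A x * Bf y = mk g := hd
    rw [← hP x, ← hP y, Awv, Bwv, hub, hgb, ← map_wv, ← map_mul, ← inv_mul_eq_one, ← map_inv,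
      ← map_mul, mk1] at hd'
    obtain ⟨t, ht⟩ := hd'
    refine ⟨x, y, t, ?_⟩
    rw [ht]
    simp [cwv, cg, cv, uN]
    group
  have acoZ : ∀ t, Aco φ (π (Z t)) 0 := fun t => ⟨_, (πZ t).symm, rfl⟩
  have aco3 : ∀ x y t, Aco φ (π (wv p u h₀ (P x) * wv p v h₀ (P y) * Z t))
      ((x : F) + mm K μ * y) := fun x y t => by
    rw [map_mul, map_mul]
    have := ((πA (P x)).mul M (πB (P y))).mul M (acoZ t)
    rwa [hP, hP, add_zero] at this
  have inj : ∀ g ∈ UG, π g = 1 → g = 1 := by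
    intro g hg hg1
    obtain ⟨x, y, t, rfl⟩ := decomp g hg
    obtain ⟨c, hc, hca⟩ := aco3 x y t
    rw [hg1, ← M.φ_one] at hc
    rw [M.φ_inj hc] at hca
    obtain ⟨rfl, rfl⟩ := D.coords_zero hq x y hca.symm
    have hu0 : wv p u h₀ (P 0) * wv p v h₀ (P 0) ∈ Zs := by
      have h1 : mk (wv p uN gN (P 0) * wv p vN gN (P 0)) = 1 := by
        rw [map_mul, map_wv mk, ← hub, ← hgb, ← Awv, ← Bwv, hP, A0, B0, one_mul]
      simpa [cwv, cg, cv, uN] using (mk1 _).1 h1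
    obtain ⟨s, hs'⟩ := hu0
    rw [← hs', ← Zadd] at hg1 ⊢
    rw [πZ, ← M.φ_one] at hg1
    have h2 := congrArg (fun x : Par K => x.1.2) (M.φ_inj hg1)
    have h3 : ((s + t : F0 K) : F) = 0 := by
      refine (mul_eq_zero.1 h2).resolve_right (sub_ne_zero.2 (D.mm_ne hq).symm)
    rw [show s + t = 0 from Subtype.ext h3, Z0]
  have surj : ∀ x : Par K, ∃ g ∈ UG, π g = φ x := by
    intro x
    obtain ⟨a, b, hab⟩ := D.exists_coords hq x.1.1
    obtain ⟨c, hc, hca⟩ := aco3 a b 0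
    rw [← hab] at hca
    set d := x.1.2 - c.1.2
    have hd : d + K.bar d = 0 := by
      have h1 := c.2
      rw [hca] at h1
      simp only [d, map_sub]
      linear_combination x.2 - h1
    set s₀ := mm K μ - K.bar (mm K μ)
    have hs0 : s₀ ≠ 0 := sub_ne_zero.2 (D.mm_ne hq).symm
    have ht : K.bar (d / s₀) = d / s₀ := by
      rw [map_div₀, eq_neg_of_add_eq_zero_right hd, eq_neg_of_add_eq_zero_right hs, neg_div_neg_eq]
    refine ⟨_, mul_mem (repr_mem a b 0) (Zmem ⟨d / s₀, (mem_F0 K).2 ht⟩), ?_⟩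
    rw [map_mul, ← hc, πZ, M.φ_mul]
    refine congrArg φ (Subtype.ext (Prod.ext ?_ ?_))
    · simp [pmul, zc, zpar, hca]
    · simp [pmul, zc, zpar, d]
      change _ + _ / s₀ * s₀ = _
      rw [div_mul_cancel₀ _ hs0]; ring
  choose Φ hΦm hΦ using surj
  have eqv : ∀ g g', g ∈ UG → g' ∈ UG → π g = π g' → g = g' := fun g g' hg hg' e => by
    have := inj _ (mul_mem hg (inv_mem hg')) (by rw [map_mul, map_inv, e, mul_inv_cancel])
    exact mul_inv_eq_one.1 this
  refine ⟨Φ, fun x y => eqv _ _ (mul_mem (hΦm x) (hΦm y)) (hΦm _) ?_, hΦ, eqv _ _ (hΦm _) ?_ ?_,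
    fun x => eqv _ _ (hUh _ (hΦm x)) (hΦm _) ?_⟩
  · rw [map_mul, hΦ, hΦ, hΦ, M.φ_mul]
  · refine ⟨uN, ?_, rfl⟩
    show mk uN ∈ AB.range
    rw [← hub, ← A1]; exact hAm 1
  · rw [hΦ, hπu]
  · rw [map_mul, map_mul, map_inv, hΦ, hΦ, hπh, M.th_conj μ D.ne]

end CfsgLib.SUPres
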