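import Cfsg.Agent.Lib.SUPres.Transfer
import Cfsg.Agent.Lib.CosetEnum.Use

/-!
# Matrices over a quadratic extension of a prime field, by codes
-/

set_option autoImplicit false
set_option linter.style.haveILetI false

namespace CfsgLib.SUPres

open Matrix Cfsg Equiv
open CfsgLib.Classical.Herm
open CfsgLib.Classical.Phan (Blk bv bA bB emb emb_injective mat mat_ext mat_mul)
open CfsgLib.ClassicalAut (Unitary.Conj)
open CfsgLib.CosetEnum
open CfsgLib.SLPres (Presents)

/-- A pair of residues, for an element `a + b z`. -/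
abbrev C2 := ℕ × ℕ

/-- A matrix by codes. -/
abbrev CM := List (List C2)

/-- The code of a field: `z² = r + s z` modulo `p`. -/
structure FCode where
  /-- the characteristic -/
  p : ℕ
  /-- constant term -/
  r : ℕ
  /-- linear term -/
  s : ℕ

namespace FCode

variable (c : FCode)

/-- sum -/
def add (x y : C2) : C2 := ((x.1 + y.1) % c.p, (x.2 + y.2) % c.p)

/-- negative -/
def neg (x : C2) : C2 := ((c.p - x.1 % c.p) % c.p, (c.p - x.2 % c.p) % c.p)

/-- product -/
def mul (x y : C2) : C2 :=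
  ((x.1 * y.1 + x.2 * y.2 * c.r) % c.p, (x.1 * y.2 + x.2 * y.1 + x.2 * y.2 * c.s) % c.p)

/-- power -/
def pw (x : C2) : ℕ → C2
  | 0 => (1 % c.p, 0)
  | k + 1 => c.mul (pw x k) x

/-- conjugate -/
def bar (x : C2) : C2 := c.pw x c.p

/-- sum of a list -/
def sum : List C2 → C2
  | [] => (0, 0)
  | x :: l => c.add x (sum l)

/-- all codes -/
def codes : List C2 := (List.range c.p).flatMap fun a => (List.range c.p).map fun b => (a, b)

/-- nonzero differences are units -/
def fieldOK : Bool :=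
  c.codes.all fun u => c.codes.all fun v => (u == v) ||
    c.codes.any fun w => c.mul (c.add u (c.neg v)) w == (1 % c.p, 0)

/-- entry -/
def ent (A : CM) (i j : ℕ) : C2 := (A.getD i []).getD j (0, 0)

/-- identity matrix -/
def idM (n : ℕ) : CM :=
  List.ofFn fun i : Fin n => List.ofFn fun j : Fin n => if i = j then (1 % c.p, 0) else (0, 0)

/-- product of matrices -/
def mulM (n : ℕ) (A B : CM) : CM :=
  List.ofFn fun i : Fin n => List.ofFn fun j : Fin n =>
    c.sum (List.ofFn fun k : Fin n => c.mul (ent A i k) (ent B k j))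

/-- conjugate transpose -/
def starM (n : ℕ) (A : CM) : CM :=
  List.ofFn fun i : Fin n => List.ofFn fun j : Fin n => c.bar (ent A j i)

/-- value of a word -/
def evalM (n : ℕ) (G : List CM) : List ℕ → CM
  | [] => c.idM n
  | g :: w => c.mulM n (G.getD g (c.idM n)) (evalM n G w)

/-- column -/
def colM (n : ℕ) (A : CM) (j : ℕ) : List C2 := List.ofFn fun i : Fin n => ent A i j

/-- hermitian square -/
def norm3 (v : List C2) : C2 := c.sum (v.map fun x => c.mul x (c.bar x))

/-- determinant one -/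
def detOK (A : CM) : Bool :=
  c.add (c.add (c.mul (c.mul (ent A 0 0) (ent A 1 1)) (ent A 2 2))
      (c.mul (c.mul (ent A 0 1) (ent A 1 2)) (ent A 2 0)))
    (c.mul (c.mul (ent A 0 2) (ent A 1 0)) (ent A 2 1)) ==
  c.add (c.add (c.add (1 % c.p, 0) (c.mul (c.mul (ent A 0 0) (ent A 1 2)) (ent A 2 1)))
      (c.mul (c.mul (ent A 0 1) (ent A 1 0)) (ent A 2 2)))
    (c.mul (c.mul (ent A 0 2) (ent A 1 1)) (ent A 2 0))

/-- padding to four dimensions -/
def padM (A : CM) : CM :=
  List.ofFn fun i : Fin 4 => List.ofFn fun j : Fin 4 =>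
    if (i : ℕ) < 3 ∧ (j : ℕ) < 3 then ent A i j else if i = j then (1 % c.p, 0) else (0, 0)

/-- the matrix of `(0 3)(1 2)` -/
def dM : CM :=
  List.ofFn fun i : Fin 4 => List.ofFn fun j : Fin 4 =>
    if (i : ℕ) + j = 3 then (1 % c.p, 0) else (0, 0)

end FCode

/-- An interpretation of a code. -/
structure FVal (c : FCode) {F : Type*} [Field F] (z : F) : Prop where
  char : (c.p : F) = 0
  sq : z * z = (c.r : F) + (c.s : F) * z

namespace FVal

variable {c : FCode} {F : Type*} [Field F] {z : F} (h : FVal c z)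

/-- The value of a code. -/
def ev (z : F) (x : C2) : F := (x.1 : F) + (x.2 : F) * z

include h in
theorem cast_mod (a : ℕ) : ((a % c.p : ℕ) : F) = a := by
  conv_rhs => rw [← Nat.mod_add_div a c.p]
  push_cast
  rw [h.char]; ring

include h in
theorem ev_add (x y : C2) : ev z (c.add x y) = ev z x + ev z y := by
  simp only [FCode.add, ev, h.cast_mod]; push_cast; ring

include h in
theorem ev_mul (x y : C2) : ev z (c.mul x y) = ev z x * ev z y := by
  simp only [FCode.mul, ev, h.cast_mod]; push_cast; linear_combination (-(x.2 : F) * y.2) * h.sq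

include h in
theorem ev_one : ev z ((1 % c.p, 0) : C2) = 1 := by
  simp only [ev, h.cast_mod]; simp

theorem ev_zero : ev z ((0, 0) : C2) = (0 : F) := by simp [ev]

include h in
theorem ev_neg (x : C2) (hp : 0 < c.p) : ev z (c.neg x) = -ev z x := by
  simp only [FCode.neg, ev, h.cast_mod, Nat.cast_sub (Nat.mod_lt _ hp).le, h.char]
  ring

include h in
theorem ev_pw (x : C2) : ∀ k, ev z (c.pw x k) = ev z x ^ k
  | 0 => by rw [FCode.pw, h.ev_one, pow_zero]
  | k + 1 => by rw [FCode.pw, h.ev_mul, ev_pw x k, pow_succ]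

include h in
theorem ev_sum : ∀ l : List C2, ev z (c.sum l) = (l.map (ev z)).sum
  | [] => by simp [FCode.sum, ev]
  | x :: l => by rw [FCode.sum, h.ev_add, ev_sum l, List.map_cons, List.sum_cons]

/-- The matrix of a code. -/
def toM (z : F) (n : ℕ) (A : CM) : Matrix (Fin n) (Fin n) F := Matrix.of fun i j => ev z (FCode.ent A i j)

theorem ent_ofFn {n : ℕ} (f : Fin n → Fin n → C2) (i j : Fin n) :
    FCode.ent (List.ofFn fun i => List.ofFn fun j => f i j) i j = f i j := by
  simp [FCode.ent, List.getD_eq_getElem?_getD]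

include h in
theorem toM_mul (n : ℕ) (A B : CM) : toM z n (c.mulM n A B) = toM z n A * toM z n B := by
  ext i j
  simp only [toM, Matrix.of_apply, FCode.mulM, ent_ofFn, h.ev_sum, List.map_ofFn, List.sum_ofFn,
    Matrix.mul_apply, Function.comp_apply, h.ev_mul]

include h in
theorem toM_id (n : ℕ) : toM z n (c.idM n) = 1 := by
  ext i j
  simp only [toM, Matrix.of_apply, FCode.idM, ent_ofFn, Matrix.one_apply]
  split_ifs <;> [exact h.ev_one; exact ev_zero]

variable [Finite F]

include h in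
theorem surj (hp : 0 < c.p) (hcard : Nat.card F = c.p ^ 2) (hok : c.fieldOK = true) (x : F) :
    ∃ a < c.p, ∃ b < c.p, x = ev z (a, b) := by
  cases nonempty_fintype F
  let f : Fin c.p × Fin c.p → F := fun u => ev z ((u.1 : ℕ), (u.2 : ℕ))
  have hinj : Function.Injective f := by
    intro u v e
    by_contra hne
    simp only [FCode.fieldOK, List.all_eq_true, Bool.or_eq_true, beq_iff_eq, List.any_eq_true] at hok
    have hmem : ∀ u : Fin c.p × Fin c.p, ((u.1 : ℕ), (u.2 : ℕ)) ∈ c.codes := fun u => by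
      simp [FCode.codes]
    rcases hok _ (hmem u) _ (hmem v) with e' | ⟨w, -, hw⟩
    · exact hne (Prod.ext (Fin.ext (congrArg Prod.fst e')) (Fin.ext (congrArg Prod.snd e')))
    · have := congrArg (ev z) hw
      rw [h.ev_mul, h.ev_add, h.ev_neg _ hp, h.ev_one, show ev z ((u.1 : ℕ), (u.2 : ℕ)) = f u from rfl,
        show ev z ((v.1 : ℕ), (v.2 : ℕ)) = f v from rfl, e, add_neg_cancel, zero_mul] at this
      exact zero_ne_one this
  have hb : Function.Bijective f :=
    (Fintype.bijective_iff_injective_and_card f).2 ⟨hinj, by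
      rw [← Nat.card_eq_fintype_card (α := F), hcard]; simp; ring⟩
  obtain ⟨⟨a, b⟩, rfl⟩ := hb.2 x
  exact ⟨a, a.2, b, b.2, rfl⟩

end FVal

section SU

universe u

variable {F : Type u} [Field F] [Finite F] {q : ℕ} (K : Unitary.Conj F q) {c : FCode} {z : F}

theorem mat_prodW {n : ℕ} (h : FVal c z) {gen : ℕ → SU n F q} {G : List CM}
    (hgen : ∀ g, mat (gen g) = FVal.toM z n (G.getD g (c.idM n))) :
    ∀ w, mat (prodW gen w) = FVal.toM z n (c.evalM n G w)
  | [] => by rw [prodW_nil, FCode.evalM, h.toM_id]; rfl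
  | g :: w => by rw [prodW_cons, mat_mul, FCode.evalM, h.toM_mul, hgen, mat_prodW h hgen w]

include K in
theorem exists_code_elem (h : FVal c z) (hq : c.p = q) (A : CM)
    (hU : (c.mulM 3 (c.starM 3 A) A == c.idM 3) = true) (hd : c.detOK A = true) :
    ∃ g : SU 3 F q, mat g = FVal.toM z 3 A ∧ mat g⁻¹ = FVal.toM z 3 (c.starM 3 A) := by
  have hstar : FVal.toM z 3 (c.starM 3 A) = ((FVal.toM z 3 A).map K.bar)ᵀ := by
    ext i j
    simp only [FVal.toM, Matrix.of_apply, FCode.starM, FVal.ent_ofFn, Matrix.transpose_apply,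
      Matrix.map_apply, FCode.bar, h.ev_pw, K.bar_apply, hq]
  have hprod : ((FVal.toM z 3 A).map K.bar)ᵀ * FVal.toM z 3 A = 1 := by
    rw [← hstar, ← h.toM_mul, eq_of_beq hU, h.toM_id]
  set M := FVal.toM z 3 A with hM
  have hdet : M.det = 1 := by
    have e := congrArg (FVal.ev z) (eq_of_beq hd)
    simp only [h.ev_add, h.ev_mul, h.ev_one] at e
    rw [Matrix.det_fin_three]
    simp only [hM, FVal.toM, Matrix.of_apply, Fin.isValue, Fin.val_zero, Fin.val_one, Fin.val_two] at *
    linear_combination e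
  have hpres : (⟨M, hdet⟩ : Matrix.SpecialLinearGroup (Fin 3) F) ∈ SU 3 F q := by
    intro u v
    show hermForm 3 F q (M *ᵥ u) (M *ᵥ v) = hermForm 3 F q u v
    have e : ∀ a b : Fin 3 → F, hermForm 3 F q a b = (fun i => K.bar (b i)) ⬝ᵥ a := fun a b => by
      simp only [hermForm, dotProduct, K.bar_apply, mul_comm]
    have eb : (fun i => K.bar ((M *ᵥ v) i)) = (M.map K.bar) *ᵥ (fun i => K.bar (v i)) := by
      funext i
      simp [Matrix.mulVec, dotProduct]
    rw [e, e, eb, Matrix.dotProduct_mulVec, ← Matrix.mulVec_transpose, ← Matrix.vecMul_transpose,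
      Matrix.transpose_transpose, Matrix.vecMul_mulVec, ← Matrix.dotProduct_mulVec,
      hprod, Matrix.one_mulVec]
  refine ⟨⟨_, hpres⟩, rfl, ?_⟩
  set g : SU 3 F q := ⟨_, hpres⟩
  have h1 : mat g⁻¹ * mat g = 1 := by rw [← mat_mul, inv_mul_cancel]; rfl
  have h2 : mat g * mat g⁻¹ = 1 := by rw [← mat_mul, mul_inv_cancel]; rfl
  rw [hstar]
  calc mat g⁻¹ = ((M.map K.bar)ᵀ * mat g) * mat g⁻¹ := by rw [show mat g = M from rfl, hprod, one_mul]
    _ = _ := by rw [mul_assoc, h2, mul_one]

omit [Finite F] in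
theorem app_col {n : ℕ} (g : SU n F q) {j : ℕ} (hj : j < n) (i : Fin n) :
    app g (bv j : Fin n → F) i = mat g i ⟨j, hj⟩ := by
  rw [bv, dif_pos hj, app, mulVec_single_one]
  rfl

include K in
/-- A table of columns proves generation. -/
theorem su_three_top (h : FVal c z) (hq : c.p = q) (hok : c.fieldOK = true) {G : List CM}
    {gen : ℕ → SU 3 F q} (hgen : ∀ g, mat (gen g) = FVal.toM z 3 (G.getD g (c.idM 3)))
    (T2 T1 : List (List C2 × List ℕ))
    (h2 : (T2.all fun e => FCode.colM 3 (c.evalM 3 G e.2) 2 == e.1) = true)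
    (h1 : (T1.all fun e => FCode.colM 3 (c.evalM 3 G e.2) 2 == [(0, 0), (0, 0), (1 % c.p, 0)] &&
      FCode.colM 3 (c.evalM 3 G e.2) 0 == e.1) = true)
    (hall : (c.codes.all fun a => c.codes.all fun b => c.codes.all fun d =>
      !(c.norm3 [a, b, d] == (1 % c.p, 0)) ||
        ((T2.map Prod.fst).contains [a, b, d] &&
          (!(d == (0, 0)) || (T1.map Prod.fst).contains [a, b, d]))) = true) :
    Subgroup.closure (Set.range gen) = (⊤ : Subgroup (SU 3 F q)) := by
  have hp : 0 < c.p := hq ▸ (show 0 < q by have := K.two_le; omega)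
  set H := Subgroup.closure (Set.range gen) with hH
  have wmem : ∀ w, prodW gen w ∈ H := fun w => Subgroup.list_prod_mem _ fun y hy => by
    obtain ⟨g, -, rfl⟩ := List.mem_map.1 hy
    exact Subgroup.subset_closure ⟨g, rfl⟩
  have hcol : ∀ w (j : Fin 3) (i : Fin 3), app (prodW gen w) (bv (j : ℕ) : Fin 3 → F) i =
      FVal.ev z ((FCode.colM 3 (c.evalM 3 G w) j).getD i (0, 0)) := fun w j i => by
    rw [app_col _ j.2, mat_prodW h hgen]
    simp [FVal.toM, FCode.colM, List.getD_eq_getElem?_getD]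
    fin_cases i <;> rfl
  simp only [List.all_eq_true, Bool.and_eq_true, beq_iff_eq] at h1 h2
  simp only [List.all_eq_true, Bool.or_eq_true, Bool.and_eq_true, Bool.not_eq_true', beq_eq_false_iff_ne,
    List.contains_iff_mem, List.mem_map] at hall
  have look : ∀ v : Fin 3 → F, hermForm 3 F q v v = 1 →
      (∃ w, app (prodW gen w) (bv 2 : Fin 3 → F) = v) ∧ (v 2 = 0 → ∃ w,
        app (prodW gen w) (bv 2 : Fin 3 → F) = bv 2 ∧ app (prodW gen w) (bv 0 : Fin 3 → F) = v) := by
    intro v hv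
    obtain ⟨a0, l0, b0, m0, e0⟩ := h.surj hp (by rw [K.card, hq]) hok (v 0)
    obtain ⟨a1, l1, b1, m1, e1⟩ := h.surj hp (by rw [K.card, hq]) hok (v 1)
    obtain ⟨a2, l2, b2, m2, e2⟩ := h.surj hp (by rw [K.card, hq]) hok (v 2)
    have hcodes : ∀ a b, a < c.p → b < c.p → ((a, b) : C2) ∈ c.codes := fun a b ha hb => by
      simp [FCode.codes, ha, hb]
    have hn : FVal.ev z (c.norm3 [(a0, b0), (a1, b1), (a2, b2)]) = 1 := by
      rw [← hv]
      simp [FCode.norm3, h.ev_sum, h.ev_mul, FCode.bar, h.ev_pw, hermForm, Fin.sum_univ_three, e0, e1, e2,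
        hq, add_assoc]
    have key := hall _ (hcodes a0 b0 l0 m0) _ (hcodes a1 b1 l1 m1) _ (hcodes a2 b2 l2 m2)
    have hne1 : c.norm3 [(a0, b0), (a1, b1), (a2, b2)] = (1 % c.p, 0) := by
      obtain ⟨s1, h1', s2, h2', hh⟩ : ∃ s1 < c.p, ∃ s2 < c.p,
          c.norm3 [(a0, b0), (a1, b1), (a2, b2)] = (s1, s2) :=
        ⟨_, Nat.mod_lt _ hp, _, Nat.mod_lt _ hp, rfl⟩
      by_contra hne
      simp only [FCode.fieldOK, List.all_eq_true, Bool.or_eq_true, beq_iff_eq, List.any_eq_true] at hok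
      rcases hok _ (hcodes s1 s2 h1' h2') _ (hcodes (1 % c.p) 0 (Nat.mod_lt _ hp) hp) with e | ⟨w, -, hw⟩
      · exact hne (hh.trans e)
      · have := congrArg (FVal.ev z) hw
        rw [h.ev_mul, h.ev_add, h.ev_neg _ hp, ← hh, hn, h.ev_one, add_neg_cancel, zero_mul] at this
        exact zero_ne_one this
    have key' := key.resolve_left (fun e => e hne1)
    refine ⟨?_, fun hv2 => ?_⟩
    · obtain ⟨⟨_, w⟩, hw, rfl⟩ := key'.1
      refine ⟨w, ?_⟩
      funext i
      rw [show (bv 2 : Fin 3 → F) = bv ((2 : Fin 3) : ℕ) from rfl, hcol w 2 i,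
        show ((2 : Fin 3) : ℕ) = 2 from rfl, h2 _ hw]
      fin_cases i <;> simp [e0, e1, e2]
    · have hd0 : ((a2, b2) : C2) = (0, 0) := by
        by_contra hne
        simp only [FCode.fieldOK, List.all_eq_true, Bool.or_eq_true, beq_iff_eq, List.any_eq_true] at hok
        rcases hok _ (hcodes a2 b2 l2 m2) _ (hcodes 0 0 hp hp) with e | ⟨w, -, hw⟩
        · exact hne e
        · have := congrArg (FVal.ev z) hw
          rw [h.ev_mul, h.ev_add, h.ev_neg _ hp, ← e2, hv2, h.ev_one, FVal.ev_zero, neg_zero, add_zero,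
            zero_mul] at this
          exact zero_ne_one this
      obtain ⟨⟨_, w⟩, hw, rfl⟩ := key'.2.resolve_left (fun e => e hd0)
      refine ⟨w, ?_, ?_⟩
      · funext i
        rw [show (bv 2 : Fin 3 → F) = bv ((2 : Fin 3) : ℕ) from rfl, hcol w 2 i,
          show ((2 : Fin 3) : ℕ) = 2 from rfl, (h1 _ hw).1]
        fin_cases i <;> simp [Classical.Phan.bv_apply, h.ev_one, FVal.ev_zero]
      · funext i
        rw [show (bv 0 : Fin 3 → F) = bv ((0 : Fin 3) : ℕ) from rfl, hcol w 0 i,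
          show ((0 : Fin 3) : ℕ) = 0 from rfl, (h1 _ hw).2]
        fin_cases i <;> simp [e0, e1, e2]
  have hbv : ∀ j < 3, hermForm 3 F q (bv j : Fin 3 → F) (bv j) = 1 := fun j hj => by
    rw [Classical.Phan.h_bv K, Classical.Phan.cd_bv, if_pos ⟨rfl, hj⟩]
  refine eq_top_iff.2 fun g _ => ?_
  obtain ⟨w, hw⟩ := (look (app g (bv 2)) (by rw [h_app, hbv 2 (by omega)])).1
  set g' := (prodW gen w)⁻¹ * g with hg'
  have g2 : app g' (bv 2 : Fin 3 → F) = bv 2 := by rw [hg', app_mul, ← hw, app_inv]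
  obtain ⟨w', hw2, hw0⟩ := (look (app g' (bv 0)) (by rw [h_app, hbv 0 (by omega)])).2 (by
    have := Classical.Phan.cd_app_of_fix K g2 (bv 0 : Fin 3 → F)
    rw [Classical.Phan.cd_bv, if_neg (by omega)] at this
    rw [← Classical.Phan.cd_coe (app g' (bv 0)) (2 : Fin 3)]
    exact this)
  have h3 : (prodW gen w')⁻¹ * g' = 1 := Classical.Phan.eq_one_of_almost K (l := 1) fun i hi hne => by
    rcases (show i = 0 ∨ i = 2 by omega) with rfl | rfl
    · rw [app_mul, ← hw0, app_inv]
    · rw [app_mul, g2]; conv_lhs => rw [← hw2]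
      rw [app_inv]
  rw [inv_mul_eq_one] at h3
  have e : g = prodW gen w * prodW gen w' := by rw [h3, hg', mul_inv_cancel_left]
  rw [e]
  exact mul_mem (wmem w) (wmem w')

end SU

end CfsgLib.SUPres
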