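import Cfsg.Agent.Lib.SUPres.Model
import Cfsg.Agent.Lib.SLPres.Model

/-!
# First coordinates of root words
-/

set_option autoImplicit false

namespace CfsgLib.SUPres

open Polynomial
open scoped commutatorElement
open CfsgLib.ClassicalAut (Unitary.Conj)
open CfsgLib.Classical.URoot (Par pmul pinv pone)
open CfsgLib.SLPres (sh wv)

variable {F : Type*} [Field F] [Finite F] {q : ℕ} {K : Unitary.Conj F q}

/-- The norm of the generator, in the fixed field. -/
def nu (K : Unitary.Conj F q) (μ : F) : F0 K :=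
  ⟨μ * K.bar μ, (mem_F0 K).2 (by rw [map_mul, K.bar_bar, mul_comm])⟩

/-- The first coordinate of the conjugate of `(1, b)` by `μ`. -/
def mm (K : Unitary.Conj F q) (μ : F) : F := μ ^ 2 / K.bar μ

omit [Finite F] in
theorem pow_succ_eq (K : Unitary.Conj F q) (μ : F) : μ ^ (q + 1) = μ * K.bar μ := by
  rw [K.bar_apply, pow_succ']

namespace FD

variable {μ : F} (D : FD K μ)
include D

theorem nu_ne : nu K μ ≠ 0 := fun h =>
  mul_ne_zero D.ne ((map_ne_zero K.bar).2 D.ne) (congrArg Subtype.val h)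

theorem nu_gen (t : F0 K) (ht : t ≠ 0) : ∃ i : ℕ, t = nu K μ ^ i := by
  obtain ⟨j, hj⟩ := D.fix t (fun h => ht (Subtype.ext h)) (fixed K t)
  exact ⟨j, Subtype.ext (by rw [SubmonoidClass.coe_pow]; exact hj)⟩

omit D in
theorem nu_pow_q : nu K μ ^ q = nu K μ := Subtype.ext (by
  rw [SubmonoidClass.coe_pow, ← K.bar_apply]; exact fixed K _)

theorem exists_poly (p : ℕ) [Algebra (ZMod p) (F0 K)] (t : F0 K) :
    ∃ f : (ZMod p)[X], aeval (nu K μ) f = t := by
  by_cases ht : t = 0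
  · exact ⟨0, by rw [ht, map_zero]⟩
  · obtain ⟨i, rfl⟩ := D.nu_gen t ht
    exact ⟨X ^ i, by simp⟩

theorem mm_ne (hq : 3 ≤ q) : K.bar (mm K μ) ≠ mm K μ := fun h => by
  have h0 := D.ne
  have h0' := (map_ne_zero K.bar).2 h0
  rw [mm, map_div₀, map_pow, K.bar_bar, div_eq_div_iff h0 h0', ← pow_succ, ← pow_succ,
    K.bar_apply, ← pow_mul] at h
  have hle : 2 + 1 ≤ q * (2 + 1) := by omega
  have h1 : μ ^ (q * (2 + 1) - (2 + 1)) = 1 := by
    refine mul_right_cancel₀ (pow_ne_zero (2 + 1) h0) ?_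
    rw [← pow_add, Nat.sub_add_cancel hle, h, one_mul]
  have h2 := Nat.le_of_dvd (by omega) (D.ord _ h1)
  have h3 : 3 * q ≤ q ^ 2 := by rw [pow_two]; exact Nat.mul_le_mul_right q hq
  omega

theorem exists_coords (hq : 3 ≤ q) (a : F) : ∃ x y : F0 K, a = x + mm K μ * y := by
  set m := mm K μ with hm
  have hne : m - K.bar m ≠ 0 := sub_ne_zero.2 (D.mm_ne hq).symm
  have hy : K.bar ((a - K.bar a) / (m - K.bar m)) = (a - K.bar a) / (m - K.bar m) := by
    rw [map_div₀, map_sub, map_sub, K.bar_bar, K.bar_bar, ← neg_sub, ← neg_sub m, neg_div_neg_eq]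
  refine ⟨⟨a - m * ((a - K.bar a) / (m - K.bar m)), (mem_F0 K).2 ?_⟩, ⟨_, (mem_F0 K).2 hy⟩, by simp⟩
  rw [map_sub, map_mul, hy]
  field_simp
  ring

theorem coords_zero (hq : 3 ≤ q) (x y : F0 K) (h : (x : F) + mm K μ * y = 0) : x = 0 ∧ y = 0 := by
  have h' := congrArg K.bar h
  rw [map_add, map_mul, fixed, fixed, map_zero] at h'
  have hy : (y : F) = 0 := by
    refine (mul_eq_zero.1 (show (K.bar (mm K μ) - mm K μ) * y = 0 by linear_combination h' - h)).resolve_left
      (sub_ne_zero.2 (D.mm_ne hq))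
  rw [hy, mul_zero, add_zero] at h
  exact ⟨Subtype.ext h, Subtype.ext hy⟩

end FD

namespace Model

variable {T : Type*} [Group T] {φ : Par K → T} {th : F → T} {w : T} (M : Model K T φ th w)
include M

theorem φ_one : φ (pone K) = 1 := by
  have h := M.φ_mul (pone K) (pone K)
  rw [show pmul K (pone K) (pone K) = pone K from
    Subtype.ext (Prod.ext (by simp [pmul, pone]) (by simp [pmul, pone]))] at h
  exact mul_eq_left.mp h

theorem φ_inv (x : Par K) : (φ x)⁻¹ = φ (pinv K x) := by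
  rw [inv_eq_iff_mul_eq_one, M.φ_mul, ← M.φ_one]
  refine congrArg φ (Subtype.ext (Prod.ext ?_ ?_))
  · simp [pmul, pinv, pone]
  · simp [pmul, pinv, pone]
    linear_combination x.2

theorem th_one : th 1 = 1 := by
  have h := M.th_mul 1 1 one_ne_zero one_ne_zero
  rw [mul_one] at h
  exact mul_eq_left.mp h

theorem th_pow {l : F} (hl : l ≠ 0) (k : ℕ) : th l ^ k = th (l ^ k) := by
  induction k with
  | zero => rw [pow_zero, pow_zero, M.th_one]
  | succ k ih => rw [pow_succ, pow_succ, ih, M.th_mul _ _ (pow_ne_zero _ hl) hl]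

/-- The root element with first coordinate `0`. -/
theorem commutator_eq (x y : Par K) : ∃ hs, ⁅φ x, φ y⁆ =
    φ (zpar K (K.bar x.1.1 * y.1.1 - K.bar y.1.1 * x.1.1) hs) := by
  refine ⟨by simp only [map_sub, map_mul, K.bar_bar]; ring, ?_⟩
  rw [commutatorElement_def, show φ x * φ y * (φ x)⁻¹ * (φ y)⁻¹ = φ x * φ y * (φ y * φ x)⁻¹ by group,
    mul_inv_eq_iff_eq_mul, M.φ_mul, M.φ_mul, M.φ_mul]
  refine congrArg φ (Subtype.ext (Prod.ext ?_ ?_))
  · simp [pmul, zpar, add_comm]
  · simp [pmul, zpar]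
    ring

end Model

/-- `g` is a root element with first coordinate `a`. -/
def Aco {T : Type*} (φ : Par K → T) (g : T) (a : F) : Prop := ∃ x, φ x = g ∧ x.1.1 = a

section Aco

variable {T : Type*} [Group T] {φ : Par K → T} {th : F → T} {w : T} (M : Model K T φ th w)
include M

theorem Aco.mul {g g' : T} {a a' : F} (h : Aco φ g a) (h' : Aco φ g' a') : Aco φ (g * g') (a + a') := by
  obtain ⟨x, rfl, rfl⟩ := h
  obtain ⟨y, rfl, rfl⟩ := h'
  exact ⟨pmul K x y, (M.φ_mul x y).symm, rfl⟩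

theorem Aco.one : Aco φ (1 : T) 0 := ⟨pone K, M.φ_one, rfl⟩

theorem Aco.inv {g : T} {a : F} (h : Aco φ g a) : Aco φ g⁻¹ (-a) := by
  obtain ⟨x, rfl, rfl⟩ := h
  exact ⟨pinv K x, (M.φ_inv x).symm, rfl⟩

theorem Aco.pow {g : T} {a : F} (h : Aco φ g a) (n : ℕ) : Aco φ (g ^ n) ((n : F) * a) := by
  induction n with
  | zero => simpa using Aco.one M
  | succ n ih => rw [pow_succ, Nat.cast_succ, add_mul, one_mul]; exact ih.mul M h

theorem Aco.conj {g : T} {a l : F} (hl : l ≠ 0) (h : Aco φ g a) :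
    Aco φ (th l * g * (th l)⁻¹) (l ^ 2 / K.bar l * a) := by
  obtain ⟨x, rfl, rfl⟩ := h
  exact ⟨act K l x, (M.th_conj l hl x).symm, rfl⟩

variable {μ : F}

theorem Aco.shift {g : T} {a : F} (D : FD K μ) (h : Aco φ g a) (k : ℕ) :
    Aco φ (sh g (th μ ^ (q + 1)) k) (((nu K μ ^ k : F0 K) : F) * a) := by
  have hl : (μ * K.bar μ) ^ k ≠ 0 := pow_ne_zero _ (mul_ne_zero D.ne ((map_ne_zero K.bar).2 D.ne))
  have := h.conj M hl
  rw [SLPres.sh, ← pow_mul, M.th_pow D.ne, pow_mul, pow_succ_eq K]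
  rwa [map_pow, map_mul, K.bar_bar, mul_comm (K.bar μ), pow_two, mul_div_assoc, div_self hl,
    mul_one] at this

theorem Aco.word {g : T} {a : F} (D : FD K μ) (p : ℕ) [Fact p.Prime] [Algebra (ZMod p) (F0 K)]
    (h : Aco φ g a) (f : (ZMod p)[X]) :
    Aco φ (wv p g (th μ ^ (q + 1)) f) ((aeval (nu K μ) f : F) * a) := by
  rw [SLPres.wv, aeval_eq_sum_range]
  generalize f.natDegree + 1 = N
  induction N with
  | zero => simpa using Aco.one M
  | succ N ih =>
    rw [List.range_succ, List.map_append, List.prod_append, List.map_singleton, List.prod_singleton,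
      Finset.sum_range_succ, Subfield.coe_add, add_mul]
    refine ih.mul M ?_
    have := (h.shift M D N).pow M (f.coeff N).val
    have e : f.coeff N • nu K μ ^ N = ((f.coeff N).val : F0 K) * nu K μ ^ N := by
      conv_lhs => rw [← ZMod.natCast_zmod_val (f.coeff N), Nat.cast_smul_eq_nsmul, nsmul_eq_mul]
    rw [e, Subfield.coe_mul, mul_assoc]
    rw [show (((f.coeff N).val : F0 K) : F) = ((f.coeff N).val : F) from map_natCast (F0 K).subtype _]
    exact this

end Aco

/-- The centre of the root group as a function on the fixed field. -/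
def zc (K : Unitary.Conj F q) {s₀ : F} (hs : s₀ + K.bar s₀ = 0) (t : F0 K) : Par K :=
  zpar K ((t : F) * s₀) (by rw [map_mul, fixed]; linear_combination (t : F) * hs)

theorem isRoot_zc {T : Type*} [Group T] {φ : Par K → T} {th : F → T} {w : T} (M : Model K T φ th w)
    {μ : F} (D : FD K μ) {s₀ : F} (hs : s₀ + K.bar s₀ = 0) :
    SLPres.IsRoot (fun t => φ (zc K hs t)) (φ (zpar K s₀ hs)) (th μ) (nu K μ) where
  add s t := by
    rw [M.φ_mul]
    refine congrArg φ (Subtype.ext (Prod.ext ?_ ?_)) <;> simp [pmul, zc, zpar, add_mul]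
  one := congrArg φ (Subtype.ext (Prod.ext rfl (by simp [zc, zpar])))
  conj t := by
    rw [M.th_conj μ D.ne]
    refine congrArg φ (Subtype.ext (Prod.ext ?_ ?_))
    · simp [act, zc, zpar]
    · show μ * K.bar μ * ((t : F) * s₀) = ((nu K μ * t : F0 K) : F) * s₀
      simp [nu, mul_assoc]

end CfsgLib.SUPres
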