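import Cfsg.Agent.Lib.SUPres.Coord
import Cfsg.Agent.Lib.ModuleIndex.UnitaryThreeBounds

/-!
# Counting a group with a Bruhat decomposition of rank one
-/

set_option autoImplicit false

namespace CfsgLib.SUPres

open CfsgLib.ClassicalAut (Unitary.Conj)
open CfsgLib.Classical.URoot (Par pmul pinv pone)

variable {F : Type*} [Field F] [Finite F] {q : ℕ} {K : Unitary.Conj F q}
variable {T : Type*} [Group T] {φ : Par K → T} {th : F → T} {w : T} {μ : F}
variable {G : Type*} [Group G]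

/-- The big cell. -/
def InBig (Φ : Par K → G) (H : F → G) (W : G) (g : G) : Prop :=
  ∃ a l y, l ≠ 0 ∧ g = Φ a * H l * W * Φ y

/-- One centre seed and one further seed bound the group by the order of `SU₃`. -/
theorem card_le (M : Model K T φ th w) (D : FD K μ) (hq : 3 ≤ q) (π : G →* T) (h W : G)
    (Φ : Par K → G) (hΦ : ∀ x y, Φ x * Φ y = Φ (pmul K x y)) (hπΦ : ∀ x, π (Φ x) = φ x)
    (hconj : ∀ x, h * Φ x * h⁻¹ = Φ (act K μ x)) (hπh : π h = th μ) (hπW : π W = w)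
    (hW : W * W = 1) (hWh : W * h * W⁻¹ = (h ^ q)⁻¹)
    (hgen : Subgroup.closure (Set.range Φ ∪ {h, W}) = ⊤)
    {s₀ : F} (hs : s₀ + K.bar s₀ = 0) (hs0 : s₀ ≠ 0)
    (seedz : ∃ k a y, W * Φ (zpar K s₀ hs) * W = Φ a * h ^ k * W * Φ y)
    (seed : ∀ hm, ∃ k a y, W * Φ ⟨(1, sec K 1 (K.bar μ / μ)), hm⟩ * W = Φ a * h ^ k * W * Φ y) :
    Finite G ∧ Nat.card G ≤ q ^ 3 * ((q ^ 2 - 1) * (q ^ 3 + 1)) := by
  classical
  cases nonempty_fintype F
  have hμ := D.ne
  have Φ1 : Φ (pone K) = 1 := by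
    have h1 := hΦ (pone K) (pone K)
    rw [show pmul K (pone K) (pone K) = pone K from
      Subtype.ext (Prod.ext (by simp [pmul, pone]) (by simp [pmul, pone]))] at h1
    exact mul_eq_left.mp h1
  have Φinv : ∀ x, (Φ x)⁻¹ = Φ (pinv K x) := fun x => by
    refine inv_eq_of_mul_eq_one_right ?_
    rw [hΦ, ← Φ1]
    refine congrArg Φ (Subtype.ext (Prod.ext ?_ ?_))
    · simp [pmul, pinv, pone]
    · simp [pmul, pinv, pone]
      linear_combination x.2
  have hWi : W⁻¹ = W := inv_eq_of_mul_eq_one_right hW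
  -- the order of `h`
  have hWk : ∀ k : ℕ, W * h ^ k * W⁻¹ = (h ^ (q * k))⁻¹ := fun k => by
    rw [← conj_pow, hWh, inv_pow, ← pow_mul]
  have hn : h ^ (q ^ 2 - 1) = 1 := by
    have h1 := hWk q
    have h2 : W * (W * h * W⁻¹) * W⁻¹ = h := by
      rw [show W * (W * h * W⁻¹) * W⁻¹ = (W * W) * h * (W * W)⁻¹ by group, hW]; simp
    rw [hWh, ← conj_inv, h1, inv_inv, ← pow_two] at h2
    rw [← mul_left_inj h, one_mul, ← pow_succ,
      Nat.sub_add_cancel (Nat.one_le_pow _ _ (by omega)), h2]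
  have hpow : ∀ i j, μ ^ i = μ ^ j → h ^ i = h ^ j := by
    intro i j e
    wlog hij : i ≤ j generalizing i j
    · exact (this j i e.symm (by omega)).symm
    obtain ⟨d, rfl⟩ := Nat.exists_eq_add_of_le hij
    rw [pow_add, eq_comm, mul_eq_left₀ (pow_ne_zero _ hμ)] at e
    obtain ⟨c, rfl⟩ := D.ord _ e
    rw [pow_add, pow_mul, hn, one_pow, mul_one]
  choose k hk using D.gen
  set H : F → G := fun l => if hl : l = 0 then 1 else h ^ k l hl with hH
  have Hpow : ∀ i, H (μ ^ i) = h ^ i := fun i => by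
    rw [hH]; simp only [dif_neg (pow_ne_zero i hμ)]
    exact hpow _ _ (hk _ (pow_ne_zero i hμ)).symm
  have ex : ∀ l : F, l ≠ 0 → ∃ i, l = μ ^ i := fun l hl => ⟨_, hk l hl⟩
  have Hmul : ∀ l m, l ≠ 0 → m ≠ 0 → H l * H m = H (l * m) := fun l m hl hm => by
    obtain ⟨i, rfl⟩ := ex l hl
    obtain ⟨j, rfl⟩ := ex m hm
    rw [← pow_add, Hpow, Hpow, Hpow, pow_add]
  have H1 : H 1 = 1 := by rw [← pow_zero μ, Hpow, pow_zero]
  have Hinv : ∀ l, l ≠ 0 → (H l)⁻¹ = H l⁻¹ := fun l hl =>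
    inv_eq_of_mul_eq_one_right (by rw [Hmul _ _ hl (inv_ne_zero hl), mul_inv_cancel₀ hl, H1])
  have πH : ∀ l, l ≠ 0 → π (H l) = th l := fun l hl => by
    obtain ⟨i, rfl⟩ := ex l hl
    rw [Hpow, map_pow, hπh, M.th_pow hμ]
  have act_mul : ∀ l m x, act K l (act K m x) = act K (l * m) x := fun l m x => by
    refine Subtype.ext (Prod.ext ?_ ?_)
    · simp only [act, map_mul, mul_pow]; rw [← mul_assoc, div_mul_div_comm]
    · simp only [act, map_mul]; ring
  have Hconj : ∀ l, l ≠ 0 → ∀ x, H l * Φ x * (H l)⁻¹ = Φ (act K l x) := fun l hl => by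
    obtain ⟨i, rfl⟩ := ex l hl
    rw [Hpow]
    clear hl
    induction i with
    | zero => intro x; simp [act]
    | succ i ih =>
      intro x
      rw [pow_succ', pow_succ', show h * h ^ i * Φ x * (h * h ^ i)⁻¹ = h * (h ^ i * Φ x * (h ^ i)⁻¹) * h⁻¹ by group,
        ih, hconj, act_mul]
  have Hphi : ∀ l, l ≠ 0 → ∀ x, H l * Φ x = Φ (act K l x) * H l := fun l hl x => by
    rw [← Hconj l hl x, inv_mul_cancel_right]
  have Hphi' : ∀ l, l ≠ 0 → ∀ x, Φ x * H l = H l * Φ (act K l⁻¹ x) := fun l hl x => by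
    rw [Hphi l hl, act_mul, mul_inv_cancel₀ hl]
    simp [act]
  have WH : ∀ l, l ≠ 0 → W * H l = H (K.bar l)⁻¹ * W := fun l hl => by
    obtain ⟨i, rfl⟩ := ex l hl
    have e : (μ ^ (q * i))⁻¹ = (K.bar (μ ^ i))⁻¹ := by rw [K.bar_apply, ← pow_mul, mul_comm]
    rw [← e, ← Hinv _ (pow_ne_zero _ hμ), Hpow, Hpow, ← hWk, inv_mul_cancel_right]
  -- the big cell
  set Big := InBig Φ H W
  have bigΦl : ∀ x g, Big g → Big (Φ x * g) := by
    rintro x _ ⟨a, l, y, hl, rfl⟩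
    exact ⟨pmul K x a, l, y, hl, by rw [← hΦ]; simp only [mul_assoc]⟩
  have bigΦr : ∀ x g, Big g → Big (g * Φ x) := by
    rintro x _ ⟨a, l, y, hl, rfl⟩
    exact ⟨a, l, pmul K y x, hl, by rw [← hΦ]; simp only [mul_assoc]⟩
  have bigHl : ∀ m, m ≠ 0 → ∀ g, Big g → Big (H m * g) := by
    rintro m hm _ ⟨a, l, y, hl, rfl⟩
    refine ⟨act K m a, m * l, y, mul_ne_zero hm hl, ?_⟩
    rw [← Hmul m l hm hl]
    simp only [← mul_assoc]
    rw [Hphi m hm]
  have bigHr : ∀ m, m ≠ 0 → ∀ g, Big g → Big (g * H m) := by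
    rintro m hm _ ⟨a, l, y, hl, rfl⟩
    have hm' : (K.bar m)⁻¹ ≠ 0 := inv_ne_zero ((map_ne_zero K.bar).2 hm)
    refine ⟨a, l * (K.bar m)⁻¹, act K m⁻¹ y, mul_ne_zero hl hm', ?_⟩
    rw [← Hmul _ _ hl hm', mul_assoc (Φ a * H l * W), Hphi' m hm,
      show Φ a * H l * W * (H m * Φ (act K m⁻¹ y)) = Φ a * H l * (W * H m) * Φ (act K m⁻¹ y) by group,
      WH m hm]
    group
  have bigW : Big W := ⟨pone K, 1, pone K, one_ne_zero, by rw [Φ1, H1]; group⟩
  have bigInv : ∀ g, Big g → Big g⁻¹ := by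
    rintro _ ⟨a, l, y, hl, rfl⟩
    rw [mul_inv_rev, mul_inv_rev, mul_inv_rev, hWi, Φinv, Φinv, Hinv l hl, ← mul_assoc, ← mul_assoc]
    exact bigΦr _ _ (bigHr _ (inv_ne_zero hl) _ (bigΦl _ _ bigW))
  -- uniqueness in the model
  let BT : Subgroup T :=
    { carrier := {g | ∃ x l, l ≠ 0 ∧ g = φ x * th l}
      one_mem' := ⟨pone K, 1, one_ne_zero, by rw [M.φ_one, M.th_one, mul_one]⟩
      mul_mem' := by
        rintro _ _ ⟨x, l, hl, rfl⟩ ⟨y, m, hm, rfl⟩
        exact ⟨pmul K x (act K l y), l * m, mul_ne_zero hl hm, by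
          rw [← M.φ_mul, ← M.th_conj l hl, ← M.th_mul l m hl hm]; group⟩
      inv_mem' := by
        rintro _ ⟨x, l, hl, rfl⟩
        refine ⟨act K l⁻¹ (pinv K x), l⁻¹, inv_ne_zero hl, ?_⟩
        have e : (th l)⁻¹ = th l⁻¹ := inv_eq_of_mul_eq_one_right
          (by rw [M.th_mul _ _ hl (inv_ne_zero hl), mul_inv_cancel₀ hl, M.th_one])
        rw [← M.th_conj _ (inv_ne_zero hl), ← M.φ_inv, ← e]; group }
  have mT : ∀ x l, l ≠ 0 → φ x * th l ∈ BT := fun x l hl => ⟨x, l, hl, rfl⟩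
  have mφ : ∀ x, φ x ∈ BT := fun x => by simpa [M.th_one] using mT x 1 one_ne_zero
  have uniq : ∀ a l y a' l' y', l ≠ 0 → l' ≠ 0 → φ a * th l * w * φ y = φ a' * th l' * w * φ y' →
      a = a' ∧ l = l' ∧ y = y' := by
    intro a l y a' l' y' hl hl' e
    have hwi : w⁻¹ = w := inv_eq_of_mul_eq_one_right M.w_sq
    set z := pmul K y (pinv K y')
    have hz : φ z = φ y * (φ y')⁻¹ := by rw [M.φ_inv, M.φ_mul]
    have e1 : w * φ z * w = (φ a * th l)⁻¹ * (φ a' * th l') := by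
      rw [eq_inv_mul_iff_mul_eq, hz,
        show φ a * th l * (w * (φ y * (φ y')⁻¹) * w) = φ a * th l * w * φ y * (φ y')⁻¹ * w by group, e]
      rw [show φ a' * th l' * w * φ y' * (φ y')⁻¹ * w = φ a' * th l' * (w * w) by group, M.w_sq, mul_one]
    have hmem : w * φ z * w ∈ BT := e1 ▸ mul_mem (inv_mem (mT a l hl)) (mT a' l' hl')
    have hzo : z = pone K := by
      by_contra hne
      have hb : (K.bar z.1.2)⁻¹ ≠ 0 := inv_ne_zero ((map_ne_zero K.bar).2 (snd_ne_zero K hne))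
      rw [M.bruhat z hne] at hmem
      have hw : w ∈ BT := by
        have := mul_mem (mul_mem (inv_mem (mT (lp K z) _ hb)) hmem) (inv_mem (mφ (rp K z)))
        simpa [mul_assoc] using this
      obtain ⟨x, m, hm, hxm⟩ := hw
      exact M.w_not x m hm hxm.symm
    have hy : y = y' := by
      apply M.φ_inj
      rw [hzo, M.φ_one] at hz
      exact mul_inv_eq_one.1 hz.symm
    subst hy
    have e2 := mul_right_cancel (mul_right_cancel e)
    have e3 : th (l * l'⁻¹) = φ (pmul K (pinv K a) a') := by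
      have ei : th l'⁻¹ = (th l')⁻¹ := eq_inv_of_mul_eq_one_right
        (by rw [M.th_mul _ _ hl' (inv_ne_zero hl'), mul_inv_cancel₀ hl', M.th_one])
      rw [← M.th_mul _ _ hl (inv_ne_zero hl'), ← M.φ_mul, ← M.φ_inv, ei, eq_inv_mul_iff_mul_eq,
        ← mul_assoc, e2, mul_inv_cancel_right]
    have hll := M.th_not _ _ (mul_ne_zero hl (inv_ne_zero hl')) e3
    have hl2 : l = l' := by
      have := congrArg (· * l') hll
      simpa [inv_mul_cancel_right₀ hl'] using this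
    subst hl2
    exact ⟨M.φ_inj (mul_right_cancel e2), rfl, rfl⟩
  -- the predicate
  set P : Par K → Prop := fun x => Big (W * Φ x * W) with hP
  have exact_form : ∀ x, x ≠ pone K → P x →
      W * Φ x * W = Φ (lp K x) * H (K.bar x.1.2)⁻¹ * W * Φ (rp K x) := by
    rintro x hx ⟨a, l, y, hl, e⟩
    have hb : (K.bar x.1.2)⁻¹ ≠ 0 := inv_ne_zero ((map_ne_zero K.bar).2 (snd_ne_zero K hx))
    have e' := congrArg π e
    simp only [map_mul, hπW, hπΦ, πH l hl] at e'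
    rw [M.bruhat x hx] at e'
    obtain ⟨rfl, rfl, rfl⟩ := uniq _ _ _ _ _ _ hb hl e'
    exact e
  have hact : ∀ l, l ≠ 0 → ∀ x, P x → P (act K l x) := by
    intro l hl x hx
    have hl' : (K.bar l)⁻¹ ≠ 0 := inv_ne_zero ((map_ne_zero K.bar).2 hl)
    show Big _
    rw [← Hconj l hl, Hinv l hl,
      show W * (H l * Φ x * H l⁻¹) * W = (W * H l) * Φ x * (W * H l⁻¹⁻¹)⁻¹ by
        rw [inv_inv, mul_inv_rev, hWi, ← Hinv l hl]; group,
      inv_inv, WH l hl, mul_inv_rev, hWi, ← mul_assoc, show H (K.bar l)⁻¹ * W * Φ x * W = H (K.bar l)⁻¹ * (W * Φ x * W) by group]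
    rw [Hinv _ hl']
    exact bigHr _ (inv_ne_zero hl') _ (bigHl _ hl' _ hx)
  have hinvP : ∀ x, P x → P (pinv K x) := by
    intro x hx
    show Big _
    rw [← Φinv]
    have := bigInv _ hx
    rwa [mul_inv_rev, mul_inv_rev, hWi, ← mul_assoc] at this
  have hrp : ∀ x, x ≠ pone K → P x → P (rp K x) := by
    intro x hx hPx
    have hb : (K.bar x.1.2)⁻¹ ≠ 0 := inv_ne_zero ((map_ne_zero K.bar).2 (snd_ne_zero K hx))
    have e := exact_form x hx hPx
    show Big _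
    have e2 : W * Φ (rp K x) * W = H (K.bar x.1.2)⁻¹⁻¹ * (Φ (lp K x))⁻¹ * W * Φ x := by
      rw [← Hinv _ hb]
      calc W * Φ (rp K x) * W = (H (K.bar x.1.2)⁻¹)⁻¹ * (Φ (lp K x))⁻¹ *
            (Φ (lp K x) * H (K.bar x.1.2)⁻¹ * W * Φ (rp K x)) * W := by group
        _ = (H (K.bar x.1.2)⁻¹)⁻¹ * (Φ (lp K x))⁻¹ * W * Φ x * (W * W) := by rw [← e]; group
        _ = _ := by rw [hW, mul_one]
    rw [e2, Φinv]
    refine ⟨act K (K.bar x.1.2)⁻¹⁻¹ (pinv K (lp K x)), _, x, inv_ne_zero hb, ?_⟩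
    rw [Hphi _ (inv_ne_zero hb)]
  -- seeds
  have big_of_pow : ∀ x, (∃ j a y, W * Φ x * W = Φ a * h ^ j * W * Φ y) → P x := by
    rintro x ⟨j, a, y, e⟩
    exact ⟨a, μ ^ j, y, pow_ne_zero _ hμ, by rw [Hpow]; exact e⟩
  have hz : ∀ x : Par K, x.1.1 = 0 → x ≠ pone K → P x := by
    intro x hx hne
    have hb : x.1.2 ≠ 0 := snd_ne_zero K hne
    have hxb : x.1.2 + K.bar x.1.2 = 0 := by simpa [hx] using x.2
    obtain ⟨j, hj⟩ := D.fix (x.1.2 / s₀) (div_ne_zero hb hs0) (by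
      rw [map_div₀, eq_neg_of_add_eq_zero_right hxb, eq_neg_of_add_eq_zero_right hs, neg_div_neg_eq])
    rw [div_eq_iff hs0] at hj
    have := hact (μ ^ j) (pow_ne_zero _ hμ) _ (big_of_pow _ seedz)
    convert this using 1
    refine Subtype.ext (Prod.ext ?_ ?_)
    · simp [act, zpar, hx]
    · simp [act, zpar, hj, mul_pow]
  have hrule : ∀ (x : Par K) (s : F) (hs' : s + K.bar s = 0), x.1.1 ≠ 0 → s ≠ 0 → P x →
      P (pmul K (rp K x) (zpar K s⁻¹ (by rw [map_inv₀, eq_neg_of_add_eq_zero_right hs', inv_neg, add_neg_cancel]))) →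
      P (pmul K x (zpar K s hs')) := by
    intro x s hs' ha hs1 hPx hPv
    have hxne : x ≠ pone K := fun e => ha (by rw [e]; rfl)
    have hzne : zpar K s hs' ≠ pone K := fun e => hs1 (congrArg (fun t : Par K => t.1.2) e)
    have e1 := exact_form x hxne hPx
    have e2 := exact_form _ hzne (hz _ rfl hzne)
    have el : lp K (zpar K s hs') = zpar K s⁻¹ (by rw [map_inv₀, eq_neg_of_add_eq_zero_right hs', inv_neg, add_neg_cancel]) :=
      Subtype.ext (Prod.ext (by simp [lp, zpar]) rfl)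
    rw [el] at e2
    set v := pmul K (rp K x) (zpar K s⁻¹ (by rw [map_inv₀, eq_neg_of_add_eq_zero_right hs', inv_neg, add_neg_cancel])) with hv
    have hb : (K.bar x.1.2)⁻¹ ≠ 0 := inv_ne_zero ((map_ne_zero K.bar).2 (snd_ne_zero K hxne))
    have hm : (K.bar (zpar K s hs').1.2)⁻¹ ≠ 0 := inv_ne_zero ((map_ne_zero K.bar).2 hs1)
    show Big _
    have eq : W * Φ (pmul K x (zpar K s hs')) * W = Φ (lp K x) * (H (K.bar x.1.2)⁻¹ *
        ((W * Φ v * W) * (W * H (K.bar (zpar K s hs').1.2)⁻¹ * W) * Φ (rp K (zpar K s hs')))) := by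
      rw [← hΦ, show W * (Φ x * Φ (zpar K s hs')) * W = W * Φ x * (W * W) * Φ (zpar K s hs') * W by
        rw [hW, mul_one]; group,
        show W * Φ x * (W * W) * Φ (zpar K s hs') * W = (W * Φ x * W) * (W * Φ (zpar K s hs') * W) by group,
        e1, e2, hv, ← hΦ,
        show ∀ A B C E : G, W * (A * B) * W * (W * C * W) * E = W * A * B * (W * W) * C * W * E from
          fun A B C E => by group, hW, mul_one]
      group
    rw [eq, WH _ hm, mul_assoc (H (K.bar (K.bar (zpar K s hs').1.2)⁻¹)⁻¹), hW, mul_one]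
    exact bigΦl _ _ (bigHl _ hb _ (bigΦr _ _ (bigHr _ (inv_ne_zero ((map_ne_zero K.bar).2 hm)) _ hPv)))
  have hm1 : ∀ g : F, g * K.bar g = 1 → g ≠ 1 → (1 : F) * K.bar 1 + sec K 1 g + K.bar (sec K 1 g) = 0 :=
    fun g h1 h2 => sec_mem K h1 h2
  have all : ∀ x, x ≠ pone K → P x := fun x hx =>
    all_params K hact hinvP hrp hμ D.gen D.bar_ne D.ker one_ne_zero
      (fun hm => big_of_pow _ (seed hm)) hz hrule hx
  -- closure
  set S : Set G := {g | (∃ x l, l ≠ 0 ∧ g = Φ x * H l) ∨ Big g}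
  have SΦ : ∀ x g, g ∈ S → Φ x * g ∈ S := by
    rintro x _ (⟨y, l, hl, rfl⟩ | hg)
    · exact Or.inl ⟨pmul K x y, l, hl, by rw [← hΦ, mul_assoc]⟩
    · exact Or.inr (bigΦl _ _ hg)
  have SH : ∀ m, m ≠ 0 → ∀ g, g ∈ S → H m * g ∈ S := by
    rintro m hm _ (⟨y, l, hl, rfl⟩ | hg)
    · exact Or.inl ⟨act K m y, m * l, mul_ne_zero hm hl, by
        rw [← Hmul m l hm hl, ← mul_assoc, Hphi m hm, mul_assoc]⟩
    · exact Or.inr (bigHl _ hm _ hg)
  have SW : ∀ g, g ∈ S → W * g ∈ S := by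
    rintro _ (⟨y, l, hl, rfl⟩ | ⟨a, l, y, hl, rfl⟩)
    · refine Or.inr ?_
      rw [← mul_assoc]
      exact bigHr _ hl _ (bigΦr _ _ bigW)
    · have hl' : (K.bar l)⁻¹ ≠ 0 := inv_ne_zero ((map_ne_zero K.bar).2 hl)
      have eq : W * (Φ a * H l * W * Φ y) = (W * Φ a * W) * H (K.bar l)⁻¹ * Φ y := by
        calc W * (Φ a * H l * W * Φ y) = W * Φ a * (W * W) * H l * W * Φ y := by rw [hW, mul_one]; group
          _ = W * Φ a * W * (W * H l) * W * Φ y := by group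
          _ = W * Φ a * W * H (K.bar l)⁻¹ * (W * W) * Φ y := by rw [WH l hl]; group
          _ = _ := by rw [hW, mul_one]
      rw [eq]
      by_cases ha : a = pone K
      · left
        rw [ha, Φ1, mul_one, hW, one_mul, Hphi _ hl']
        exact ⟨_, _, hl', rfl⟩
      · exact Or.inr (bigΦr _ _ (bigHr _ hl' _ (all a ha)))
  have full : ∀ g : G, g ∈ S := by
    intro g
    have hg : g ∈ Subgroup.closure (Set.range Φ ∪ {h, W}) := by rw [hgen]; trivial
    induction hg using Subgroup.closure_induction_left with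
    | one => exact Or.inl ⟨pone K, 1, one_ne_zero, by rw [Φ1, H1, mul_one]⟩
    | mul_left x hx y _ ih =>
      rcases hx with ⟨a, rfl⟩ | rfl | rfl
      · exact SΦ a _ ih
      · have := SH μ hμ _ ih
        rwa [show H μ = x by simpa using Hpow 1] at this
      · exact SW _ ih
    | inv_mul_cancel x hx y _ ih =>
      rcases hx with ⟨a, rfl⟩ | rfl | rfl
      · rw [Φinv]; exact SΦ _ _ ih
      · have := SH μ⁻¹ (inv_ne_zero hμ) _ ih
        rwa [← Hinv μ hμ, show H μ = x by simpa using Hpow 1] at this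
      · rw [hWi]; exact SW _ ih
  let ι := (Par K × Fˣ) ⊕ (Par K × Fˣ × Par K)
  let e : ι → G := Sum.elim (fun d => Φ d.1 * H d.2) (fun d => Φ d.1 * H d.2.1 * W * Φ d.2.2)
  have he : Function.Surjective e := by
    intro g
    rcases full g with ⟨x, l, hl, rfl⟩ | ⟨a, l, y, hl, rfl⟩
    · exact ⟨Sum.inl (x, Units.mk0 l hl), rfl⟩
    · exact ⟨Sum.inr (a, Units.mk0 l hl, y), rfl⟩
  refine ⟨Finite.of_surjective e he, (Nat.card_le_card_of_surjective e he).trans (le_of_eq ?_)⟩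
  simp only [ι, Nat.card_sum, Nat.card_prod, ModuleIndex.UThree.card_par, Nat.card_units, K.card]
  ring

end CfsgLib.SUPres
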