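import Cfsg.Agent.Lib.SUPres.SmallFour

/-!
# Generators, relators and orbit tables for `SU₄(2)`
-/

set_option autoImplicit false
set_option linter.style.longLine false

namespace CfsgLib.SUPres

/-- the data -/
def dataQ2 : SmallData where
  fld := ⟨2, 1, 1⟩
  X := [[(0, 1), (1, 1), (1, 1)], [(0, 1), (1, 0), (0, 1)], [(1, 1), (1, 1), (0, 1)]]
  Y := [[(1, 0), (0, 1), (1, 0)], [(1, 1), (0, 1), (0, 1)], [(1, 0), (1, 0), (0, 1)]]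
  o := 4
  R := [[0, 0, 0, 0],
    [0, 2, 1, 2, 2, 0, 3, 0],
    [0, 2, 2, 0, 2, 2, 1, 3, 0, 2],
    [4, 4],
    [0, 3, 4, 3, 3, 4, 2, 0],
    [0, 4, 0, 4, 0, 4, 0, 4, 0, 4],
    [0, 4, 1, 4, 2, 0, 3, 4, 0, 4, 1, 3],
    [4, 2, 4, 1, 2, 4, 2, 4, 1, 3, 3, 4, 3]]
  T2 := [
    ([(0, 0), (0, 0), (1, 0)], []),
    ([(1, 1), (0, 1), (0, 1)], [0]),
    ([(0, 1), (0, 1), (1, 1)], [1]),
    ([(1, 0), (0, 1), (0, 1)], [2]),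
    ([(1, 0), (1, 0), (1, 1)], [3]),
    ([(1, 0), (0, 0), (0, 0)], [0, 0]),
    ([(0, 1), (1, 1), (1, 0)], [0, 2]),
    ([(1, 1), (0, 1), (1, 0)], [0, 3]),
    ([(1, 0), (1, 1), (0, 1)], [1, 2]),
    ([(1, 0), (0, 1), (1, 1)], [1, 3]),
    ([(0, 1), (0, 1), (0, 1)], [2, 0]),
    ([(0, 0), (1, 1), (0, 0)], [2, 2]),
    ([(0, 1), (1, 0), (1, 1)], [3, 0]),
    ([(0, 1), (0, 1), (1, 0)], [0, 0, 2]),
    ([(1, 1), (1, 0), (1, 0)], [0, 0, 3]),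
    ([(1, 1), (0, 1), (1, 1)], [0, 2, 0]),
    ([(0, 1), (1, 1), (0, 1)], [0, 2, 2]),
    ([(0, 1), (1, 1), (1, 1)], [0, 3, 0]),
    ([(1, 1), (1, 1), (0, 1)], [1, 3, 0]),
    ([(1, 0), (1, 1), (1, 0)], [2, 0, 0]),
    ([(1, 0), (1, 1), (1, 1)], [2, 0, 3]),
    ([(0, 1), (1, 0), (1, 0)], [2, 1, 2]),
    ([(1, 0), (1, 0), (0, 1)], [2, 1, 3]),
    ([(1, 1), (1, 0), (1, 1)], [2, 2, 0]),
    ([(1, 0), (0, 1), (1, 0)], [3, 0, 3]),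
    ([(1, 1), (1, 0), (0, 1)], [0, 0, 3, 0]),
    ([(1, 1), (1, 1), (1, 1)], [0, 2, 0, 0]),
    ([(0, 1), (0, 0), (0, 0)], [0, 2, 0, 3]),
    ([(1, 1), (0, 0), (0, 0)], [0, 2, 1, 2]),
    ([(0, 0), (0, 0), (1, 1)], [0, 2, 1, 3]),
    ([(0, 0), (1, 0), (0, 0)], [0, 2, 2, 0]),
    ([(0, 0), (0, 1), (0, 0)], [0, 3, 0, 3]),
    ([(0, 0), (0, 0), (0, 1)], [1, 2, 0, 3]),
    ([(1, 0), (1, 0), (1, 0)], [2, 2, 1, 2]),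
    ([(1, 1), (1, 1), (1, 0)], [0, 0, 2, 0, 3]),
    ([(0, 1), (1, 0), (0, 1)], [0, 2, 2, 1, 2])]
  T1 := [
    ([(1, 0), (0, 0), (0, 0)], []),
    ([(0, 0), (0, 1), (0, 0)], [0, 2, 0, 2]),
    ([(0, 0), (1, 0), (0, 0)], [0, 2, 2, 1]),
    ([(0, 1), (0, 0), (0, 0)], [0, 3, 0, 2]),
    ([(1, 1), (0, 0), (0, 0)], [3, 1, 2, 1]),
    ([(0, 0), (1, 1), (0, 0)], [0, 0, 2, 2, 0, 0])]

theorem dataQ2_mem : dataQ2.memOK = true := by decide +kernel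

theorem dataQ2_rel : dataQ2.relOK = true := by decide +kernel

theorem dataQ2_tab2 : dataQ2.tab2OK = true := by decide +kernel

theorem dataQ2_tab1 : dataQ2.tab1OK = true := by decide +kernel

theorem dataQ2_all : dataQ2.allOK = true := by decide +kernel

end CfsgLib.SUPres
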