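import Cfsg.Agent.Lib.Classical.Phan.Main
import Cfsg.Agent.Lib.PhanSmall.Main
import Cfsg.Agent.Lib.SLPres.NGlue

/-!
# Windows glued along an alternating group

A copy of `SU₃` and a copy of `A_n` give a weak Phan system: the windows are the conjugates of the
first one. Everything here is at the level of subgroups, so only stabilisers of sets matter.
-/

set_option autoImplicit false
set_option linter.style.haveILetI false

namespace CfsgLib.SUPres

open Matrix Cfsg Equiv
open CfsgLib.Classical.Herm
open CfsgLib.Classical.Phan (Blk bv bA bB emb Pair range_emb_two h01 h12 exists_Conj)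
open CfsgLib.ClassicalAut (Unitary.Conj)

variable {n : ℕ}

/-- The point `i` of `Fin n`. -/
def pt [NeZero n] (i : ℕ) : Fin n := Fin.ofNat n i

theorem pt_val [NeZero n] {i : ℕ} (h : i < n) : ((pt i : Fin n) : ℕ) = i := Nat.mod_eq_of_lt h

theorem pt_inj [NeZero n] {i j : ℕ} (hi : i < n) (hj : j < n) : (pt i : Fin n) = pt j ↔ i = j :=
  ⟨fun h => by rw [← pt_val hi, h, pt_val hj], fun h => h ▸ rfl⟩

/-- The first `k` points. -/
def pts (k : ℕ) [NeZero n] : Finset (Fin n) := (Finset.range k).image pt

theorem mem_pts [NeZero n] {k : ℕ} (hk : k ≤ n) {x : Fin n} : x ∈ pts k ↔ (x : ℕ) < k := by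
  simp only [pts, Finset.mem_image, Finset.mem_range]
  constructor
  · rintro ⟨i, hi, rfl⟩; rw [pt_val (by omega)]; exact hi
  · intro h; exact ⟨x, h, Fin.ext (pt_val x.2)⟩

/-- An even permutation with prescribed images up to a transposition of two of the arguments. -/
theorem exists_even [NeZero n] {k : ℕ} (hk : k ≤ n) (v : ℕ → ℕ) (hv : ∀ i < k, v i < n)
    (hinj : ∀ i < k, ∀ j < k, v i = v j → i = j) {a b : ℕ} (ha : a < n) (hb : b < n) (hab : a ≠ b) :
    ∃ σ : alternatingGroup (Fin n), (∀ i < k, (σ : Perm (Fin n)) (pt i) = pt (v i)) ∨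
      ∀ i < k, (σ : Perm (Fin n)) (pt i) = pt (v (if i = a then b else if i = b then a else i)) ∨
        ((i = a → k ≤ b) ∧ (i = b → k ≤ a) ∧ (i = a ∨ i = b)) := by
  obtain ⟨g, hg⟩ := SLPres.exists_perm_extend (n := n) (k := k)
    (v := fun i : Fin k => pt (i : ℕ)) (w := fun i : Fin k => pt (v i))
    (fun i j h => Fin.ext ((pt_inj (by omega) (by omega)).1 h))
    (fun i j h => Fin.ext (hinj i i.2 j j.2 ((pt_inj (hv i i.2) (hv j j.2)).1 h)))
  rcases Int.units_eq_one_or (Perm.sign g) with h | h
  · exact ⟨⟨g, h⟩, Or.inl fun i hi => hg ⟨i, hi⟩⟩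
  refine ⟨⟨g * swap (pt a) (pt b), by
    rw [Perm.mem_alternatingGroup, Perm.sign_mul, h,
      Perm.sign_swap (fun e => hab ((pt_inj ha hb).1 e))]
    decide⟩, Or.inr fun i hi => ?_⟩
  have hs : ∀ x, x < n → (swap (pt a) (pt b) : Perm (Fin n)) (pt x) =
      pt (if x = a then b else if x = b then a else x) := fun x hx => by
    split_ifs with h1 h2
    · rw [h1, swap_apply_left]
    · rw [h2, swap_apply_right]
    · exact swap_apply_of_ne_of_ne (fun e => h1 ((pt_inj hx ha).1 e)) (fun e => h2 ((pt_inj hx hb).1 e))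
  by_cases hin : (if i = a then b else if i = b then a else i) < k
  · left
    rw [Perm.mul_apply, hs i (by omega)]
    exact hg ⟨_, hin⟩
  · right
    split_ifs at hin with h1 h2
    · exact ⟨fun _ => by omega, fun e => absurd (h1.symm.trans e) hab, Or.inl h1⟩
    · exact ⟨fun e => absurd e h1, fun _ => by omega, Or.inr h2⟩
    · omega

/-- Consecutive three-cycles generate the alternating group. -/
theorem three_chain [NeZero n] (H : Subgroup (alternatingGroup (Fin n)))
    (hc : ∀ j, j + 2 < n → ∃ c ∈ H, (c : Perm (Fin n)) (pt j) = pt (j + 1) ∧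
      ∀ i < n, i ≠ j → i ≠ j + 1 → i ≠ j + 2 → (c : Perm (Fin n)) (pt i) = pt i) : H = ⊤ := by
  suffices key : ∀ m, ∀ σ : alternatingGroup (Fin n),
      (∀ i : Fin n, m ≤ (i : ℕ) → (σ : Perm (Fin n)) i = i) → σ ∈ H from
    eq_top_iff.2 fun σ _ => key n σ fun i hi => absurd i.2 (by omega)
  intro m
  induction m with
  | zero => intro σ h; rw [show σ = 1 from Subtype.ext (Perm.ext fun i => h i (Nat.zero_le _))]; exact one_mem H
  | succ m ih =>
    intro σ h
    by_cases hm : n ≤ m
    · exact ih σ fun i hi => absurd i.2 (by omega)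
    push Not at hm
    by_cases hfix : (σ : Perm (Fin n)) (pt m) = pt m
    · refine ih σ fun i hi => ?_
      by_cases e : (i : ℕ) = m
      · rw [show i = pt m from Fin.ext (by rw [pt_val hm, e])]; exact hfix
      · exact h i (by omega)
    set a := ((σ : Perm (Fin n)) (pt m) : ℕ) with hadef
    have hane : a ≠ m := fun e => hfix (Fin.ext (e.trans (pt_val hm).symm))
    have ham : a < m := by
      by_contra hh
      have h1 := h ((σ : Perm (Fin n)) (pt m)) (by omega)
      exact hfix ((σ : Perm (Fin n)).injective h1)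
    rcases (show m = 1 ∨ 2 ≤ m by omega) with rfl | h2
    · exfalso
      have hs : (σ : Perm (Fin n)) = swap (pt 0) (pt 1) := by
        have h10 : (σ : Perm (Fin n)) (pt 1) = pt 0 := Fin.ext (by rw [← hadef, pt_val (by omega)]; omega)
        have h00 : (σ : Perm (Fin n)) (pt 0) = pt 1 := by
          by_contra hh
          set b := (σ : Perm (Fin n)) (pt 0) with hb
          rcases Nat.lt_or_ge (b : ℕ) 2 with hb2 | hb2
          · have : b = pt 0 := Fin.ext (by
              rw [pt_val (by omega)]
              by_contra h0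
              exact hh (Fin.ext (by rw [pt_val hm]; omega)))
            have := (σ : Perm (Fin n)).injective ((hb.symm.trans this).trans h10.symm)
            exact absurd ((pt_inj (by omega) hm).1 this) (by omega)
          · have := (σ : Perm (Fin n)).injective (h b hb2)
            rw [this, pt_val (by omega)] at hb2
            omega
        ext i
        rcases Nat.lt_or_ge (i : ℕ) 2 with hi | hi
        · rcases (show (i : ℕ) = 0 ∨ (i : ℕ) = 1 by omega) with e | e
          · rw [show i = pt 0 from Fin.ext (by rw [pt_val (by omega), e]), h00, swap_apply_left]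
          · rw [show i = pt 1 from Fin.ext (by rw [pt_val (by omega), e]), h10, swap_apply_right]
        · rw [h i hi, swap_apply_of_ne_of_ne]
          · intro e; rw [e, pt_val (by omega)] at hi; omega
          · intro e; rw [e, pt_val (by omega)] at hi; omega
      have h3 := σ.2
      rw [Perm.mem_alternatingGroup, hs, Perm.sign_swap (fun e => absurd ((pt_inj (by omega) hm).1 e) (by omega))] at h3
      exact absurd h3 (by decide)
    -- walk the image up to `m`
    obtain ⟨d, hd⟩ : ∃ d, a + d = m := ⟨m - a, by omega⟩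
    have walk : ∀ d a, a + d = m → ∃ g ∈ H, (∀ i : Fin n, m + 1 ≤ (i : ℕ) → (g : Perm (Fin n)) i = i) ∧
        (g : Perm (Fin n)) (pt a) = pt m := by
      intro d
      induction d with
      | zero => intro a ha; exact ⟨1, one_mem H, fun _ _ => rfl, by simp [show a = m by omega]⟩
      | succ d ihd =>
        intro a ha
        obtain ⟨g, hg, hgf, hga⟩ := ihd (a + 1) (by omega)
        by_cases he : a + 2 ≤ m
        · obtain ⟨c, hc, hc1, hcf⟩ := hc a (by omega)
          refine ⟨g * c, mul_mem hg hc, fun i hi => ?_, ?_⟩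
          · have := hcf i i.2 (by omega) (by omega) (by omega)
            rw [show pt (i : ℕ) = i from Fin.ext (pt_val i.2)] at this
            rw [Subgroup.coe_mul, Perm.mul_apply, this, hgf i hi]
          · rw [Subgroup.coe_mul, Perm.mul_apply, hc1, hga]
        · -- `a = m - 1`: the cycle ending at `m` moves `m - 1` to `m` or its inverse does
          obtain ⟨c, hc, hc1, hcf⟩ := hc (a - 1) (by omega)
          rw [show a - 1 + 1 = a by omega] at hc1
          have hcm : (c : Perm (Fin n)) (pt a) = pt m := by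
            have key : ∀ i : Fin n, (i : ℕ) ≠ a - 1 → (i : ℕ) ≠ a → (i : ℕ) ≠ a + 1 →
                (c : Perm (Fin n)) i = i := fun i h1 h2 h3 => by
              have := hcf i i.2 h1 (by omega) (by omega)
              rwa [show pt (i : ℕ) = i from Fin.ext (pt_val i.2)] at this
            set y := (c : Perm (Fin n)) (pt a) with hy
            have hya : y ≠ pt a := fun e => by
              have := (c : Perm (Fin n)).injective (hc1.trans e.symm)
              exact absurd ((pt_inj (by omega) (by omega)).1 this) (by omega)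
            have hyb : y ≠ pt (a - 1) := fun e => by
              have h4 : (c : Perm (Fin n)) (pt m) = pt m := by
                by_contra hne
                set z := (c : Perm (Fin n)) (pt m) with hz
                have z1 : z ≠ pt a := fun e' => absurd ((pt_inj hm (by omega)).1
                  ((c : Perm (Fin n)).injective (e'.trans hc1.symm))) (by omega)
                have z2 : z ≠ pt (a - 1) := fun e' => absurd ((pt_inj hm (by omega)).1
                  ((c : Perm (Fin n)).injective (e'.trans e.symm))) (by omega)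
                refine hne ((c : Perm (Fin n)).injective (key z ?_ ?_ ?_))
                · exact fun h' => z2 (Fin.ext (by rw [h', pt_val (by omega)]))
                · exact fun h' => z1 (Fin.ext (by rw [h', pt_val (by omega)]))
                · exact fun h' => hne (Fin.ext (by rw [h', pt_val hm]; omega))
              have hsw : (c : Perm (Fin n)) = swap (pt (a - 1)) (pt a) := by
                ext i
                by_cases i1 : i = pt (a - 1)
                · rw [i1, hc1, swap_apply_left]
                by_cases i2 : i = pt a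
                · rw [i2, swap_apply_right, ← hy, e]
                rw [swap_apply_of_ne_of_ne i1 i2]
                by_cases i3 : i = pt m
                · rw [i3, h4]
                rw [key i (fun h' => i1 (Fin.ext (by rw [h', pt_val (by omega)])))
                  (fun h' => i2 (Fin.ext (by rw [h', pt_val (by omega)])))
                  (fun h' => i3 (Fin.ext (by rw [h', pt_val hm]; omega)))]
              have h5 := c.2
              rw [Perm.mem_alternatingGroup, hsw,
                Perm.sign_swap (fun e => absurd ((pt_inj (by omega) (by omega)).1 e) (by omega))] at h5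
              exact absurd h5 (by decide)
            by_contra hne
            refine hya ((c : Perm (Fin n)).injective (key y ?_ ?_ ?_))
            · exact fun h' => hyb (Fin.ext (by rw [h', pt_val (by omega)]))
            · exact fun h' => hya (Fin.ext (by rw [h', pt_val (by omega)]))
            · exact fun h' => hne (Fin.ext (by rw [h', pt_val hm]; omega))
          refine ⟨c, hc, fun i hi => ?_, hcm⟩
          have := hcf i i.2 (by omega) (by omega) (by omega)
          rwa [show pt (i : ℕ) = i from Fin.ext (pt_val i.2)] at this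
    obtain ⟨g, hg, hgf, hga⟩ := walk d a hd
    have hs : (σ : Perm (Fin n)) (pt m) = pt a := Fin.ext (by rw [pt_val (by omega)])
    have := ih (g * σ) fun i hi => by
      rw [Subgroup.coe_mul, Perm.mul_apply]
      by_cases e : (i : ℕ) = m
      · rw [show i = pt m from Fin.ext (by rw [pt_val hm, e]), hs, hga]
      · rw [h i (by omega), hgf i (by omega)]
    have h2 := mul_mem (inv_mem hg) this
    rwa [inv_mul_cancel_left] at h2

variable {F : Type*} [Field F] [Finite F] {q : ℕ} (K : Unitary.Conj F q)

include K in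
/-- Two windows of three generate `SU₄`. -/
theorem four_top :
    (Blk 0 3 : Subgroup (SU 4 F q)) ⊔ Blk 1 4 = ⊤ := by
  let S : PhanSmall.Sys4 (F := F) (q := q) (SU 4 F q) 4 :=
    { π := MonoidHom.id _
      B := fun a b => Blk a b
      mapB := fun a b _ => Subgroup.map_id _
      mono := fun a b a' b' _ _ h h' => Classical.Phan.Blk_mono h h'
      comm := fun a b c d _ _ hbc x hx y hy => Classical.Phan.comm_Blk_Fix K hbc hx
        (Classical.Phan.Blk_le_Fix le_rfl hy)
      injW := fun _ _ => Function.injective_id.injOn }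
  refine eq_top_iff.2 fun g _ => ?_
  obtain ⟨x, hx, rfl⟩ := S.surj K 0 g (by rw [Classical.Phan.Fix_zero]; exact Subgroup.mem_top g)
  have hle : S.L 0 ≤ (Blk 0 3 : Subgroup (SU 4 F q)) ⊔ Blk 1 4 := S.L_le fun a b _ h => by
    obtain ⟨h1, h2, h3⟩ := h
    by_cases hb : b ≤ 3
    · exact (Classical.Phan.Blk_mono (Nat.zero_le a) hb).trans le_sup_left
    · exact (Classical.Phan.Blk_mono (show 1 ≤ a by omega) (show b ≤ 4 by omega)).trans le_sup_right
  exact hle hx

include K in
/-- The window of three is generated by its two blocks when `q ≥ 3`. -/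
theorem three_top' (hq : 3 ≤ q) : (bA K : SU 2 F q →* SU 3 F q).range ⊔ (bB K).range = ⊤ := by
  rcases Nat.lt_or_ge q 4 with h | h
  · refine PhanSmall.three_top K (Or.inr (by omega)) _ ?_ ?_ (fun e => absurd e (by omega))
    · rw [← range_emb_two K h01]; exact le_sup_left
    · rw [← range_emb_two K h12]; exact le_sup_right
  · exact Classical.Phan.blocks_top K h

variable {G : Type*} [Group G]

/-- Conjugation of a subgroup by the image of a permutation. -/
def cU (τ : alternatingGroup (Fin n) →* G) (S : Subgroup G) (σ : alternatingGroup (Fin n)) : Subgroup G :=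
  S.map (MulAut.conj (τ σ)).toMonoidHom

theorem cU_mul (τ : alternatingGroup (Fin n) →* G) (S : Subgroup G) (σ σ' : alternatingGroup (Fin n)) :
    cU τ S (σ * σ') = cU τ (cU τ S σ') σ := by
  rw [cU, cU, cU, Subgroup.map_map]
  congr 1
  ext x
  simp [mul_assoc]

theorem cU_one (τ : alternatingGroup (Fin n) →* G) (S : Subgroup G) : cU τ S 1 = S := by
  rw [cU]
  convert Subgroup.map_id S
  ext x
  simp

theorem cU_commute {τ : alternatingGroup (Fin n) →* G} {A B : Subgroup G}
    (h : ∀ x ∈ A, ∀ y ∈ B, x * y = y * x) (σ : alternatingGroup (Fin n)) :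
    ∀ x ∈ cU τ A σ, ∀ y ∈ cU τ B σ, x * y = y * x := by
  rintro _ ⟨x, hx, rfl⟩ _ ⟨y, hy, rfl⟩
  rw [← map_mul, h x hx y hy, map_mul]

/-- The data of a glued system. -/
structure GlueData [NeZero n] (τ : alternatingGroup (Fin n) →* G) (ψ : SU 3 F q →* G) : Prop where
  inj : Function.Injective ψ
  norm01 : ∀ σ : alternatingGroup (Fin n), (pts 2).image (σ : Perm (Fin n)) = pts 2 →
    cU τ (ψ.comp (bA K)).range σ = (ψ.comp (bA K)).range
  next : ∃ c : alternatingGroup (Fin n), τ c ∈ ψ.range ∧ (c : Perm (Fin n)) (pt 0) = pt 1 ∧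
    (c : Perm (Fin n)) (pt 1) = pt 2 ∧ (c : Perm (Fin n)) (pt 2) = pt 0 ∧
    (∀ i < n, 3 ≤ i → (c : Perm (Fin n)) (pt i) = pt i) ∧
    (ψ.comp (bB K)).range = cU τ (ψ.comp (bA K)).range c
  comm : ∃ σ : alternatingGroup (Fin n), (σ : Perm (Fin n)) (pt 0) = pt 2 ∧
    (σ : Perm (Fin n)) (pt 1) = pt 3 ∧
    ∀ x ∈ (ψ.comp (bA K)).range, ∀ y ∈ cU τ (ψ.comp (bA K)).range σ, x * y = y * x
  gen : ψ.range ⊔ τ.range = ⊤
  small : q = 2 ∨ q = 3 → 5 ≤ n ∧ ∃ (d : alternatingGroup (Fin n)) (Φ : SU 4 F q →* G),
    (d : Perm (Fin n)) (pt 0) = pt 3 ∧ (d : Perm (Fin n)) (pt 3) = pt 0 ∧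
    (d : Perm (Fin n)) (pt 1) = pt 2 ∧ (d : Perm (Fin n)) (pt 2) = pt 1 ∧
    Φ.comp (emb K PhanSmall.h03) = ψ ∧ (Φ.comp (emb K PhanSmall.h14)).range = cU τ ψ.range d
  two : q = 2 →
    (∀ σ : alternatingGroup (Fin n), (pts 3).image (σ : Perm (Fin n)) = pts 3 → cU τ ψ.range σ = ψ.range) ∧
    (∀ σ : alternatingGroup (Fin n), Disjoint ((pts 2).image (σ : Perm (Fin n))) (pts 3) →
      ∀ x ∈ cU τ (ψ.comp (bA K)).range σ, ∀ y ∈ ψ.range, x * y = y * x) ∧
    (∀ σ : alternatingGroup (Fin n), Disjoint ((pts 3).image (σ : Perm (Fin n))) (pts 3) →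
      ∀ x ∈ ψ.range, ∀ y ∈ cU τ ψ.range σ, x * y = y * x)

theorem image_pts [NeZero n] {k : ℕ} (σ : Perm (Fin n)) :
    (pts k).image σ = (Finset.range k).image fun i => σ (pt i) := by
  rw [pts, Finset.image_image]; rfl

set_option maxHeartbeats 2000000 in
include K in
/-- The glued system makes the group a quotient of `SU_n`. -/
theorem glue_main [NeZero n] (hn : 4 ≤ n) {τ : alternatingGroup (Fin n) →* G} {ψ : SU 3 F q →* G}
    (D : GlueData K τ ψ) : ∃ f : SU n F q →* G, Function.Surjective f := by
  classical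
  obtain ⟨c, hcψ, c0, c1, c2, cfix, hB⟩ := D.next
  obtain ⟨p, p0, p1, hp⟩ := D.comm
  set U₀ := (ψ.comp (bA K)).range with hU₀
  set V₀ := ψ.range with hV₀
  have hq := K.two_le
  -- transporting along sets
  have trans2 : ∀ σ σ' : alternatingGroup (Fin n),
      (pts 2).image (σ : Perm (Fin n)) = (pts 2).image (σ' : Perm (Fin n)) → cU τ U₀ σ = cU τ U₀ σ' := by
    intro σ σ' h
    have h2 : (pts 2).image ((σ'⁻¹ * σ : alternatingGroup (Fin n)) : Perm (Fin n)) = pts 2 := by
      rw [Subgroup.coe_mul, Perm.coe_mul, ← Finset.image_image, h, Finset.image_image]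
      convert Finset.image_id (s := pts 2)
      funext x
      simp
    rw [show σ = σ' * (σ'⁻¹ * σ) by group, cU_mul, D.norm01 _ h2]
  have blocks : q ≠ 2 → V₀ = U₀ ⊔ cU τ U₀ c := fun h2 => by
    rw [hV₀, hU₀, ← hB, MonoidHom.range_comp, MonoidHom.range_comp, ← Subgroup.map_sup,
      three_top' K (by omega), ← MonoidHom.range_eq_map]
  have img3 : (pts 3 : Finset (Fin n)) = {pt 0, pt 1, pt 2} := by
    ext x; simp [pts, Finset.range_add_one]; tauto
  have img2 : (pts 2 : Finset (Fin n)) = {pt 0, pt 1} := by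
    rw [pts]; simp [Finset.range_add_one, Finset.pair_comm]
  have norm3 : ∀ σ : alternatingGroup (Fin n), (pts 3).image (σ : Perm (Fin n)) = pts 3 →
      cU τ V₀ σ = V₀ := by
    intro σ hσ
    by_cases h2 : q = 2
    · exact (D.two h2).1 σ hσ
    have inv : ∀ τ' : alternatingGroup (Fin n), (pts 3).image (τ' : Perm (Fin n)) = pts 3 →
        cU τ V₀ τ' ≤ V₀ := by
      intro τ' hτ'
      have hin : ∀ g : alternatingGroup (Fin n), (pts 2).image (g : Perm (Fin n)) ⊆ pts 3 → cU τ U₀ g ≤ V₀ := by
        intro g hg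
        obtain ⟨e, he, heq⟩ : ∃ e : alternatingGroup (Fin n), (e = 1 ∨ e = c ∨ e = c * c) ∧
            (pts 2).image (g : Perm (Fin n)) = (pts 2).image (e : Perm (Fin n)) := by
          rw [img3, img2, Finset.image_insert, Finset.image_singleton] at hg
          have hne : (g : Perm (Fin n)) (pt 0) ≠ (g : Perm (Fin n)) (pt 1) := fun h =>
            absurd ((pt_inj (by omega) (by omega)).1 ((g : Perm (Fin n)).injective h)) (by omega)
          simp only [Finset.insert_subset_iff, Finset.singleton_subset_iff, Finset.mem_insert,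
            Finset.mem_singleton] at hg
          obtain ⟨h0, h1⟩ := hg
          simp only [img2, Finset.image_insert, Finset.image_singleton]
          rcases h0 with h0 | h0 | h0 <;> rcases h1 with h1 | h1 | h1 <;>
            rw [h0, h1] at hne ⊢ <;>
            first
            | exact absurd rfl hne
            | (refine ⟨1, Or.inl rfl, ?_⟩; simp [Finset.pair_comm]; done)
            | (refine ⟨c, Or.inr (Or.inl rfl), ?_⟩; simp [c0, c1, Finset.pair_comm]; done)
            | (refine ⟨c * c, Or.inr (Or.inr rfl), ?_⟩; simp [c0, c1, c2, Finset.pair_comm]; done)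
        rw [trans2 g e heq]
        rcases he with rfl | rfl | rfl
        · rw [cU_one, blocks h2]; exact le_sup_left
        · rw [blocks h2]; exact le_sup_right
        · rw [cU_mul]
          rintro _ ⟨y, hy, rfl⟩
          have hy' : y ∈ V₀ := by rw [blocks h2]; exact Subgroup.mem_sup_right hy
          exact mul_mem (mul_mem hcψ hy') (inv_mem hcψ)
      rw [blocks h2, cU, Subgroup.map_sup, ← cU, ← cU, ← cU_mul, ← blocks h2]
      refine sup_le (hin _ ?_) (hin _ ?_)
      · rw [← hτ']; exact Finset.image_subset_image (by rw [img2, img3]; intro x; simp; tauto)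
      · rw [Subgroup.coe_mul, Perm.coe_mul, ← Finset.image_image]
        refine subset_of_subset_of_eq (Finset.image_subset_image ?_) hτ'
        rw [img2, img3, Finset.image_insert, Finset.image_singleton, c0, c1]
        intro x; simp; tauto
    refine le_antisymm (inv σ hσ) ?_
    have hσ' : (pts 3).image ((σ⁻¹ : alternatingGroup (Fin n)) : Perm (Fin n)) = pts 3 := by
      conv_lhs => rw [← hσ, Finset.image_image]
      convert Finset.image_id (s := pts 3)
      funext x
      simp
    intro x hx
    have h1 := inv σ⁻¹ hσ' ⟨x, hx, rfl⟩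
    exact ⟨_, h1, by simp [mul_assoc]⟩
  have trans3 : ∀ σ σ' : alternatingGroup (Fin n),
      (pts 3).image (σ : Perm (Fin n)) = (pts 3).image (σ' : Perm (Fin n)) → cU τ V₀ σ = cU τ V₀ σ' := by
    intro σ σ' h
    have h2 : (pts 3).image ((σ'⁻¹ * σ : alternatingGroup (Fin n)) : Perm (Fin n)) = pts 3 := by
      rw [Subgroup.coe_mul, Perm.coe_mul, ← Finset.image_image, h, Finset.image_image]
      convert Finset.image_id (s := pts 3)
      funext x
      simp
    rw [show σ = σ' * (σ'⁻¹ * σ) by group, cU_mul, norm3 _ h2]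
  -- windows
  have win : ∀ k, ∀ j, j + k ≤ n → ∃ σ : alternatingGroup (Fin n),
      ((∀ i < k, (σ : Perm (Fin n)) (pt i) = pt (j + i)) ∨
      (k = 2 ∧ (σ : Perm (Fin n)) (pt 0) = pt (j + 1) ∧ (σ : Perm (Fin n)) (pt 1) = pt j) ∨
      (k = 3 ∧ (σ : Perm (Fin n)) (pt 0) = pt (j + 2) ∧ (σ : Perm (Fin n)) (pt 1) = pt (j + 1) ∧
        (σ : Perm (Fin n)) (pt 2) = pt j) ∨
      (k = 4 ∧ (σ : Perm (Fin n)) (pt 0) = pt j ∧ (σ : Perm (Fin n)) (pt 1) = pt (j + 2) ∧
        (σ : Perm (Fin n)) (pt 2) = pt (j + 1) ∧ (σ : Perm (Fin n)) (pt 3) = pt (j + 3)) ∨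
      (k < 2 ∨ 4 < k)) := by
    intro k j hj
    by_cases hk : k < 2 ∨ 4 < k
    · exact ⟨1, by tauto⟩
    have hk' : k = 2 ∨ k = 3 ∨ k = 4 := by omega
    set a := if k = 4 then 1 else 0 with ha
    set b := if k = 2 then 1 else 2 with hb
    obtain ⟨σ, h | h⟩ := exists_even (n := n) (k := k) (by omega) (fun i => j + i) (fun i hi => by omega)
      (fun i _ i' _ h => by omega) (a := a) (b := b) (by rw [ha]; split_ifs <;> omega)
      (by rw [hb]; split_ifs <;> omega) (by rw [ha, hb]; split_ifs <;> omega)
    · exact ⟨σ, Or.inl h⟩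
    refine ⟨σ, Or.inr ?_⟩
    have h' : ∀ i < k, (σ : Perm (Fin n)) (pt i) = pt (j + (if i = a then b else if i = b then a else i)) :=
      fun i hi => (h i hi).resolve_right (by
        rintro ⟨h1, h2, h3 | h3⟩
        · have := h1 h3; rw [hb] at this; split_ifs at this <;> omega
        · have := h2 h3; rw [ha] at this; split_ifs at this <;> omega)
    rcases hk' with rfl | rfl | rfl
    · exact Or.inl ⟨rfl, by simpa [ha, hb] using h' 0 (by omega), by simpa [ha, hb] using h' 1 (by omega)⟩
    · exact Or.inr (Or.inl ⟨rfl, by simpa [ha, hb] using h' 0 (by omega), by simpa [ha, hb] using h' 1 (by omega),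
        by simpa [ha, hb] using h' 2 (by omega)⟩)
    · exact Or.inr (Or.inr (Or.inl ⟨rfl, by simpa [ha, hb] using h' 0 (by omega), by simpa [ha, hb] using h' 1 (by omega),
        by simpa [ha, hb] using h' 2 (by omega), by simpa [ha, hb] using h' 3 (by omega)⟩))
  choose! σw hσw using win
  let U : ℕ → Subgroup G := fun j => cU τ U₀ (σw 2 j)
  let V : ℕ → Subgroup G := fun j => cU τ V₀ (σw 3 j)
  have U_eq : ∀ j, j + 2 ≤ n → ∀ g : alternatingGroup (Fin n),
      (pts 2).image (g : Perm (Fin n)) = {pt j, pt (j + 1)} → cU τ U₀ g = U j := by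
    intro j hj g hg
    refine trans2 _ _ (hg.trans ?_)
    rw [img2, Finset.image_insert, Finset.image_singleton]
    rcases hσw 2 j hj with h | ⟨-, h0, h1⟩ | ⟨e, -⟩ | ⟨e, -⟩ | e
    · simp [h 0 (by omega), h 1 (by omega)]
    · rw [h0, h1, Finset.pair_comm]
    all_goals omega
  have V_eq : ∀ j, j + 3 ≤ n → ∀ g : alternatingGroup (Fin n),
      (pts 3).image (g : Perm (Fin n)) = {pt j, pt (j + 1), pt (j + 2)} → cU τ V₀ g = V j := by
    intro j hj g hg
    refine trans3 _ _ (hg.trans ?_)
    rw [img3, Finset.image_insert, Finset.image_insert, Finset.image_singleton]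
    rcases hσw 3 j hj with h | ⟨e, -⟩ | ⟨-, h0, h1, h2⟩ | ⟨e, -⟩ | e
    · simp [h 0 (by omega), h 1 (by omega), h 2 (by omega)]
    · omega
    · rw [h0, h1, h2]; ext x; simp; tauto
    all_goals omega
  -- the reversal inside the window
  obtain ⟨s, hs0, hs1, hs2⟩ : ∃ s : SU 3 F q, app s (bv 0 : Fin 3 → F) = (-1 : F) • bv 2 ∧
      app s (bv 1 : Fin 3 → F) = (-1 : F) • bv 1 ∧ app s (bv 2 : Fin 3 → F) = (-1 : F) • bv 0 := by
    set A : Matrix (Fin 3) (Fin 3) F := !![0, 0, -1; 0, -1, 0; -1, 0, 0] with hA
    have hdet : A.det = 1 := by simp [hA, Matrix.det_fin_three]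
    have hmem : (⟨A, hdet⟩ : Matrix.SpecialLinearGroup (Fin 3) F) ∈ SU 3 F q := by
      intro x y
      show hermForm 3 F q (A *ᵥ x) (A *ᵥ y) = hermForm 3 F q x y
      simp only [CfsgLib.ClassicalAut.Unitary.herm_apply K, hA, Fin.sum_univ_three, mulVec, dotProduct]
      simp
      ring
    refine ⟨⟨_, hmem⟩, ?_, ?_, ?_⟩
    all_goals
      show A *ᵥ _ = _
      funext i
      fin_cases i <;> simp [hA, mulVec, dotProduct, Fin.sum_univ_three, Classical.Phan.bv_apply]
  have hsBlk : ((bA K : SU 2 F q →* SU 3 F q).range.map (MulAut.conj s).toMonoidHom = (bB K).range) ∧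
      ((bB K : SU 2 F q →* SU 3 F q).range.map (MulAut.conj s).toMonoidHom = (bA K).range) := by
    have hneg : ∀ g : SU 3 F q, ∀ i, app g (bv i : Fin 3 → F) = bv i →
        app g ((-1 : F) • bv i : Fin 3 → F) = (-1 : F) • bv i := fun g i h => by rw [app_smul, h]
    have si : ∀ i j, app s (bv i : Fin 3 → F) = (-1 : F) • bv j →
        app s⁻¹ (bv j : Fin 3 → F) = (-1 : F) • bv i := fun i j h => by
      have h1 : app s ((-1 : F) • bv i : Fin 3 → F) = bv j := by rw [app_smul, h, smul_smul]; simp
      conv_lhs => rw [← h1, app_inv]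
    have out : ∀ g : SU 3 F q, ∀ i, 3 ≤ i → app g (bv i : Fin 3 → F) = bv i := fun g i hi => by
      rw [bv, dif_neg (by omega), Classical.Phan.app_zero']
    have move : ∀ i j, app s (bv i : Fin 3 → F) = (-1 : F) • bv j → ∀ g : SU 3 F q,
        app g (bv i : Fin 3 → F) = bv i → app (s * g * s⁻¹) (bv j : Fin 3 → F) = bv j := fun i j h g hg => by
      rw [app_mul, app_mul, si i j h, hneg g i hg, app_smul, h, smul_smul]; simp
    have movei : ∀ i j, app s (bv i : Fin 3 → F) = (-1 : F) • bv j → ∀ g : SU 3 F q,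
        app g (bv j : Fin 3 → F) = bv j → app (s⁻¹ * g * s) (bv i : Fin 3 → F) = bv i := fun i j h g hg => by
      rw [app_mul, app_mul, h, hneg g j hg, app_smul, si i j h, smul_smul]; simp
    rw [range_emb_two K h01, range_emb_two K h12]
    constructor
    all_goals
      apply le_antisymm
      · rintro _ ⟨g, hg, rfl⟩ i hi
        by_cases h3 : 3 ≤ i
        · exact out _ i h3
        first
        | exact (show i = 0 by omega) ▸ move 2 0 hs2 g (hg 2 (by omega))
        | exact (show i = 2 by omega) ▸ move 0 2 hs0 g (hg 0 (by omega))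
      · intro g hg
        refine ⟨s⁻¹ * g * s, fun i hi => ?_, by simp [mul_assoc]⟩
        by_cases h3 : 3 ≤ i
        · exact out _ i h3
        first
        | exact (show i = 2 by omega) ▸ movei 2 0 hs2 g (hg 0 (by omega))
        | exact (show i = 0 by omega) ▸ movei 0 2 hs0 g (hg 2 (by omega))
  have hpair : ∀ j, j + 1 < n - 1 → ∃ χ, Pair K χ (U j) (U (j + 1)) (V j) := by
    intro j hj
    obtain ⟨σ, hσ⟩ : ∃ σ : alternatingGroup (Fin n),
        ((σ : Perm (Fin n)) (pt 0) = pt j ∧ (σ : Perm (Fin n)) (pt 1) = pt (j + 1) ∧ (σ : Perm (Fin n)) (pt 2) = pt (j + 2)) ∨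
        ((σ : Perm (Fin n)) (pt 0) = pt (j + 2) ∧ (σ : Perm (Fin n)) (pt 1) = pt (j + 1) ∧ (σ : Perm (Fin n)) (pt 2) = pt j) := by
      refine ⟨σw 3 j, ?_⟩
      rcases hσw 3 j (by omega) with h | ⟨e, -⟩ | ⟨-, h⟩ | ⟨e, -⟩ | e
      · exact Or.inl ⟨h 0 (by omega), h 1 (by omega), h 2 (by omega)⟩
      · omega
      · exact Or.inr h
      all_goals omega
    have hV : cU τ V₀ σ = V j := V_eq j (by omega) σ (by
      rw [img3, Finset.image_insert, Finset.image_insert, Finset.image_singleton]
      rcases hσ with ⟨h0, h1, h2⟩ | ⟨h0, h1, h2⟩ <;> rw [h0, h1, h2] <;> ext x <;> simp <;> tauto)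
    set cj := (MulAut.conj (τ σ)).toMonoidHom.comp ψ with hcj
    have cinj : Function.Injective cj := (MulAut.conj (τ σ)).injective.comp D.inj
    have rA : (cj.comp (bA K)).range = cU τ U₀ σ := by
      rw [hcj, hU₀, cU, MonoidHom.comp_assoc, MonoidHom.range_comp]
    have rB : (cj.comp (bB K)).range = cU τ U₀ (σ * c) := by
      rw [hcj, cU_mul, hU₀, ← hB, cU, MonoidHom.comp_assoc, MonoidHom.range_comp]
    have rV : cj.range = cU τ V₀ σ := by rw [hcj, hV₀, cU, MonoidHom.range_comp]
    have iA : (pts 2).image (σ : Perm (Fin n)) = {(σ : Perm (Fin n)) (pt 0), (σ : Perm (Fin n)) (pt 1)} := by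
      rw [img2, Finset.image_insert, Finset.image_singleton]
    have iB : (pts 2).image ((σ * c : alternatingGroup (Fin n)) : Perm (Fin n)) =
        {(σ : Perm (Fin n)) (pt 1), (σ : Perm (Fin n)) (pt 2)} := by
      rw [img2, Finset.image_insert, Finset.image_singleton, Subgroup.coe_mul, Perm.mul_apply, Perm.mul_apply, c0, c1]
    rcases hσ with ⟨h0, h1, h2⟩ | ⟨h0, h1, h2⟩
    · exact ⟨cj, cinj.comp (Classical.Phan.emb_injective K h01), cinj.comp (Classical.Phan.emb_injective K h12),
        rA.trans (U_eq j (by omega) σ (by rw [iA, h0, h1])),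
        rB.trans (U_eq (j + 1) (by omega) (σ * c) (by rw [iB, h1, h2])), rV.trans hV⟩
    · set cs := cj.comp (MulAut.conj s).toMonoidHom
      have csi : Function.Injective cs := cinj.comp (MulAut.conj s).injective
      refine ⟨cs, csi.comp (Classical.Phan.emb_injective K h01), csi.comp (Classical.Phan.emb_injective K h12), ?_, ?_, ?_⟩
      · rw [MonoidHom.comp_assoc, MonoidHom.range_comp, MonoidHom.range_comp, hsBlk.1, ← MonoidHom.range_comp]
        exact rB.trans (U_eq j (by omega) (σ * c) (by rw [iB, h1, h2, Finset.pair_comm]))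
      · rw [MonoidHom.comp_assoc, MonoidHom.range_comp, MonoidHom.range_comp, hsBlk.2, ← MonoidHom.range_comp]
        exact rA.trans (U_eq (j + 1) (by omega) σ (by rw [iA, h0, h1, Finset.pair_comm]))
      · rw [MonoidHom.range_comp, MonoidHom.range_eq_top.2 (MulAut.conj s).surjective,
          ← MonoidHom.range_eq_map]
        exact rV.trans hV
  have hc : ∀ i j, i + 2 ≤ j → j < n - 1 → ∀ x ∈ U i, ∀ y ∈ U j, x * y = y * x := by
    intro i j hij hj
    obtain ⟨σ, h | h⟩ := exists_even (n := n) (k := 4) (by omega)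
      (fun l => if l < 2 then i + l else j + (l - 2))
      (fun l hl => by split_ifs <;> omega) (fun l hl l' hl' h => by split_ifs at h <;> omega)
      (a := 0) (b := 1) (by omega) (by omega) (by omega)
    · have e1 := U_eq i (by omega) σ (by
        rw [img2, Finset.image_insert, Finset.image_singleton, h 0 (by omega), h 1 (by omega)]; simp)
      have e2 := U_eq j (by omega) (σ * p) (by
        rw [img2, Finset.image_insert, Finset.image_singleton, Subgroup.coe_mul, Perm.mul_apply,
          Perm.mul_apply, p0, p1, h 2 (by omega), h 3 (by omega)]; simp)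
      rw [← e1, ← e2, cU_mul]
      exact cU_commute hp σ
    · have h' : ∀ l < 4, (σ : Perm (Fin n)) (pt l) =
          pt (if (if l = 0 then 1 else if l = 1 then 0 else l) < 2 then
            i + (if l = 0 then 1 else if l = 1 then 0 else l) else
            j + ((if l = 0 then 1 else if l = 1 then 0 else l) - 2)) := fun l hl =>
        (h l hl).resolve_right (by rintro ⟨a1, a2, a3 | a3⟩ <;> omega)
      have e1 := U_eq i (by omega) σ (by
        rw [img2, Finset.image_insert, Finset.image_singleton, h' 0 (by omega), h' 1 (by omega)]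
        simp [Finset.pair_comm])
      have e2 := U_eq j (by omega) (σ * p) (by
        rw [img2, Finset.image_insert, Finset.image_singleton, Subgroup.coe_mul, Perm.mul_apply,
          Perm.mul_apply, p0, p1, h' 2 (by omega), h' 3 (by omega)]; simp)
      rw [← e1, ← e2, cU_mul]
      exact cU_commute hp σ
  obtain ⟨f₀, -, hfV₀⟩ : ∃ f : SU (n - 1 + 1) F q →* G,
      (∀ j, j < n - 1 → U j ≤ f.range) ∧ ∀ j, j + 1 < n - 1 → V j ≤ f.range := by
    by_cases h4 : 4 ≤ q
    · exact Classical.Phan.phan_main K h4 (n - 1) (by omega) U V hpair hc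
    have hsm : q = 2 ∨ q = 3 := by omega
    obtain ⟨hn5, d, Φ, d0, d3, d1, d2, hΦ0, hΦ1⟩ := D.small hsm
    refine PhanSmall.phan_small K hsm (n - 1) (by omega) U V hpair hc ?_ ?_ ?_
    · intro j hj
      obtain ⟨σ, hσ⟩ : ∃ σ : alternatingGroup (Fin n), (σ : Perm (Fin n)) (pt 0) = pt j ∧
          (σ : Perm (Fin n)) (pt 3) = pt (j + 3) ∧
          ({(σ : Perm (Fin n)) (pt 1), (σ : Perm (Fin n)) (pt 2)} : Finset (Fin n)) = {pt (j + 1), pt (j + 2)} := by
        refine ⟨σw 4 j, ?_⟩
        rcases hσw 4 j (by omega) with h | ⟨e, -⟩ | ⟨e, -⟩ | ⟨-, h0, h1, h2, h3⟩ | e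
        · exact ⟨h 0 (by omega), h 3 (by omega), by rw [h 1 (by omega), h 2 (by omega)]⟩
        · omega
        · omega
        · exact ⟨h0, h3, by rw [h1, h2, Finset.pair_comm]⟩
        · omega
      obtain ⟨s0, s3, s12⟩ := hσ
      set cΦ := (MulAut.conj (τ σ)).toMonoidHom.comp Φ with hcΦ
      have e0 : cU τ V₀ σ = V j := V_eq j (by omega) σ (by
        rw [img3, Finset.image_insert, Finset.image_insert, Finset.image_singleton, s0, s12])
      have e1 : cU τ V₀ (σ * d) = V (j + 1) := V_eq (j + 1) (by omega) (σ * d) (by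
        rw [img3, Finset.image_insert, Finset.image_insert, Finset.image_singleton, Subgroup.coe_mul,
          Perm.mul_apply, Perm.mul_apply, Perm.mul_apply, d0, d1, d2, s3, Finset.pair_comm, s12,
          show j + 1 + 2 = j + 3 by omega, show j + 1 + 1 = j + 2 by omega]
        ext x; simp; tauto)
      have hr : cΦ.range = V j ⊔ V (j + 1) := by
        have top : (emb K PhanSmall.h03 : SU 3 F q →* SU 4 F q).range ⊔ (emb K PhanSmall.h14).range = ⊤ := by
          rw [PhanSmall.range_emb_win K PhanSmall.h03, PhanSmall.range_emb_win K PhanSmall.h14]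
          exact four_top K
        rw [← e0, ← e1, cU_mul, hV₀, ← hΦ1, ← hΦ0, cU, cU, ← Subgroup.map_sup, hcΦ]
        simp only [MonoidHom.range_comp]
        rw [← Subgroup.map_sup, top, ← MonoidHom.range_eq_map]
      exact ⟨(MulEquiv.subgroupCongr hr).toMonoidHom.comp cΦ.rangeRestrict,
        (MulEquiv.subgroupCongr hr).surjective.comp cΦ.rangeRestrict_surjective⟩
    · intro h2 i j hi hj hij
      obtain ⟨-, hUV, -⟩ := D.two h2
      set g := σw 3 j
      set r := g⁻¹ * σw 2 i
      have hr : Disjoint ((pts 2).image (r : Perm (Fin n))) (pts 3) := by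
        rw [Finset.disjoint_left]
        intro x hx hx3
        simp only [img2, Finset.image_insert, Finset.image_singleton, Finset.mem_insert, Finset.mem_singleton] at hx
        have hg : (g : Perm (Fin n)) x ∈ ({pt j, pt (j + 1), pt (j + 2)} : Finset (Fin n)) := by
          rw [img3] at hx3
          simp only [Finset.mem_insert, Finset.mem_singleton] at hx3
          rcases hσw 3 j (by omega) with h | ⟨e, -⟩ | ⟨-, h0, h1, h2⟩ | ⟨e, -⟩ | e
          · rcases hx3 with rfl | rfl | rfl <;> simp [g, h 0 (by omega), h 1 (by omega), h 2 (by omega)]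
          · omega
          · rcases hx3 with rfl | rfl | rfl <;> simp [g, h0, h1, h2]
          all_goals omega
        have hi' : (g : Perm (Fin n)) x = pt i ∨ (g : Perm (Fin n)) x = pt (i + 1) := by
          rcases hσw 2 i (by omega) with h | ⟨-, h0, h1⟩ | ⟨e, -⟩ | ⟨e, -⟩ | e
          · rcases hx with rfl | rfl
            · left; simp [r, h 0 (by omega)]
            · right; simp [r, h 1 (by omega)]
          · rcases hx with rfl | rfl
            · right; simp [r, h0]
            · left; simp [r, h1]
          all_goals omega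
        simp only [Finset.mem_insert, Finset.mem_singleton] at hg
        rcases hi' with e | e <;> rw [e] at hg <;> rcases hg with h | h | h <;>
          have := (pt_inj (by omega) (by omega)).1 h <;> omega
      have := cU_commute (τ := τ) (hUV r hr) g
      rw [← cU_mul, mul_inv_cancel_left] at this
      exact this
    · intro h2 i j hij hj
      obtain ⟨-, -, hVV⟩ := D.two h2
      set g := σw 3 i
      set r := g⁻¹ * σw 3 j
      have e3 : ∀ l, l + 3 ≤ n → ∀ x ∈ pts 3, ((σw 3 l : Perm (Fin n)) x : ℕ) ≥ l ∧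
          ((σw 3 l : Perm (Fin n)) x : ℕ) < l + 3 := by
        intro l hl x hx
        rw [img3] at hx
        simp only [Finset.mem_insert, Finset.mem_singleton] at hx
        rcases hσw 3 l hl with h | ⟨e, -⟩ | ⟨-, h0, h1, h2⟩ | ⟨e, -⟩ | e
        · rcases hx with rfl | rfl | rfl
          · rw [h 0 (by omega), pt_val (by omega)]; omega
          · rw [h 1 (by omega), pt_val (by omega)]; omega
          · rw [h 2 (by omega), pt_val (by omega)]; omega
        · omega
        · rcases hx with rfl | rfl | rfl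
          · rw [h0, pt_val (by omega)]; omega
          · rw [h1, pt_val (by omega)]; omega
          · rw [h2, pt_val (by omega)]; omega
        all_goals omega
      have hr : Disjoint ((pts 3).image (r : Perm (Fin n))) (pts 3) := by
        rw [Finset.disjoint_left]
        intro x hx hx3
        obtain ⟨y, hy, rfl⟩ := Finset.mem_image.1 hx
        have h1 := e3 i (by omega) _ hx3
        have h2 := e3 j (by omega) y hy
        simp [r, g] at h1
        omega
      have := cU_commute (τ := τ) (hVV r hr) g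
      rw [← cU_mul, mul_inv_cancel_left] at this
      exact this
  have e : n - 1 + 1 = n := by omega
  obtain ⟨f, hfV⟩ : ∃ f : SU n F q →* G, ∀ j, j + 1 < n - 1 → V j ≤ f.range :=
    (fun (m : ℕ) (hm : m = n) (f : SU m F q →* G) (hf : ∀ j, j + 1 < n - 1 → V j ≤ f.range) =>
      (by subst hm; exact ⟨f, hf⟩ : ∃ f : SU n F q →* G, ∀ j, j + 1 < n - 1 → V j ≤ f.range)) _ e f₀ hfV₀
  refine ⟨f, MonoidHom.range_eq_top.1 (top_le_iff.1 ?_)⟩
  rw [← D.gen]
  refine sup_le ?_ ?_
  · have e0 : V 0 = V₀ := by
      rw [← V_eq 0 (by omega) 1 (by simp [img3]), cU_one]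
    rw [← hV₀, ← e0]
    exact hfV 0 (by omega)
  · rw [MonoidHom.range_eq_map, Subgroup.map_le_iff_le_comap, top_le_iff]
    refine three_chain _ fun j hj => ?_
    have hg := hσw 3 j (show j + 3 ≤ n by omega)
    set g := σw 3 j with hgdef
    have hfixg : ∀ d : alternatingGroup (Fin n), (d = c ∨ d = c⁻¹) → ∀ i < n, i ≠ j → i ≠ j + 1 →
        i ≠ j + 2 → ((g * d * g⁻¹ : alternatingGroup (Fin n)) : Perm (Fin n)) (pt i) = pt i := by
      intro d hd i hi n0 n1 n2
      set y := (g : Perm (Fin n))⁻¹ (pt i) with hy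
      have hgy : (g : Perm (Fin n)) y = pt i := by simp [hy]
      have h3 : 3 ≤ (y : ℕ) := by
        by_contra hh
        have hy2 : y = pt (y : ℕ) := Fin.ext (pt_val y.2).symm
        rcases hg with h | ⟨e, -⟩ | ⟨-, h0, h1, h2⟩ | ⟨e, -⟩ | e
        · rw [hy2, h _ (by omega)] at hgy
          have := (pt_inj (by omega) hi).1 hgy; omega
        · omega
        · rcases (show (y : ℕ) = 0 ∨ (y : ℕ) = 1 ∨ (y : ℕ) = 2 by omega) with e | e | e <;>
            rw [hy2, e] at hgy
          · rw [h0] at hgy; have := (pt_inj (by omega) hi).1 hgy; omega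
          · rw [h1] at hgy; have := (pt_inj (by omega) hi).1 hgy; omega
          · rw [h2] at hgy; have := (pt_inj (by omega) hi).1 hgy; omega
        all_goals omega
      have hfy : (c : Perm (Fin n)) y = y := by
        have := cfix y y.2 h3
        rwa [show pt (y : ℕ) = y from Fin.ext (pt_val y.2)] at this
      have hdy : (d : Perm (Fin n)) y = y := by
        rcases hd with rfl | rfl
        · exact hfy
        · rw [Subgroup.coe_inv, Perm.inv_eq_iff_eq]; exact hfy.symm
      simp only [Subgroup.coe_mul, Subgroup.coe_inv, Perm.mul_apply]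
      rw [← hy, hdy, hgy]
    have hmemg : ∀ d : alternatingGroup (Fin n), (d = c ∨ d = c⁻¹) → τ (g * d * g⁻¹) ∈ cU τ V₀ g := by
      intro d hd
      refine ⟨τ d, ?_, by simp⟩
      rcases hd with rfl | rfl
      · exact hcψ
      · rw [map_inv]; exact inv_mem hcψ
    rcases hg with h | ⟨e, -⟩ | ⟨-, h0, h1, h2⟩ | ⟨e, -⟩ | e
    · have hV := V_eq j (by omega) g (by
        rw [img3, Finset.image_insert, Finset.image_insert, Finset.image_singleton, h 0 (by omega),
          h 1 (by omega), h 2 (by omega), Nat.add_zero])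
      refine ⟨g * c * g⁻¹, hfV j (by omega) (hV ▸ hmemg c (Or.inl rfl)), ?_, hfixg c (Or.inl rfl)⟩
      have e0 : (g : Perm (Fin n))⁻¹ (pt j) = pt 0 := by rw [Perm.inv_eq_iff_eq, h 0 (by omega), Nat.add_zero]
      simp only [Subgroup.coe_mul, Subgroup.coe_inv, Perm.mul_apply, e0, c0, h 1 (by omega)]
    · omega
    · have hV := V_eq j (by omega) g (by
        rw [img3, Finset.image_insert, Finset.image_insert, Finset.image_singleton, h0, h1, h2]
        ext x; simp; tauto)
      refine ⟨g * c⁻¹ * g⁻¹, hfV j (by omega) (hV ▸ hmemg c⁻¹ (Or.inr rfl)), ?_, hfixg c⁻¹ (Or.inr rfl)⟩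
      have e2 : (g : Perm (Fin n))⁻¹ (pt j) = pt 2 := by rw [Perm.inv_eq_iff_eq, h2]
      have ec : (c : Perm (Fin n))⁻¹ (pt 2) = pt 1 := by rw [Perm.inv_eq_iff_eq, c1]
      simp only [Subgroup.coe_mul, Subgroup.coe_inv, Perm.mul_apply, e2, ec, h1]
    all_goals omega

end CfsgLib.SUPres
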