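import Cfsg.Agent.Lib.SUPres.Perm
import Cfsg.Agent.Lib.SLPres.Presents
import Cfsg.Agent.Lib.AltPres.TwoGen.AltMain

/-!
# A presentation from a window, the alternating group and mixed relations
-/

set_option autoImplicit false
set_option linter.style.haveILetI false

namespace CfsgLib.SUPres

open Matrix Cfsg Equiv
open CfsgLib.Classical.Herm
open CfsgLib.Classical.Phan (Blk bv emb range_emb_two)
open CfsgLib.ClassicalAut (Unitary.Conj)
open CfsgLib.SLPres (Presents)

universe u

variable {F : Type u} [Field F] [Finite F] {q : ℕ} (K : Unitary.Conj F q) {n : ℕ}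

include K in
/-- A window and the even permutations generate `SU_n`. -/
theorem window_alt_gen [NeZero n] (hn : 4 ≤ n) (H : Subgroup (SU n F q))
    (hB : (Blk 0 3 : Subgroup (SU n F q)) ≤ H) (hA : (altSU (n := n) K).range ≤ H) : H = ⊤ := by
  have win : ∀ j, j + 3 ≤ n → (Blk j (j + 3) : Subgroup (SU n F q)) ≤ H := by
    intro j hj g hg
    obtain ⟨σ, hσ⟩ := exists_even (n := n) (k := 3) (by omega) (fun i => j + i) (fun i hi => by omega)
      (fun i _ i' _ h => by omega) (a := 0) (b := 1) (by omega) (by omega) (by omega)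
    have hset : ∀ i < n, (j ≤ (((σ : Perm (Fin n)) (pt i) : Fin n) : ℕ) ∧
        (((σ : Perm (Fin n)) (pt i) : Fin n) : ℕ) < j + 3) ↔ (0 ≤ i ∧ i < 3) := by
      have him : ∀ i < 3, ∃ l < 3, (σ : Perm (Fin n)) (pt l) = pt (j + i) := by
        intro i hi
        rcases hσ with h | h
        · exact ⟨i, hi, h i hi⟩
        · set l := if i = 0 then 1 else if i = 1 then 0 else i with hl
          have hl3 : l < 3 := by rw [hl]; split_ifs <;> omega
          refine ⟨l, hl3, ((h l hl3).resolve_right ?_).trans ?_⟩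
          · rintro ⟨h1, h2, h3 | h3⟩
            · have := h1 h3; omega
            · have := h2 h3; omega
          · rw [hl]; interval_cases i <;> simp
      intro i hi
      constructor
      · rintro ⟨h1, h2⟩
        obtain ⟨l, hl, e⟩ := him ((((σ : Perm (Fin n)) (pt i) : Fin n) : ℕ) - j) (by omega)
        rw [show j + ((((σ : Perm (Fin n)) (pt i) : Fin n) : ℕ) - j) =
            (((σ : Perm (Fin n)) (pt i) : Fin n) : ℕ) by omega,
          show (pt (((σ : Perm (Fin n)) (pt i) : Fin n) : ℕ) : Fin n) = (σ : Perm (Fin n)) (pt i) from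
            Fin.ext (pt_val (Fin.is_lt _))] at e
        have := (pt_inj (by omega) hi).1 ((σ : Perm (Fin n)).injective e)
        exact ⟨Nat.zero_le _, by omega⟩
      · rintro ⟨-, h2⟩
        rcases hσ with h | h
        · rw [h i h2, pt_val (by omega)]; omega
        · rw [(h i h2).resolve_right (by
            rintro ⟨h1, h2', h3 | h3⟩
            · have := h1 h3; omega
            · have := h2' h3; omega), pt_val (by split_ifs <;> omega)]
          split_ifs <;> omega
    have hback : (altSU K σ)⁻¹ * g * altSU K σ ∈ (Blk 0 3 : Subgroup (SU n F q)) := by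
      have := altSU_conj_Blk K σ⁻¹ (a := j) (b := j + 3) (a' := 0) (b' := 3) (fun i hi => by
        set x := (((σ : Perm (Fin n))⁻¹ (pt i) : Fin n) : ℕ) with hx
        have h1 := hset x (Fin.is_lt _)
        rw [show (σ : Perm (Fin n)) (pt x) = pt i by
          rw [show (pt x : Fin n) = (σ : Perm (Fin n))⁻¹ (pt i) from Fin.ext (pt_val (Fin.is_lt _))]; simp,
          pt_val hi] at h1
        rw [Subgroup.coe_inv]
        exact h1.symm) hg
      rwa [map_inv, inv_inv] at this
    have := mul_mem (mul_mem (hA ⟨σ, rfl⟩) (hB hback)) (inv_mem (hA ⟨σ, rfl⟩))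
    simpa [mul_assoc] using this
  let S : PhanSmall.Sys4 (F := F) (q := q) (SU n F q) n :=
    { π := MonoidHom.id _
      B := fun a b => Blk a b
      mapB := fun a b _ => Subgroup.map_id _
      mono := fun a b a' b' _ _ h h' => Classical.Phan.Blk_mono h h'
      comm := fun a b c d _ _ hbc x hx y hy => Classical.Phan.comm_Blk_Fix K hbc hx
        (Classical.Phan.Blk_le_Fix le_rfl hy)
      injW := fun _ _ => Function.injective_id.injOn }
  refine eq_top_iff.2 fun g _ => ?_
  obtain ⟨x, hx, rfl⟩ := S.surj K 0 g (by rw [Classical.Phan.Fix_zero]; exact Subgroup.mem_top g)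
  have hle : S.L 0 ≤ H := S.L_le fun a b _ h => by
    obtain ⟨h1, h2, h3⟩ := h
    exact (Classical.Phan.Blk_mono (min_le_left a (n - 3)) (show b ≤ min a (n - 3) + 3 by omega)).trans
      (win _ (by omega))
  exact hle hx

/-- The value of a mixed word. -/
def wval {B A G : Type*} [Group G] (θ : B → G) (τ : A → G) (l : List (B ⊕ A)) : G :=
  (l.map (Sum.elim θ τ)).prod

include K in
/-- The presentation given by mixed relations. -/
theorem glue_rels [NeZero n] (hn : 4 ≤ n) {m k r : ℕ} (hm : 3 ≤ m) (hmn : 0 + m ≤ n)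
    (hB : Presents (SU m F q) k r) (E : List (List (SU m F q ⊕ alternatingGroup (Fin n))))
    (hE : ∀ l ∈ E, wval (emb K hmn) (altSU (n := n) K) l = 1)
    (hG : ∀ (G : Type u) [Group G] (θ : SU m F q →* G) (τ : alternatingGroup (Fin n) →* G)
      (π : G →* SU n F q), π.comp θ = emb K hmn → π.comp τ = altSU K →
      (∀ l ∈ E, wval θ τ l = 1) → θ.range ⊔ τ.range = ⊤ →
      ∃ f : SU n F q →* G, Function.Surjective f) :
    Presents (SU n F q) (k + 2) (r + 7 + E.length) := by
  classical
  obtain ⟨La, πa, hLa, hsa, hra, hca⟩ := hB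
  obtain ⟨Lb, πb, hLb, hsb, hrb, hcb⟩ := (AltPres.TwoGen.alt_presents n).1
  choose pa hpa using hsa
  choose pb hpb using hsb
  set ia : FreeGroup (Fin k) →* FreeGroup (Fin (k + 2)) := FreeGroup.map (Fin.castAdd 2) with hia
  set ib : FreeGroup (Fin 2) →* FreeGroup (Fin (k + 2)) := FreeGroup.map (Fin.natAdd k) with hib
  set π : FreeGroup (Fin (k + 2)) →* SU n F q := FreeGroup.lift
    (Fin.append (fun i => emb K hmn (πa (.of i))) fun i => altSU K (πb (.of i))) with hπ
  have hπa : ∀ x, π (ia x) = emb K hmn (πa x) := fun x => by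
    have : π.comp ia = (emb K hmn).comp πa := FreeGroup.ext_hom _ _ fun i => by
      simp only [MonoidHom.comp_apply, hia, FreeGroup.map.of, hπ, FreeGroup.lift_apply_of, Fin.append_left]
    exact DFunLike.congr_fun this x
  have hπb : ∀ x, π (ib x) = altSU K (πb x) := fun x => by
    have : π.comp ib = (altSU K).comp πb := FreeGroup.ext_hom _ _ fun i => by
      simp only [MonoidHom.comp_apply, hib, FreeGroup.map.of, hπ, FreeGroup.lift_apply_of, Fin.append_right]
    exact DFunLike.congr_fun this x
  let word : List (SU m F q ⊕ alternatingGroup (Fin n)) → FreeGroup (Fin (k + 2)) :=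
    wval (fun x => ia (pa x)) (fun σ => ib (pb σ))
  have πword : ∀ l, π (word l) = wval (emb K hmn) (altSU (n := n) K) l := fun l => by
    simp only [word, wval, map_list_prod, List.map_map]
    congr 1
    refine List.map_congr_left fun x _ => ?_
    rcases x with x | x <;> simp [hπa, hπb, hpa, hpb]
  refine ⟨La.map ia ++ Lb.map ib ++ E.map word, π, by simp; omega, ?_, fun z hz => ?_,
    fun G _ ψ hψ hL => ?_⟩
  · rw [← MonoidHom.range_eq_top]
    refine window_alt_gen K hn _ ?_ ?_
    · refine (Classical.Phan.Blk_mono (le_refl 0) (show 3 ≤ 0 + m by omega)).trans ?_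
      rw [← PhanSmall.range_emb_win K hmn]
      rintro _ ⟨x, rfl⟩
      exact ⟨ia (pa x), by rw [hπa, hpa]⟩
    · rintro _ ⟨σ, rfl⟩
      exact ⟨ib (pb σ), by rw [hπb, hpb]⟩
  · simp only [List.mem_append, List.mem_map] at hz
    rcases hz with (⟨x, hx, rfl⟩ | ⟨x, hx, rfl⟩) | ⟨l, hl, rfl⟩
    · rw [hπa, hra x hx, map_one]
    · rw [hπb, hrb x hx, map_one]
    · rw [πword, hE l hl]
  have hmem : ∀ z ∈ La.map ia ++ Lb.map ib ++ E.map word, (ψ.prod π).rangeRestrict z = 1 := fun z hz =>
    Subtype.ext (Prod.ext (hL z hz) (by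
      show π z = 1
      simp only [List.mem_append, List.mem_map] at hz
      rcases hz with (⟨x, hx, rfl⟩ | ⟨x, hx, rfl⟩) | ⟨l, hl, rfl⟩
      · rw [hπa, hra x hx, map_one]
      · rw [hπb, hrb x hx, map_one]
      · rw [πword, hE l hl]))
  set ψ' := (ψ.prod π).rangeRestrict with hψ'
  set π' : (ψ.prod π).range →* SU n F q := (MonoidHom.snd G (SU n F q)).comp (ψ.prod π).range.subtype
  obtain ⟨θ, hθ⟩ := AltPres.factor_of_card La πa (fun x => ⟨pa x, hpa x⟩) hra hca (ULift.{u} (ψ.prod π).range)
    (MulEquiv.ulift.symm.toMonoidHom.comp (ψ'.comp ia))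
    (fun x hx => by
      simp only [MonoidHom.comp_apply]
      rw [hmem _ (List.mem_append_left _ (List.mem_append_left _ (List.mem_map_of_mem hx))), map_one])
  obtain ⟨τ, hτ⟩ := AltPres.factor_of_card Lb πb (fun x => ⟨pb x, hpb x⟩) hrb hcb (ULift.{u} (ψ.prod π).range)
    (MulEquiv.ulift.symm.toMonoidHom.comp (ψ'.comp ib))
    (fun x hx => by
      simp only [MonoidHom.comp_apply]
      rw [hmem _ (List.mem_append_left _ (List.mem_append_right _ (List.mem_map_of_mem hx))), map_one])
  have θa : ∀ x, θ x = ULift.up (ψ' (ia (pa x))) := fun x => by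
    conv_lhs => rw [← hpa x]
    exact hθ _
  have τb : ∀ x, τ x = ULift.up (ψ' (ib (pb x))) := fun x => by
    conv_lhs => rw [← hpb x]
    exact hτ _
  obtain ⟨f, hf⟩ := hG (ULift.{u} (ψ.prod π).range) θ τ (π'.comp MulEquiv.ulift.toMonoidHom)
    (MonoidHom.ext fun x => by
      show π' (θ x).down = _
      rw [θa]; exact (hπa _).trans (by rw [hpa]))
    (MonoidHom.ext fun x => by
      show π' (τ x).down = _
      rw [τb]; exact (hπb _).trans (by rw [hpb]))
    (fun l hl => by
      have e : wval θ τ l = MulEquiv.ulift.symm.toMonoidHom (ψ' (word l)) := by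
        simp only [word, wval, map_list_prod, List.map_map]
        congr 1
        refine List.map_congr_left fun x _ => ?_
        rcases x with x | x
        · exact θa x
        · exact τb x
      rw [e, hmem _ (List.mem_append_right _ (List.mem_map_of_mem hl)), map_one])
    (by
      rw [eq_top_iff]
      rintro ⟨x⟩ -
      obtain ⟨y, rfl⟩ := (ψ.prod π).rangeRestrict_surjective x
      rw [← hψ']
      induction y using FreeGroup.induction_on with
      | C1 => rw [map_one]; exact one_mem (θ.range ⊔ τ.range)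
      | of i =>
        induction i using Fin.addCases (m := k) (n := 2) with
        | left i => exact Subgroup.mem_sup_left ⟨πa (.of i), (hθ _).trans (by simp [hia]; rfl)⟩
        | right i => exact Subgroup.mem_sup_right ⟨πb (.of i), (hτ _).trans (by simp [hib]; rfl)⟩
      | inv_of i ih => rw [map_inv]; exact inv_mem ih
      | mul a b ha hb => rw [map_mul]; exact mul_mem ha hb)
  have hs : Function.Surjective (fun x : SU n F q => (((f x).down : (ψ.prod π).range) : G × SU n F q).1) := by
    intro g
    obtain ⟨y, rfl⟩ := hψ g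
    obtain ⟨x, hx⟩ := hf (ULift.up (ψ' y))
    exact ⟨x, by simp only [hx]; rfl⟩
  exact ⟨Finite.of_surjective _ hs, Nat.card_le_card_of_surjective _ hs⟩

end CfsgLib.SUPres
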