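import Cfsg.Agent.Lib.SUPres.Borel
import Cfsg.Agent.Lib.SUPres.Count
import Cfsg.Agent.Lib.SLPres.Presents

/-!
# `SU₃(q)` by eighteen relations
-/

set_option autoImplicit false

namespace CfsgLib.SUPres

open Polynomial Cfsg
open scoped commutatorElement
open CfsgLib.ClassicalAut (Unitary.Conj)
open CfsgLib.Classical.URoot (Par pmul pinv pone)
open CfsgLib.SLPres (sh wv map_wv map_sh Presents)

local notation "U'" => (FreeGroup.of (0 : Fin 3) : FreeGroup (Fin 3))
local notation "H'" => (FreeGroup.of (1 : Fin 3) : FreeGroup (Fin 3))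
local notation "W'" => (FreeGroup.of (2 : Fin 3) : FreeGroup (Fin 3))

/-- The words in the conjugates of the first generator by powers of the second. -/
def uWords : Subgroup (FreeGroup (Fin 3)) := Subgroup.closure (Set.range (sh U' H'))

theorem uWords_conj {g : FreeGroup (Fin 3)} (hg : g ∈ uWords) (n : ℕ) : H' ^ n * g * (H' ^ n)⁻¹ ∈ uWords := by
  induction hg using Subgroup.closure_induction with
  | mem x hx =>
    obtain ⟨i, rfl⟩ := hx
    rw [SLPres.sh_add]
    exact Subgroup.subset_closure ⟨_, rfl⟩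
  | one => simp
  | mul x y _ _ hx hy => rw [← conj_mul]; exact mul_mem hx hy
  | inv x _ hx => rw [← conj_inv]; exact inv_mem hx

theorem wv_mem_uWords (p : ℕ) (f : (ZMod p)[X]) {g : FreeGroup (Fin 3)} (hg : g ∈ uWords) (n : ℕ) :
    wv p g (H' ^ n) f ∈ uWords := by
  refine (Subgroup.closure_le _).2 ?_ (SLPres.wv_mem_closure p g (H' ^ n) f)
  rintro _ ⟨i, rfl⟩
  rw [SLPres.sh, ← pow_mul]
  exact uWords_conj hg _

variable {F : Type*} [Field F] [Finite F] {q : ℕ}

/-- `SU₃(q)`, `q ≥ 3`, has three generators and eighteen relations. -/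
theorem su_three (K : Unitary.Conj F q) (hq : 3 ≤ q) (p : ℕ) [Fact p.Prime]
    [Algebra (ZMod p) (F0 K)] : Presents (SU 3 F q) 3 18 := by
  classical
  obtain ⟨φ, th, w, M⟩ := exists_model K hq
  obtain ⟨μ, D⟩ := exists_fd K
  have hμ := D.ne
  haveI : CharP (F0 K) p := charP_of_injective_algebraMap (algebraMap (ZMod p) (F0 K)).injective p
  set g := K.bar μ / μ with hg
  have hgn : g * K.bar g = 1 := by
    have := (map_ne_zero K.bar).2 hμ
    rw [hg, map_div₀, K.bar_bar]; field_simp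
  have hg1 : g ≠ 1 := by rw [hg, ne_eq, div_eq_one_iff_eq hμ]; exact D.bar_ne
  set u₁ : Par K := ⟨(1, sec K 1 g), sec_mem K hgn hg1⟩ with hu₁
  set π : FreeGroup (Fin 3) →* SU 3 F q := FreeGroup.lift ![φ u₁, th μ, w] with hπ
  have πU : π U' = φ u₁ := by simp [hπ]
  have πH : π H' = th μ := by simp [hπ]
  have πW : π W' = w := by simp [hπ]
  set V : FreeGroup (Fin 3) := H' * U' * H'⁻¹ with hV
  set Zw : FreeGroup (Fin 3) := ⁅U', V⁆ with hZw
  set H₀ : FreeGroup (Fin 3) := H' ^ (q + 1) with hH₀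
  set s₀ := mm K μ - K.bar (mm K μ) with hs₀
  have hs : s₀ + K.bar s₀ = 0 := by rw [hs₀, map_sub, K.bar_bar]; ring
  have hs0 : s₀ ≠ 0 := sub_ne_zero.2 (D.mm_ne hq).symm
  have πV : π V = φ (act K μ u₁) := by rw [hV, map_mul, map_mul, map_inv, πH, πU, M.th_conj μ hμ]
  have πZ : π Zw = φ (zpar K s₀ hs) := by
    obtain ⟨hs', e⟩ := M.commutator_eq u₁ (act K μ u₁)
    rw [hZw, map_commutatorElement, πU, πV, e]
    refine congrArg φ (Subtype.ext (Prod.ext rfl ?_))
    simp [zpar, act, hu₁, hs₀, mm]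
  have R := isRoot_zc M D hs
  have πwz : ∀ f, π (wv p Zw H' f) = φ (zc K hs (aeval (nu K μ) f)) := fun f => by
    rw [map_wv π, πZ, πH]; exact R.wv_eq p f
  have πsz : ∀ j, π (sh Zw H' j) = φ (zc K hs (nu K μ ^ j)) := fun j => by
    rw [map_sh π, πZ, πH]; exact R.shift j
  have acoU : Aco φ (π U') 1 := ⟨u₁, πU.symm, rfl⟩
  have acoV : Aco φ (π V) (mm K μ) := ⟨act K μ u₁, πV.symm, by simp [act, hu₁, mm]⟩
  have acoWord : ∀ (x : FreeGroup (Fin 3)) (a : F) (f : (ZMod p)[X]), Aco φ (π x) a →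
      Aco φ (π (wv p x H₀ f)) ((aeval (nu K μ) f : F) * a) := fun x a f hx => by
    rw [map_wv π, hH₀, map_pow, πH]; exact hx.word M D p f
  have acoSh : ∀ (x : FreeGroup (Fin 3)) (a : F) (i : ℕ), Aco φ (π x) a →
      Aco φ (π (sh x H₀ i)) (((nu K μ ^ i : F0 K) : F) * a) := fun x a i hx => by
    rw [map_sh π, hH₀, map_pow, πH]; exact hx.shift M D i
  -- centre words
  have central : ∀ X : FreeGroup (Fin 3), ∃ f, Aco φ (π X) 0 → π X = π (wv p Zw H' f) := by
    intro X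
    by_cases hX : Aco φ (π X) 0
    swap
    · exact ⟨0, fun h => absurd h hX⟩
    obtain ⟨x, hx, hxa⟩ := hX
    have hxb : x.1.2 + K.bar x.1.2 = 0 := by simpa [hxa] using x.2
    obtain ⟨f, hf⟩ := D.exists_poly p ⟨x.1.2 / s₀, (mem_F0 K).2 (by
      rw [map_div₀, eq_neg_of_add_eq_zero_right hxb, eq_neg_of_add_eq_zero_right hs, neg_div_neg_eq])⟩
    refine ⟨f, fun _ => ?_⟩
    rw [πwz, ← hx, hf]
    exact congrArg φ (Subtype.ext (Prod.ext hxa (div_mul_cancel₀ _ hs0).symm))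
  choose zf hzf using central
  set relZ : FreeGroup (Fin 3) → FreeGroup (Fin 3) := fun X => X * (wv p Zw H' (zf X))⁻¹ with hrelZ
  have relZ_one : ∀ X, Aco φ (π X) 0 → π (relZ X) = 1 := fun X hX => by
    rw [hrelZ, map_mul, map_inv, ← hzf X hX, mul_inv_cancel]
  have acoComm : ∀ x y a b, Aco φ (π x) a → Aco φ (π y) b → Aco φ (π ⁅x, y⁆) 0 := by
    rintro x y a b ⟨x', hx, -⟩ ⟨y', hy, -⟩
    obtain ⟨hs', e⟩ := M.commutator_eq x' y'
    rw [map_commutatorElement, ← hx, ← hy, e]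
    exact ⟨_, rfl, rfl⟩
  -- the root words
  have root_word : ∀ x : Par K, ∃ X ∈ uWords, π X = φ x := by
    intro x
    obtain ⟨a, b, hab⟩ := D.exists_coords hq x.1.1
    obtain ⟨f, hf⟩ := D.exists_poly p a
    obtain ⟨f', hf'⟩ := D.exists_poly p b
    set Y := wv p U' H₀ f * wv p V H₀ f' with hY
    have hYm : Y ∈ uWords := by
      have hU : U' ∈ uWords := Subgroup.subset_closure ⟨0, SLPres.sh_zero _ _⟩
      have hVm : V ∈ uWords := Subgroup.subset_closure ⟨1, by rw [SLPres.sh_one]⟩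
      exact mul_mem (wv_mem_uWords p f hU _) (wv_mem_uWords p f' hVm _)
    have hYa : Aco φ (π Y) x.1.1 := by
      rw [hY, map_mul]
      have := ((acoWord _ _ f acoU).mul M (acoWord _ _ f' acoV))
      rwa [hf, hf', mul_one, mul_comm, ← hab] at this
    obtain ⟨y, hy, hya⟩ := hYa
    set d := x.1.2 - y.1.2 with hd
    have hd' : d + K.bar d = 0 := by
      have h1 := y.2
      rw [hya] at h1
      simp only [hd, map_sub]
      linear_combination x.2 - h1
    obtain ⟨e, he⟩ := D.exists_poly p ⟨d / s₀, (mem_F0 K).2 (by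
      rw [map_div₀, eq_neg_of_add_eq_zero_right hd', eq_neg_of_add_eq_zero_right hs, neg_div_neg_eq])⟩
    refine ⟨Y * wv p Zw H' e, mul_mem hYm ?_, ?_⟩
    · have hU : U' ∈ uWords := Subgroup.subset_closure ⟨0, SLPres.sh_zero _ _⟩
      have hVm : V ∈ uWords := Subgroup.subset_closure ⟨1, by rw [SLPres.sh_one]⟩
      have hZm : Zw ∈ uWords := by
        rw [hZw, commutatorElement_def]
        exact mul_mem (mul_mem (mul_mem hU hVm) (inv_mem hU)) (inv_mem hVm)
      simpa using wv_mem_uWords p e hZm 1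
    · rw [map_mul, ← hy, πwz, he, M.φ_mul]
      refine congrArg φ (Subtype.ext (Prod.ext ?_ ?_))
      · simp [pmul, zc, zpar, hya]
      · simp [pmul, zc, zpar, div_mul_cancel₀ _ hs0, hd]
  choose RW hRWm hRW using root_word
  have seedrel : ∀ (X : FreeGroup (Fin 3)) (x : Par K), x ≠ pone K → π X = φ x →
      ∃ (r : FreeGroup (Fin 3)) (k : ℕ), π r = 1 ∧
        r = W' * X * W' * (RW (lp K x) * H' ^ k * W' * RW (rp K x))⁻¹ := by
    intro X x hx hX
    obtain ⟨k, hk⟩ := D.gen (K.bar x.1.2)⁻¹ (inv_ne_zero ((map_ne_zero K.bar).2 (snd_ne_zero K hx)))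
    refine ⟨_, k, ?_, rfl⟩
    rw [map_mul, map_inv, map_mul, map_mul, map_mul, map_mul, map_mul, map_pow, πW, πH, hX, hRW, hRW,
      M.th_pow hμ, ← hk, ← M.bruhat x hx, mul_inv_cancel]
  have hu₁ne : u₁ ≠ pone K := fun h => one_ne_zero (congrArg (fun x : Par K => x.1.1) h)
  have hzne : zpar K s₀ hs ≠ pone K := fun h => hs0 (congrArg (fun x : Par K => x.1.2) h)
  obtain ⟨r17, k17, h17, e17⟩ := seedrel Zw _ hzne πZ
  obtain ⟨r18, k18, h18, e18⟩ := seedrel U' _ hu₁ne πU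
  -- the triangle relations
  obtain ⟨L₀, hL₀, πL₀, ψL₀⟩ : ∃ L₀ : List (FreeGroup (Fin 3)), L₀.length ≤ 4 ∧
      (∀ r ∈ L₀, π r = 1) ∧ ∀ (G : Type _) [Group G] (ψ : FreeGroup (Fin 3) →* G), (∀ r ∈ L₀, ψ r = 1) →
        (∃ a : ℕ, nu K μ ^ a = 1 + nu K μ ∧ sh (ψ Zw) (ψ H') a = ψ Zw * sh (ψ Zw) (ψ H') 1 ∧
          sh (ψ Zw) (ψ H') a = sh (ψ Zw) (ψ H') 1 * ψ Zw ∧
          InZ p (ψ Zw) (ψ H') ((ψ U' * sh (ψ U') (ψ H' ^ (q + 1)) 1)⁻¹ * sh (ψ U') (ψ H' ^ (q + 1)) a) ∧
          InZ p (ψ Zw) (ψ H') ⁅ψ U', sh (ψ U') (ψ H' ^ (q + 1)) 1⁆) ∨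
          ∀ t : F0 K, ∃ n : ℕ, (n : F0 K) = t := by
    by_cases hC : (1 : F0 K) + nu K μ = 0
    · refine ⟨[], by simp, by simp, fun G _ ψ _ => Or.inr fun t => ?_⟩
      have hν : nu K μ = -1 := by linear_combination hC
      haveI : NeZero p := ⟨(Fact.out : p.Prime).ne_zero⟩
      have nat : ∀ n : ZMod p, ∃ m : ℕ, (m : F0 K) = algebraMap (ZMod p) (F0 K) n := fun n =>
        ⟨n.val, by rw [← map_natCast (algebraMap (ZMod p) (F0 K)), ZMod.natCast_zmod_val]⟩
      obtain ⟨f, rfl⟩ := D.exists_poly p t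
      rw [hν, show (-1 : F0 K) = algebraMap (ZMod p) (F0 K) (-1) by simp, aeval_algebraMap_apply]
      exact nat _
    · obtain ⟨a, ha⟩ := D.nu_gen _ hC
      refine ⟨[sh Zw H' a * (Zw * sh Zw H' 1)⁻¹, sh Zw H' a * (sh Zw H' 1 * Zw)⁻¹,
        relZ ((U' * sh U' H₀ 1)⁻¹ * sh U' H₀ a), relZ ⁅U', sh U' H₀ 1⁆], by simp, ?_, ?_⟩
      · have z1 : π Zw = φ (zc K hs 1) := by rw [πZ]; exact R.one.symm
        intro r hr
        simp only [List.mem_cons, List.not_mem_nil, or_false] at hr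
        rcases hr with rfl | rfl | rfl | rfl
        · rw [map_mul, map_inv, mul_inv_eq_one, map_mul, πsz, πsz, z1, pow_one, ← ha]
          exact R.add _ _
        · rw [map_mul, map_inv, mul_inv_eq_one, map_mul, πsz, πsz, z1, pow_one, ← ha, add_comm]
          exact R.add _ _
        · apply relZ_one
          rw [map_mul, map_inv, map_mul]
          have := (Aco.inv M (acoU.mul M (acoSh _ _ 1 acoU))).mul M (acoSh _ _ a acoU)
          rwa [pow_one, ← ha, mul_one, mul_one, Subfield.coe_add, Subfield.coe_one, neg_add_cancel] at this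
        · exact relZ_one _ (acoComm _ _ _ _ acoU (acoSh _ _ 1 acoU))
      · intro G _ ψ hψ
        refine Or.inl ⟨a, ha.symm, ?_, ?_, ⟨zf ((U' * sh U' H₀ 1)⁻¹ * sh U' H₀ a), ?_⟩, ⟨zf ⁅U', sh U' H₀ 1⁆, ?_⟩⟩
        · have := hψ _ (List.mem_cons_self ..)
          simpa only [map_mul, map_inv, mul_inv_eq_one, map_sh] using this
        · have := hψ _ (List.mem_cons_of_mem _ (List.mem_cons_self ..))
          simpa only [map_mul, map_inv, mul_inv_eq_one, map_sh] using this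
        · have := hψ _ (List.mem_cons_of_mem _ (List.mem_cons_of_mem _ (List.mem_cons_self ..)))
          simpa only [hrelZ, map_mul, map_inv, mul_inv_eq_one, map_sh, map_wv, hH₀, map_pow] using this
        · have := hψ _ (List.mem_cons_of_mem _ (List.mem_cons_of_mem _ (List.mem_cons_of_mem _ (List.mem_cons_self ..))))
          simpa only [hrelZ, map_mul, map_inv, mul_inv_eq_one, map_sh, map_wv, hH₀, map_pow,
            map_commutatorElement] using this
  -- the mixed relation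
  obtain ⟨b₁, b₂, hb⟩ := D.exists_coords hq (mm K μ * mm K μ)
  obtain ⟨f14, hf14⟩ := D.exists_poly p b₁
  obtain ⟨g14, hg14⟩ := D.exists_poly p b₂
  set X14 := (wv p U' H₀ f14 * wv p V H₀ g14)⁻¹ * (H' * V * H'⁻¹) with hX14
  have aco14 : Aco φ (π X14) 0 := by
    rw [hX14, map_mul, map_inv, map_mul, map_mul, map_mul, map_inv, πH]
    have := ((Aco.inv M ((acoWord _ _ f14 acoU).mul M (acoWord _ _ g14 acoV))).mul M
      (Aco.conj M hμ acoV))
    rwa [hf14, hg14, mul_one, mul_comm (b₂ : F), ← hb, ← mm, neg_add_cancel] at this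
  set L := L₀ ++ [wv p Zw H' (minpoly (ZMod p) (nu K μ)), Zw ^ p,
      ⁅sh Zw H' 0, U'⁆, ⁅sh Zw H' 1, U'⁆, ⁅sh Zw H' 2, U'⁆, ⁅sh Zw H' 3, U'⁆,
      relZ (wv p U' H₀ (minpoly (ZMod p) (nu K μ))), relZ (U' ^ p), relZ ⁅U', sh V H₀ 1⁆, relZ X14,
      W' * H' * W'⁻¹ * H' ^ q, W' * W', r17, r18] with hL
  have πL : ∀ r ∈ L, π r = 1 := by
    intro r hr
    rw [hL, List.mem_append] at hr
    rcases hr with hr | hr
    · exact πL₀ r hr
    have comm0 : ∀ j, π ⁅sh Zw H' j, U'⁆ = 1 := fun j => by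
      obtain ⟨hs', e⟩ := M.commutator_eq (zc K hs (nu K μ ^ j)) u₁
      rw [map_commutatorElement, πsz, πU, e, ← M.φ_one]
      refine congrArg φ (Subtype.ext (Prod.ext rfl ?_))
      simp [zpar, zc, pone]
    simp only [List.mem_cons, List.not_mem_nil, or_false] at hr
    rcases hr with rfl | rfl | rfl | rfl | rfl | rfl | rfl | rfl | rfl | rfl | rfl | rfl | rfl | rfl
    · rw [πwz, minpoly.aeval]; exact R.zero
    · rw [map_pow, πZ, ← R.one, R.pow, CharP.cast_eq_zero, zero_mul]; exact R.zero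
    · exact comm0 0
    · exact comm0 1
    · exact comm0 2
    · exact comm0 3
    · apply relZ_one
      have := acoWord _ _ (minpoly (ZMod p) (nu K μ)) acoU
      rwa [minpoly.aeval, Subfield.coe_zero, zero_mul] at this
    · apply relZ_one
      rw [map_pow]
      have := acoU.pow M p
      have hp0 : (p : F) = 0 := by
        rw [← map_natCast (F0 K).subtype, CharP.cast_eq_zero, map_zero]
      rwa [hp0, zero_mul] at this
    · exact relZ_one _ (acoComm _ _ _ _ acoU (acoSh _ _ 1 acoV))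
    · exact relZ_one _ aco14
    · rw [map_mul, map_mul, map_mul, map_inv, map_pow, πW, πH, M.w_th μ hμ, M.th_pow hμ,
        M.th_mul _ _ (inv_ne_zero ((map_ne_zero K.bar).2 hμ)) (pow_ne_zero _ hμ), K.bar_apply,
        inv_mul_cancel₀ (pow_ne_zero _ hμ)]
      exact M.th_one
    · rw [map_mul, πW]; exact M.w_sq
    · exact h17
    · exact h18
  refine ⟨L, π, ?_, ?_, πL, ?_⟩
  · simp [hL]; omega
  · rw [← MonoidHom.range_eq_top, eq_top_iff, ← M.gen, Subgroup.closure_le]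
    rintro x (⟨y, rfl⟩ | rfl)
    · exact ⟨RW y, hRW y⟩
    · exact ⟨W', πW⟩
  intro G _ ψ hψ hrel
  -- a group over the model
  set ψ' : FreeGroup (Fin 3) →* (ψ.prod π).range := (ψ.prod π).rangeRestrict with hψ'
  set π' : (ψ.prod π).range →* SU 3 F q := (MonoidHom.snd G (SU 3 F q)).comp (ψ.prod π).range.subtype with hπ'
  have hππ : ∀ x, π' (ψ' x) = π x := fun x => rfl
  have rel : ∀ r ∈ L, ψ' r = 1 := fun r hr => Subtype.ext (Prod.ext (hrel r hr) (πL r hr))
  have r0 : ∀ r ∈ L₀, ψ' r = 1 := fun r hr => rel r (List.mem_append_left _ hr)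
  have mem : ∀ r, r ∈ [wv p Zw H' (minpoly (ZMod p) (nu K μ)), Zw ^ p,
      ⁅sh Zw H' 0, U'⁆, ⁅sh Zw H' 1, U'⁆, ⁅sh Zw H' 2, U'⁆, ⁅sh Zw H' 3, U'⁆,
      relZ (wv p U' H₀ (minpoly (ZMod p) (nu K μ))), relZ (U' ^ p), relZ ⁅U', sh V H₀ 1⁆, relZ X14,
      W' * H' * W'⁻¹ * H' ^ q, W' * W', r17, r18] → ψ' r = 1 := fun r hr => rel r (List.mem_append_right _ hr)
  have inZ : ∀ X, ψ' (relZ X) = 1 → InZ p (ψ' Zw) (ψ' H') (ψ' X) := fun X hX => by
    refine ⟨zf X, ?_⟩
    rw [← map_wv ψ']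
    rwa [hrelZ, map_mul, map_inv, mul_inv_eq_one] at hX
  have ψV : ψ' V = ψ' H' * ψ' U' * (ψ' H')⁻¹ := by rw [hV, map_mul, map_mul, map_inv]
  obtain ⟨Φ, Φmul, πΦ, Φu, Φh⟩ := exists_root_hom M D hq p π' (ψ' U') (ψ' H') (ψ' Zw) u₁
    (by simp [hu₁]) ((hππ _).trans πU) ((hππ _).trans πH)
    (by rw [hZw, map_commutatorElement, ψV])
    (by rw [← map_wv ψ']; exact mem _ (by simp))
    (by rw [← map_pow]; exact mem _ (by simp))
    (ψL₀ _ ψ' r0)
    (fun j hj => by
      rw [← map_sh ψ', ← commutatorElement_eq_one_iff_commute, ← map_commutatorElement]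
      interval_cases j <;> exact mem _ (by simp))
    (by rw [← map_pow, ← map_wv ψ']; exact inZ _ (mem _ (by simp [hH₀])))
    (by rw [← map_pow]; exact inZ _ (mem _ (by simp)))
    (by rw [← ψV, ← map_pow, ← map_sh ψ', ← map_commutatorElement]; exact inZ _ (mem _ (by simp [hH₀])))
    ⟨f14, g14, by
      have := inZ X14 (mem _ (by simp))
      simpa only [hX14, hH₀, map_mul, map_inv, map_wv, map_pow, ψV] using this⟩
  let RΦ : Subgroup (ψ.prod π).range :=
    { carrier := Set.range Φ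
      one_mem' := ⟨pone K, by
        have h1 := Φmul (pone K) (pone K)
        rw [show pmul K (pone K) (pone K) = pone K from
          Subtype.ext (Prod.ext (by simp [pmul, pone]) (by simp [pmul, pone]))] at h1
        exact mul_eq_left.mp h1⟩
      mul_mem' := by rintro _ _ ⟨x, rfl⟩ ⟨y, rfl⟩; exact ⟨_, (Φmul x y).symm⟩
      inv_mem' := by
        rintro _ ⟨x, rfl⟩
        refine ⟨pinv K x, ?_⟩
        rw [eq_inv_iff_mul_eq_one, Φmul]
        have e : pmul K (pinv K x) x = pone K := by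
          refine Subtype.ext (Prod.ext ?_ ?_)
          · simp [pmul, pinv, pone]
          · simp [pmul, pinv, pone]
            linear_combination x.2
        rw [e]
        have h1 := Φmul (pone K) (pone K)
        rw [show pmul K (pone K) (pone K) = pone K from
          Subtype.ext (Prod.ext (by simp [pmul, pone]) (by simp [pmul, pone]))] at h1
        exact mul_eq_left.mp h1 }
  have word_eq : ∀ X ∈ uWords, ∀ x, π X = φ x → ψ' X = Φ x := by
    have hle : uWords ≤ RΦ.comap ψ' := by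
      refine (Subgroup.closure_le _).2 ?_
      rintro _ ⟨i, rfl⟩
      show ψ' (sh U' H' i) ∈ RΦ
      rw [map_sh ψ']
      induction i with
      | zero => exact ⟨u₁, by rw [SLPres.sh_zero, Φu]⟩
      | succ i ih =>
        obtain ⟨y, hy⟩ := ih
        exact ⟨act K μ y, by rw [← Φh, hy, add_comm i 1, ← SLPres.sh_add, pow_one]⟩
    intro X hX x hx
    obtain ⟨y, hy⟩ := hle hX
    rw [← hy]
    refine congrArg Φ (M.φ_inj ?_)
    rw [← πΦ, hy, hππ, hx]
  have hU : U' ∈ uWords := Subgroup.subset_closure ⟨0, SLPres.sh_zero _ _⟩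
  have hVm : V ∈ uWords := Subgroup.subset_closure ⟨1, by rw [SLPres.sh_one]⟩
  have hZm : Zw ∈ uWords := by
    rw [hZw, commutatorElement_def]
    exact mul_mem (mul_mem (mul_mem hU hVm) (inv_mem hU)) (inv_mem hVm)
  have seedψ : ∀ (X : FreeGroup (Fin 3)) (x : Par K) (r : FreeGroup (Fin 3)) (k : ℕ), X ∈ uWords →
      π X = φ x → r = W' * X * W' * (RW (lp K x) * H' ^ k * W' * RW (rp K x))⁻¹ → ψ' r = 1 →
      ∃ k a y, ψ' W' * Φ x * ψ' W' = Φ a * ψ' H' ^ k * ψ' W' * Φ y := by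
    intro X x r k hX hx er hr
    refine ⟨k, lp K x, rp K x, ?_⟩
    rw [er, map_mul, map_inv, mul_inv_eq_one, map_mul, map_mul, map_mul, map_mul, map_mul, map_pow,
      word_eq X hX x hx, word_eq _ (hRWm _) _ (hRW _), word_eq _ (hRWm _) _ (hRW _)] at hr
    exact hr
  have hgen : Subgroup.closure (Set.range Φ ∪ {ψ' H', ψ' W'}) = ⊤ := by
    rw [eq_top_iff]
    intro x hx0; clear hx0
    obtain ⟨y, rfl⟩ := (ψ.prod π).rangeRestrict_surjective x
    show ψ' y ∈ _
    induction y using FreeGroup.induction_on with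
    | C1 => rw [map_one]; exact one_mem _
    | of i =>
      fin_cases i
      · exact Subgroup.subset_closure (Or.inl ⟨u₁, Φu⟩)
      · exact Subgroup.subset_closure (Or.inr (Or.inl rfl))
      · exact Subgroup.subset_closure (Or.inr (Or.inr rfl))
    | inv_of i ih => rw [map_inv]; exact inv_mem ih
    | mul x y hx hy => rw [map_mul]; exact mul_mem hx hy
  obtain ⟨hfin, hcard⟩ := card_le M D hq π' (ψ' H') (ψ' W') Φ Φmul πΦ Φh ((hππ _).trans πH)
    ((hππ _).trans πW) (by rw [← map_mul]; exact mem _ (by simp))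
    (by
      rw [← map_inv, ← map_mul, ← map_mul, ← map_pow, ← map_inv, ← mul_inv_eq_one, ← map_inv,
        ← map_mul, inv_inv]
      exact mem _ (by simp))
    hgen hs hs0 (seedψ Zw _ r17 k17 hZm πZ e17 (mem _ (by simp)))
    (fun hm => seedψ U' ⟨(1, sec K 1 (K.bar μ / μ)), hm⟩ r18 k18 hU πU e18 (mem _ (by simp)))
  set π₁ : (ψ.prod π).range →* G := (MonoidHom.fst G (SU 3 F q)).comp (ψ.prod π).range.subtype
  have hs₁ : Function.Surjective π₁ := fun x => by
    obtain ⟨y, rfl⟩ := hψ x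
    exact ⟨ψ' y, rfl⟩
  refine ⟨Finite.of_surjective _ hs₁, (Nat.card_le_card_of_surjective _ hs₁).trans ?_⟩
  rw [ModuleIndex.UThree.card_SU_three K]
  exact hcard

end CfsgLib.SUPres
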