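import Cfsg.Agent.Lib.SUPres.Orbit
import Cfsg.Agent.Lib.SLPres.Field

/-!
# The root group, torus and reflection inside `SU₃`, and a generator of the field
-/

set_option autoImplicit false

namespace CfsgLib.SUPres

open Cfsg CfsgLib.Classical.Herm CfsgLib.Classical.Elation CfsgLib.Classical.URegGen
open CfsgLib.ClassicalAut (Unitary.Conj)
open CfsgLib.Classical.URoot (Par pmul pinv pone)

variable {F : Type*} [Field F] [Finite F] {q : ℕ}

/-- A generator of the field. -/
structure FD (K : Unitary.Conj F q) (μ : F) : Prop where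
  ne : μ ≠ 0
  gen : ∀ t : F, t ≠ 0 → ∃ i : ℕ, t = μ ^ i
  ord : ∀ i, μ ^ i = 1 → q ^ 2 - 1 ∣ i
  pow : μ ^ (q ^ 2 - 1) = 1
  bar_ne : K.bar μ ≠ μ
  ker : ∀ r, r * K.bar r = 1 → ∃ k : ℕ, r = (K.bar μ / μ) ^ k
  fix : ∀ c, c ≠ 0 → K.bar c = c → ∃ j : ℕ, c = (μ * K.bar μ) ^ j

theorem exists_fd (K : Unitary.Conj F q) : ∃ μ : F, FD K μ := by
  cases nonempty_fintype F
  obtain ⟨μ, h0, hp, hord, hgen⟩ := SLPres.exists_primitive (F := F)
  have hc : Fintype.card F = q ^ 2 := by rw [← Nat.card_eq_fintype_card, K.card]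
  rw [hc] at hp hord
  have hq := K.two_le
  have hsq : q ^ 2 - 1 = (q - 1) * (q + 1) := by
    have := Nat.sq_sub_sq q 1
    rw [one_pow] at this
    rw [this, mul_comm]
  have hb : ∀ i : ℕ, K.bar (μ ^ i) = μ ^ (q * i) := fun i => by
    rw [K.bar_apply, ← pow_mul, mul_comm]
  refine ⟨μ, h0, hgen, hord, hp, fun h => ?_, fun r hr => ?_, fun c hc0 hcb => ?_⟩
  · obtain ⟨y, hy⟩ := K.exists_moved
    rcases eq_or_ne y 0 with rfl | hy0
    · exact hy (map_zero K.bar)
    obtain ⟨i, rfl⟩ := hgen y hy0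
    exact hy (by rw [map_pow, h])
  · obtain ⟨i, rfl⟩ := hgen r (left_ne_zero_of_mul_eq_one hr)
    rw [hb, ← pow_add] at hr
    have h1 := hord _ hr
    rw [hsq, show i + q * i = i * (q + 1) by ring] at h1
    obtain ⟨k, rfl⟩ := (Nat.mul_dvd_mul_iff_right (by omega)).1 h1
    refine ⟨k, ?_⟩
    rw [K.bar_apply, pow_mul]
    congr 1
    rw [eq_div_iff h0, ← pow_succ, Nat.sub_add_cancel (by omega)]
  · obtain ⟨i, rfl⟩ := hgen c hc0
    rw [hb] at hcb
    have h1 : μ ^ ((q - 1) * i) = 1 := by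
      have e : μ ^ ((q - 1) * i) * μ ^ i = 1 * μ ^ i := by
        rw [← pow_add, one_mul, ← hcb]
        congr 1
        rw [Nat.sub_mul, one_mul, Nat.sub_add_cancel (Nat.le_mul_of_pos_left _ (by omega))]
      exact mul_right_cancel₀ (pow_ne_zero _ h0) e
    have h2 := hord _ h1
    rw [hsq] at h2
    obtain ⟨j, rfl⟩ := (Nat.mul_dvd_mul_iff_left (show 0 < q - 1 by omega)).1 h2
    exact ⟨j, by rw [K.bar_apply, pow_mul, pow_succ']⟩

/-- The subfield fixed by the conjugation. -/
def F0 (K : Unitary.Conj F q) : Subfield F := (K.bar : F →+* F).eqLocusField (RingHom.id F)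

omit [Finite F] in
theorem mem_F0 (K : Unitary.Conj F q) {c : F} : c ∈ F0 K ↔ K.bar c = c := Iff.rfl

omit [Finite F] in
theorem fixed (K : Unitary.Conj F q) (c : F0 K) : K.bar (c : F) = (c : F) := c.2

/-- Root group, torus and reflection of a group. -/
structure Model (K : Unitary.Conj F q) (T : Type*) [Group T] (φ : Par K → T) (th : F → T) (w : T) :
    Prop where
  φ_mul : ∀ x y, φ x * φ y = φ (pmul K x y)
  φ_inj : Function.Injective φ
  th_mul : ∀ l m, l ≠ 0 → m ≠ 0 → th l * th m = th (l * m)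
  th_conj : ∀ l, l ≠ 0 → ∀ x, th l * φ x * (th l)⁻¹ = φ (act K l x)
  w_th : ∀ l, l ≠ 0 → w * th l * w⁻¹ = th (K.bar l)⁻¹
  w_sq : w * w = 1
  bruhat : ∀ x, x ≠ pone K → w * φ x * w = φ (lp K x) * th (K.bar x.1.2)⁻¹ * w * φ (rp K x)
  gen : Subgroup.closure (Set.range φ ∪ {w}) = ⊤
  w_not : ∀ x l, l ≠ 0 → φ x * th l ≠ w
  th_not : ∀ x l, l ≠ 0 → th l = φ x → l = 1

variable (K : Unitary.Conj F q)

theorem exists_model (hq : 3 ≤ q) :
    ∃ (φ : Par K → SU 3 F q) (th : F → SU 3 F q) (w : SU 3 F q), Model K (SU 3 F q) φ th w := by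
  classical
  obtain ⟨B⟩ : Nonempty (HB 1 3 q F) := exists_hb K 1
  have hE : B.E 0 ≠ 0 := fun h => by
    have := B.fe 0 0 one_pos one_pos
    rw [h, h_zero_right K, if_pos rfl] at this
    exact zero_ne_one this
  choose φ hφ using fun x : Par K => exists_sgE K B le_rfl x.2
  have hmul : ∀ x y, φ x * φ y = φ (pmul K x y) := by
    intro x y
    refine sg_unique K ?_ (hφ _)
    have := sg_mul K (hφ x) (hφ y)
    rw [h_smul_left K, h_smul_right K, B.zz, ← add_smul] at this
    convert this using 2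
    · simp [pmul]; ring
    · simp [pmul, K.bar_bar]
  have happ := fun x => appE K B (hφ x)
  have hinj : Function.Injective φ := by
    intro x y he
    obtain ⟨-, hf, hz⟩ := happ x
    obtain ⟨-, hf', hz'⟩ := happ y
    rw [he, hf'] at hf
    rw [he, hz'] at hz
    have ha : y.1.1 = x.1.1 := smul_left_injective F hE (add_left_cancel hz)
    rw [ha] at hf
    exact Subtype.ext (Prod.ext ha (smul_left_injective F hE (add_left_cancel hf))).symm
  have hmono : ∀ l : F, l ≠ 0 → ∃ g : SU 3 F q, app g (B.E 0) = (K.bar l)⁻¹ • B.Fv 0 ∧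
      app g (B.Fv 0) = l • B.E 0 ∧ app g B.z = (-(K.bar l / l)) • B.z := by
    intro l hl
    obtain ⟨a, ha⟩ := K.exists_norm (-(l + K.bar l)) (by rw [map_neg, map_add, K.bar_bar, add_comm])
    exact exists_mono K B le_rfl hl (a := a) (by linear_combination ha)
  choose! mono hm1 hm2 hm3 using hmono
  set w := mono 1 with hw
  have w1 : app w (B.E 0) = B.Fv 0 := by rw [hw, hm1 1 one_ne_zero, map_one, inv_one, one_smul]
  have w2 : app w (B.Fv 0) = B.E 0 := by rw [hw, hm2 1 one_ne_zero, one_smul]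
  have w3 : app w B.z = (-1 : F) • B.z := by rw [hw, hm3 1 one_ne_zero, map_one, div_one]
  set th : F → SU 3 F q := fun l => mono l * w
  have t1 : ∀ l, l ≠ 0 → app (th l) (B.E 0) = l • B.E 0 := fun l hl => by rw [app_mul, w1, hm2 l hl]
  have t2 : ∀ l, l ≠ 0 → app (th l) (B.Fv 0) = (K.bar l)⁻¹ • B.Fv 0 := fun l hl => by
    rw [app_mul, w2, hm1 l hl]
  have t3 : ∀ l, l ≠ 0 → app (th l) B.z = (K.bar l / l) • B.z := fun l hl => by
    rw [app_mul, w3, app_smul, hm3 l hl, smul_smul, neg_mul_neg, one_mul]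
  have hww : w * w = 1 := by
    refine ext₁ K B ?_ ?_ ?_ <;> simp only [app_mul, app_one, w1, w2, w3, app_smul, smul_smul]
    norm_num
  have hwi : w⁻¹ = w := inv_eq_of_mul_eq_one_right hww
  refine ⟨φ, th, w, hmul, hinj, fun l m hl hm => ?_, fun l hl x => ?_, fun l hl => ?_, hww,
    fun x hx => ?_, ?_, fun x l hl e => ?_, fun x l hl e => ?_⟩
  · have hlm := mul_ne_zero hl hm
    refine ext₁ K B ?_ ?_ ?_
    · rw [app_mul, t1 m hm, app_smul, t1 l hl, t1 _ hlm, smul_smul, mul_comm]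
    · rw [app_mul, t2 m hm, app_smul, t2 l hl, t2 _ hlm, smul_smul, map_mul, mul_inv, mul_comm]
    · rw [app_mul, t3 m hm, app_smul, t3 l hl, t3 _ hlm, smul_smul, map_mul, div_mul_div_comm,
        mul_comm (K.bar m), mul_comm m]
  · have hl' := (map_ne_zero K.bar).2 hl
    obtain ⟨a1, a2, a3⟩ := happ x
    obtain ⟨b1, b2, b3⟩ := happ (act K l x)
    rw [mul_inv_eq_iff_eq_mul]
    refine ext₁ K B ?_ ?_ ?_
    all_goals simp only [app_mul, t1 l hl, t2 l hl, t3 l hl, a1, a2, a3, b1, b2, b3, app_add, app_sub',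
      app_smul]
    all_goals simp only [act, map_mul, map_div₀, map_pow, K.bar_bar]
    · match_scalars <;> field_simp
    · match_scalars <;> field_simp
  · have hl' := (map_ne_zero K.bar).2 hl
    rw [hwi]
    have hl2 : (K.bar l)⁻¹ ≠ 0 := inv_ne_zero hl'
    refine ext₁ K B ?_ ?_ ?_
    all_goals simp only [app_mul, w1, w2, w3, t1 l hl, t2 l hl, t3 l hl, app_smul, t1 _ hl2, t2 _ hl2,
      t3 _ hl2]
    all_goals simp only [map_inv₀, K.bar_bar]
    · simp
    · match_scalars; field_simp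
  · have hb := snd_ne_zero K hx
    have hb' := (map_ne_zero K.bar).2 hb
    have hl : (K.bar x.1.2)⁻¹ ≠ 0 := inv_ne_zero hb'
    obtain ⟨a1, a2, a3⟩ := happ x
    obtain ⟨r1, r2, r3⟩ := happ (rp K x)
    obtain ⟨p1, p2, p3⟩ := happ (lp K x)
    refine ext₁ K B ?_ ?_ ?_
    all_goals simp only [app_mul, w1, w2, w3, a1, a2, a3, r1, r2, r3, app_add, app_sub', app_smul,
      t1 _ hl, t2 _ hl, t3 _ hl, p1, p2, p3]
    all_goals simp only [lp, rp, map_neg, map_div₀, map_inv₀, K.bar_bar]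
    all_goals match_scalars
    all_goals field_simp
    all_goals first
      | ring1
      | linear_combination x.2
      | linear_combination -x.2
  · set M := Subgroup.closure (Set.range φ ∪ {w})
    have hU : ∀ x, φ x ∈ M := fun x => Subgroup.subset_closure (Or.inl ⟨x, rfl⟩)
    have hT : ∀ g c, IsT K g (B.E 0) c → g ∈ M := by
      intro g c hg
      have hc : c + K.bar c = 0 := hg.2.1
      have hx : (0 : F) * K.bar 0 + c + K.bar c = 0 := by linear_combination hc
      have h1 := hφ ⟨(0, c), hx⟩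
      simp only [map_zero, neg_zero, zero_smul] at h1
      rw [sg_unique K ((isT_iff K).1 hg) h1]
      exact hU _
    refine eq_top_of_elations K (B.ee 0 0) le_rfl (fun h => by omega) hT (fun x hx => ?_)
      (Subgroup.subset_closure (Or.inr rfl) : w ∈ M) ?_
    · rw [expand₁ K B x, hx, zero_smul, add_zero, add_comm]
      refine (pars K M (B.ee 0 0)).add_mem ?_ (smul_self_mem_pars K _ _)
      set a : F := -K.bar (hermForm 3 F q x B.z) with ha
      obtain ⟨y, hy⟩ := K.exists_trace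
      have hab : a * K.bar a + (-(a * K.bar a) * y / (y + K.bar y)) +
          K.bar (-(a * K.bar a) * y / (y + K.bar y)) = 0 := by
        simp only [map_div₀, map_mul, map_neg, map_add, K.bar_bar, add_comm (K.bar y) y]
        field_simp
        ring
      obtain ⟨b, hb⟩ : ∃ b, a * K.bar a + b + K.bar b = 0 := ⟨_, hab⟩
      refine ⟨φ ⟨(a, b), hb⟩, hU _, b, ?_⟩
      have h1 := hφ ⟨(a, b), hb⟩
      simpa [ha, K.bar_bar] using h1
    · rw [w1, B.fe 0 0 one_pos one_pos, if_pos rfl]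
      exact one_ne_zero
  · have h1 := congrArg (fun g => hermForm 3 F q (app g (B.E 0)) (B.E 0)) e
    simp only [app_mul, t1 l hl, app_smul, (happ x).1, w1, h_smul_left K, B.ee, mul_zero,
      B.fe 0 0 one_pos one_pos, if_pos rfl] at h1
    exact zero_ne_one h1
  · have h1 := congrArg (fun g => app g (B.E 0)) e
    simp only [t1 l hl, (happ x).1] at h1
    exact smul_left_injective F hE (h1.trans (one_smul F _).symm)

end CfsgLib.SUPres
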