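import Cfsg.Agent.Lib.Classical.UnitaryRootGroup

/-!
# Root parameters under the three moves

The torus, inversion, the reflection `(a, b) ↦ (-a / b, 1 / b)` and translation by the centre move one
parameter to every other.
-/

set_option autoImplicit false

namespace CfsgLib.SUPres

open CfsgLib.ClassicalAut (Unitary.Conj)
open CfsgLib.Classical.URoot (Par pmul pinv pone)

variable {F : Type*} [Field F] [Finite F] {q : ℕ} (K : Unitary.Conj F q)

omit [Finite F] in
theorem snd_ne_zero {u : Par K} (h : u ≠ pone K) : u.1.2 ≠ 0 := fun hb => h <| by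
  have := u.2
  rw [hb, map_zero, add_zero, add_zero] at this
  refine Subtype.ext (Prod.ext ?_ hb)
  rcases mul_eq_zero.1 this with h' | h'
  · exact h'
  · exact (map_eq_zero K.bar).1 h'

/-- The torus action. -/
def act (l : F) (u : Par K) : Par K :=
  ⟨(l ^ 2 / K.bar l * u.1.1, l * K.bar l * u.1.2), by
    by_cases hl : l = 0
    · simp [hl]
    have := (map_ne_zero K.bar).2 hl
    simp only [map_mul, map_div₀, map_pow, K.bar_bar]
    field_simp
    linear_combination (l * K.bar l) * u.2⟩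

/-- The right Bruhat parameter of `w u w`. -/
def rp (u : Par K) : Par K :=
  ⟨(-u.1.1 / u.1.2, u.1.2⁻¹), by
    by_cases hu : u = pone K
    · simp [hu, pone]
    have h0 := snd_ne_zero K hu
    have := (map_ne_zero K.bar).2 h0
    simp only [map_neg, map_div₀, map_inv₀]
    field_simp
    linear_combination u.2⟩

/-- The left Bruhat parameter of `w u w`. -/
def lp (u : Par K) : Par K :=
  ⟨(-u.1.1 / K.bar u.1.2, u.1.2⁻¹), by
    by_cases hu : u = pone K
    · simp [hu, pone]
    have h0 := snd_ne_zero K hu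
    have := (map_ne_zero K.bar).2 h0
    simp only [map_neg, map_div₀, map_inv₀, K.bar_bar]
    field_simp
    linear_combination u.2⟩

/-- A central parameter. -/
def zpar (s : F) (hs : s + K.bar s = 0) : Par K := ⟨(0, s), by simpa using hs⟩

/-- The second coordinate belonging to `a` and the ratio `r = -b / bar b`. -/
def sec (a r : F) : F := r * (a * K.bar a) / (1 - r)

theorem sec_mem {a r : F} (hr : r * K.bar r = 1) (h1 : r ≠ 1) :
    a * K.bar a + sec K a r + K.bar (sec K a r) = 0 := by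
  have hr0 : r ≠ 0 := left_ne_zero_of_mul_eq_one hr
  have hb : K.bar r = r⁻¹ := eq_inv_of_mul_eq_one_right hr
  have h2 : (1 : F) - r ≠ 0 := sub_ne_zero.2 h1.symm
  have h3 : r - 1 ≠ 0 := sub_ne_zero.2 h1
  simp only [sec, map_div₀, map_mul, map_sub, map_one, K.bar_bar, hb]
  field_simp
  ring

/-- Every parameter outside the centre has this form. -/
theorem exists_ratio (u : Par K) (ha : u.1.1 ≠ 0) :
    ∃ r, r * K.bar r = 1 ∧ r ≠ 1 ∧ u.1.2 = sec K u.1.1 r := by
  have hu := u.2
  have hN : u.1.1 * K.bar u.1.1 ≠ 0 := mul_ne_zero ha ((map_ne_zero K.bar).2 ha)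
  have hb : u.1.2 ≠ 0 := snd_ne_zero K fun h => ha (by rw [h]; rfl)
  have hb' := (map_ne_zero K.bar).2 hb
  refine ⟨-u.1.2 / K.bar u.1.2, ?_, fun h => hN ?_, ?_⟩
  · simp only [map_div₀, map_neg, K.bar_bar]; field_simp
  · rw [div_eq_one_iff_eq hb'] at h; linear_combination hu + h
  · have hs : K.bar u.1.2 + u.1.2 ≠ 0 := fun h => hN (by linear_combination hu - h)
    rw [sec]
    field_simp
    rw [← neg_div, eq_comm, div_eq_one_iff_eq (by simpa [sub_neg_eq_add] using hs)]
    linear_combination -hu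

variable {P : Par K → Prop}

/-- The value of `P` at `(a, sec a r)`. -/
def At (P : Par K → Prop) (a r : F) : Prop := ∀ h, P ⟨(a, sec K a r), h⟩

omit [Finite F] in
theorem at_intro {a r : F} {u : Par K} (hu : P u) (h1 : u.1.1 = a) (h2 : u.1.2 = sec K a r) :
    At K P a r := fun h => by
  have : u = ⟨(a, sec K a r), h⟩ := Subtype.ext (Prod.ext h1 h2)
  exact this ▸ hu

variable (hact : ∀ l, l ≠ 0 → ∀ u, P u → P (act K l u)) (hinv : ∀ u, P u → P (pinv K u))
  (hrp : ∀ u, u ≠ pone K → P u → P (rp K u))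
include hact

theorem at_act {a r l : F} (hr : r * K.bar r = 1) (h1 : r ≠ 1) (hl : l ≠ 0) (h : At K P a r) :
    At K P (l ^ 2 / K.bar l * a) r := by
  refine at_intro K (hact l hl _ (h (sec_mem K hr h1))) rfl ?_
  show l * K.bar l * sec K a r = sec K (l ^ 2 / K.bar l * a) r
  have := (map_ne_zero K.bar).2 hl
  simp only [sec, map_mul, map_div₀, map_pow, K.bar_bar]
  field_simp

theorem at_smul_fixed {a r c : F} (hr : r * K.bar r = 1) (h1 : r ≠ 1) (hc : c ≠ 0) (hcb : K.bar c = c)
    (h : At K P a r) : At K P (c * a) r := by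
  have := at_act K hact hr h1 hc h
  rwa [hcb, pow_two, mul_div_assoc, div_self hc, mul_one] at this

include hinv in
theorem at_inv {a r : F} (hr : r * K.bar r = 1) (h1 : r ≠ 1) (h : At K P a r) : At K P a r⁻¹ := by
  have hr0 : r ≠ 0 := left_ne_zero_of_mul_eq_one hr
  have h2 : (1 : F) - r ≠ 0 := sub_ne_zero.2 h1.symm
  have h3 : r - 1 ≠ 0 := sub_ne_zero.2 h1
  refine at_intro K (hact (-1) (neg_ne_zero.2 one_ne_zero) _ (hinv _ (h (sec_mem K hr h1)))) ?_ ?_
  · simp [act, pinv]
  · show (-1) * K.bar (-1) * K.bar (sec K a r) = _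
    simp only [sec, map_neg, map_one, map_div₀, map_mul, map_sub, K.bar_bar,
      eq_inv_of_mul_eq_one_right hr]
    field_simp

include hinv hrp in
theorem at_step {a r : F} (hr : r * K.bar r = 1) (h1 : r ≠ 1) (ha : a ≠ 0) (h : At K P a r) :
    At K P ((1 - r) / r * a) r := by
  have hr0 : r ≠ 0 := left_ne_zero_of_mul_eq_one hr
  have h2 : (1 : F) - r ≠ 0 := sub_ne_zero.2 h1.symm
  have h3 : r - 1 ≠ 0 := sub_ne_zero.2 h1
  have ha' : K.bar a ≠ 0 := (map_ne_zero K.bar).2 ha
  set v : Par K := ⟨(a, sec K a r), sec_mem K hr h1⟩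
  have hne : v ≠ pone K := fun e => ha (congrArg (fun x : Par K => x.1.1) e)
  set c : F := a * K.bar a with hc
  have hc0 : c ≠ 0 := mul_ne_zero ha ha'
  set a' : F := -a / sec K a r with ha1
  have key : At K P a' r⁻¹ := by
    refine at_intro K (hrp v hne (h _)) rfl ?_
    show (sec K a r)⁻¹ = sec K a' r⁻¹
    simp only [ha1, sec, map_div₀, map_neg, map_mul, map_sub, map_one, K.bar_bar,
      eq_inv_of_mul_eq_one_right hr]
    field_simp
  have hi : r⁻¹ * K.bar r⁻¹ = 1 := by rw [map_inv₀, ← mul_inv, hr, inv_one]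
  have k2 := at_inv K hact hinv hi (inv_ne_one.2 h1) key
  rw [inv_inv] at k2
  have k3 := at_smul_fixed K hact hr h1 (c := -c) (neg_ne_zero.2 hc0)
    (by rw [hc, map_neg, map_mul, K.bar_bar]; ring) k2
  convert k3 using 1
  simp only [ha1, sec, hc]
  field_simp

include hinv hrp in
/-- At `g = bar μ / μ` one value gives all. -/
theorem at_all {μ : F} (hμ : μ ≠ 0) (hgen : ∀ t : F, t ≠ 0 → ∃ i : ℕ, t = μ ^ i) (hg : K.bar μ ≠ μ)
    {a₀ : F} (ha₀ : a₀ ≠ 0) (h : At K P a₀ (K.bar μ / μ)) {a : F} (ha : a ≠ 0) :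
    At K P a (K.bar μ / μ) := by
  have hμ' := (map_ne_zero K.bar).2 hμ
  set g := K.bar μ / μ with hgd
  have hr : g * K.bar g = 1 := by rw [hgd, map_div₀, K.bar_bar]; field_simp
  have h1 : g ≠ 1 := by rw [hgd, ne_eq, div_eq_one_iff_eq hμ]; exact hg
  have hg0 : g ≠ 0 := left_ne_zero_of_mul_eq_one hr
  have h2 : (1 : F) - g ≠ 0 := sub_ne_zero.2 h1.symm
  set N : F := (1 - g) * K.bar (1 - g) with hN
  have hN0 : N ≠ 0 := mul_ne_zero h2 ((map_ne_zero K.bar).2 h2)
  have hNb : K.bar N = N := by rw [hN, map_mul, K.bar_bar, mul_comm]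
  have move : ∀ b : F, b ≠ 0 → At K P b g → At K P (g⁻¹ * b) g := by
    intro b hb hP
    have s1 := at_step K hact hinv hrp hr h1 hb hP
    have s2 := at_step K hact hinv hrp hr h1 (mul_ne_zero (div_ne_zero h2 hg0) hb) s1
    have s3 := at_smul_fixed K hact hr h1 (c := -N⁻¹) (neg_ne_zero.2 (inv_ne_zero hN0))
      (by rw [map_neg, map_inv₀, hNb]) s2
    convert s3 using 1
    have e : N = -((1 - g) ^ 2 / g) := by
      rw [hN, map_sub, map_one, eq_inv_of_mul_eq_one_right hr]; field_simp; ring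
    rw [e]; field_simp
  cases nonempty_fintype F
  have pow_move : ∀ (n : ℕ) (b : F), b ≠ 0 → At K P b g → At K P ((g⁻¹) ^ n * b) g := by
    intro n
    induction n with
    | zero => intro b _ hP; simpa using hP
    | succ n ih =>
      intro b hb hP
      rw [pow_succ', mul_assoc]
      exact move _ (mul_ne_zero (pow_ne_zero _ (inv_ne_zero hg0)) hb) (ih b hb hP)
  have gmove : ∀ b : F, b ≠ 0 → At K P b g → At K P (g * b) g := by
    intro b hb hP
    have := pow_move (Fintype.card F - 2) b hb hP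
    have e := FiniteField.pow_card_sub_one_eq_one g⁻¹ (inv_ne_zero hg0)
    have hc : 2 ≤ Fintype.card F := Fintype.one_lt_card
    rw [show Fintype.card F - 1 = Fintype.card F - 2 + 1 by omega, pow_succ] at e
    rwa [eq_inv_of_mul_eq_one_left e, inv_inv] at this
  have μmove : ∀ b : F, b ≠ 0 → At K P b g → At K P (μ * b) g := by
    intro b hb hP
    have := at_act K hact hr h1 hμ (gmove b hb hP)
    convert this using 1
    rw [hgd]; field_simp
  obtain ⟨i, hi⟩ := hgen (a / a₀) (div_ne_zero ha ha₀)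
  rw [div_eq_iff ha₀] at hi
  rw [hi]
  clear hi
  induction i with
  | zero => simpa using h
  | succ i ih =>
    rw [pow_succ', mul_assoc]
    exact μmove _ (mul_ne_zero (pow_ne_zero _ hμ) ha₀) ih

include hinv hrp in
/-- One seed and the centre give everything. -/
theorem all_params {μ : F} (hμ : μ ≠ 0) (hgen : ∀ t : F, t ≠ 0 → ∃ i : ℕ, t = μ ^ i) (hg : K.bar μ ≠ μ)
    (hker : ∀ r, r * K.bar r = 1 → ∃ k : ℕ, r = (K.bar μ / μ) ^ k)
    {a₀ : F} (ha₀ : a₀ ≠ 0) (h : At K P a₀ (K.bar μ / μ))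
    (hz : ∀ u : Par K, u.1.1 = 0 → u ≠ pone K → P u)
    (hrule : ∀ (u : Par K) (s : F) (hs : s + K.bar s = 0), u.1.1 ≠ 0 → s ≠ 0 → P u →
      P (pmul K (rp K u) (zpar K s⁻¹ (by rw [map_inv₀, eq_neg_of_add_eq_zero_right hs, inv_neg, add_neg_cancel]))) →
      P (pmul K u (zpar K s hs)))
    {u : Par K} (hu : u ≠ pone K) : P u := by
  have base := fun (a : F) (ha : a ≠ 0) => at_all K hact hinv hrp hμ hgen hg ha₀ h ha
  have hμ' := (map_ne_zero K.bar).2 hμ
  set g := K.bar μ / μ with hgd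
  have hr : g * K.bar g = 1 := by rw [hgd, map_div₀, K.bar_bar]; field_simp
  have h1 : g ≠ 1 := by rw [hgd, ne_eq, div_eq_one_iff_eq hμ]; exact hg
  suffices main : ∀ k : ℕ, g ^ k ≠ 1 → ∀ a : F, a ≠ 0 → At K P a (g ^ k) by
    by_cases ha : u.1.1 = 0
    · exact hz u ha hu
    obtain ⟨r, hr', hr1, hb⟩ := exists_ratio K u ha
    obtain ⟨k, rfl⟩ := hker r hr'
    have := main k hr1 u.1.1 ha (sec_mem K hr' hr1)
    convert this using 1
    exact Subtype.ext (Prod.ext rfl hb)
  have hrk : ∀ k : ℕ, g ^ k * K.bar (g ^ k) = 1 := fun k => by rw [map_pow, ← mul_pow, hr, one_pow]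
  intro k
  induction k with
  | zero => exact fun h => absurd (pow_zero g) h
  | succ k ih =>
    intro hk a ha
    by_cases hk1 : g ^ k = 1
    · rw [pow_succ, hk1, one_mul]; exact base a ha
    set r' := g ^ (k + 1) with hr'
    have hn' := hrk (k + 1)
    set s := sec K a r' - sec K a g with hsd
    have hs : s + K.bar s = 0 := by
      rw [hsd, map_sub]; linear_combination sec_mem K (a := a) hn' hk - sec_mem K (a := a) hr h1
    have hne : r' ≠ g := fun e => hk1 (mul_right_cancel₀ (left_ne_zero_of_mul_eq_one hr)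
      (by rw [← pow_succ, one_mul]; exact e))
    have hg0 : g ≠ 0 := left_ne_zero_of_mul_eq_one hr
    have d1 : (1 : F) - g ≠ 0 := sub_ne_zero.2 h1.symm
    have d2 : (1 : F) - r' ≠ 0 := sub_ne_zero.2 (Ne.symm hk)
    have d3 : g - 1 ≠ 0 := sub_ne_zero.2 h1
    have d4 : r' - 1 ≠ 0 := sub_ne_zero.2 hk
    have ha' := (map_ne_zero K.bar).2 ha
    have es : s = (r' - g) * (a * K.bar a) / ((1 - r') * (1 - g)) := by
      rw [hsd, sec, sec]; field_simp; ring
    have hs0 : s ≠ 0 := by
      rw [es]; exact div_ne_zero (mul_ne_zero (sub_ne_zero.2 hne) (mul_ne_zero ha ha')) (mul_ne_zero d2 d1)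
    set x : Par K := ⟨(a, sec K a g), sec_mem K hr h1⟩
    set v := pmul K (rp K x) (zpar K s⁻¹ (by rw [map_inv₀, eq_neg_of_add_eq_zero_right hs, inv_neg, add_neg_cancel]))
    have hv : P v := by
      have hb : sec K a g ≠ 0 := by
        rw [sec]; exact div_ne_zero (mul_ne_zero hg0 (mul_ne_zero ha ha')) d1
      have := ih hk1 (-a / sec K a g) (div_ne_zero (neg_ne_zero.2 ha) hb) (sec_mem K (hrk k) hk1)
      convert this using 1
      refine Subtype.ext (Prod.ext ?_ ?_)
      · simp [v, x, pmul, rp, zpar]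
      · show (sec K a g)⁻¹ + s⁻¹ - K.bar 0 * _ = _
        have d5 : g - r' ≠ 0 := sub_ne_zero.2 (Ne.symm hne)
        have d6 : (1 : F) - g ^ k ≠ 0 := sub_ne_zero.2 (Ne.symm hk1)
        have d7 : r' - g ≠ 0 := sub_ne_zero.2 hne
        simp only [sec, es, map_zero, zero_mul, sub_zero, map_div₀, map_neg, map_mul, map_sub,
          map_one, K.bar_bar, eq_inv_of_mul_eq_one_right hr]
        rw [hr', pow_succ'] at d2 d5 d7 ⊢
        field_simp
        ring
    refine at_intro K (hrule x s hs ha hs0 (base a ha _) hv) ?_ ?_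
    · simp [x, pmul, zpar]
    · simp [x, pmul, zpar, hsd]

end CfsgLib.SUPres
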