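import Cfsg.Agent.Lib.SUPres.Glue
import Cfsg.Agent.Lib.SLPres.Pad
import Cfsg.Agent.Lib.SLPres.Swap.GenPair
import Cfsg.Agent.S0281

/-!
# Even permutation matrices in `SU_n` and two generators of `SU₂`
-/

set_option autoImplicit false
set_option linter.style.haveILetI false

namespace CfsgLib.SUPres

open Matrix Cfsg Equiv
open CfsgLib.Classical.Herm
open CfsgLib.Classical.Phan (Blk bv)
open CfsgLib.ClassicalAut (Unitary.Conj)

variable {F : Type*} [Field F] [Finite F] {q : ℕ} (K : Unitary.Conj F q) {n : ℕ}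

include K in
omit [Finite F] in
theorem altMat_mem (σ : alternatingGroup (Fin n)) :
    SLPres.altMatHom (F := F) σ ∈ SU n F q := by
  intro x y
  show hermForm n F q ((σ : Perm (Fin n))⁻¹.permMatrix F *ᵥ x) ((σ : Perm (Fin n))⁻¹.permMatrix F *ᵥ y) = _
  rw [Matrix.permMatrix_mulVec, Matrix.permMatrix_mulVec]
  simp only [hermForm]
  exact Equiv.sum_comp (σ : Perm (Fin n))⁻¹ fun i => x i * y i ^ q

/-- Even permutation matrices as unitary matrices. -/
def altSU : alternatingGroup (Fin n) →* SU n F q :=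
  (SLPres.altMatHom (ι := Fin n) (F := F)).codRestrict _ (altMat_mem K)

theorem app_altSU [NeZero n] (σ : alternatingGroup (Fin n)) {i : ℕ} (hi : i < n) :
    app (altSU K σ) (bv i : Fin n → F) = bv (((σ : Perm (Fin n)) (pt i) : Fin n) : ℕ) := by
  rw [bv, dif_pos hi, bv, dif_pos ((σ : Perm (Fin n)) (pt i)).2]
  show (σ : Perm (Fin n))⁻¹.permMatrix F *ᵥ Pi.single _ 1 = _
  rw [Matrix.permMatrix_mulVec]
  funext a
  simp only [Function.comp_apply, Pi.single_apply]
  have e : (⟨i, hi⟩ : Fin n) = pt i := Fin.ext (pt_val hi).symm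
  congr 1
  rw [e, Fin.eta, Perm.inv_eq_iff_eq]

theorem altSU_mem_Blk [NeZero n] (σ : alternatingGroup (Fin n)) {a b : ℕ}
    (h : ∀ i < n, i < a ∨ b ≤ i → (σ : Perm (Fin n)) (pt i) = pt i) :
    altSU K σ ∈ (Blk a b : Subgroup (SU n F q)) := fun i hi => by
  by_cases hn : i < n
  · rw [app_altSU K σ hn, h i hn hi, pt_val hn]
  · rw [bv, dif_neg hn, Classical.Phan.app_zero']

theorem altSU_conj_Blk [NeZero n] (σ : alternatingGroup (Fin n)) {a b a' b' : ℕ}
    (h : ∀ i < n, (a' ≤ (((σ : Perm (Fin n)) (pt i) : Fin n) : ℕ) ∧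
      (((σ : Perm (Fin n)) (pt i) : Fin n) : ℕ) < b') ↔ (a ≤ i ∧ i < b))
    {g : SU n F q} (hg : g ∈ (Blk a b : Subgroup (SU n F q))) :
    altSU K σ * g * (altSU K σ)⁻¹ ∈ (Blk a' b' : Subgroup (SU n F q)) := by
  intro j hj
  by_cases hn : j < n
  swap
  · rw [bv, dif_neg hn, Classical.Phan.app_zero']
  set i := (((σ : Perm (Fin n))⁻¹ (pt j) : Fin n) : ℕ) with hi
  have hin : i < n := Fin.is_lt _
  have hσi : (σ : Perm (Fin n)) (pt i) = pt j := by
    rw [show (pt i : Fin n) = (σ : Perm (Fin n))⁻¹ (pt j) from Fin.ext (pt_val hin)]; simp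
  have hout : i < a ∨ b ≤ i := by
    by_contra hc
    have := (h i hin).2 ⟨by omega, by omega⟩
    rw [hσi, pt_val hn] at this
    omega
  have e : (bv j : Fin n → F) = app (altSU K σ) (bv i) := by rw [app_altSU K σ hin, hσi, pt_val hn]
  rw [e, app_mul, app_inv, app_mul, hg i hout]

include K in
/-- Two elements generate `SU₂`. -/
theorem su_two_gen : ∃ a b : SU 2 F q, Subgroup.closure ({a, b} : Set (SU 2 F q)) = ⊤ := by
  classical
  cases nonempty_fintype F
  set E : Subfield F := RingHom.eqLocusField K.bar (RingHom.id F)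
  cases nonempty_fintype E
  have hE : Fintype.card E = q := by
    rw [← Nat.card_eq_fintype_card]
    have h := Classical.URoot.card_fix K
    exact h
  obtain ⟨e⟩ := Cfsg.Agent.S0281.result (F := F) (K := E) (q := q)
    (by rw [← Nat.card_eq_fintype_card, K.card]) hE
  obtain ⟨a, ha⟩ := SLPres.Swap.exists_gen (F := E)
  refine ⟨e.symm a, e.symm (SLPres.Swap.sw2 a), ?_⟩
  have := congrArg (Subgroup.map e.symm.toMonoidHom) ha
  rwa [MonoidHom.map_closure, Subgroup.map_top_of_surjective e.symm.toMonoidHom e.symm.surjective,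
    Set.image_pair] at this

end CfsgLib.SUPres
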