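import Cfsg.Agent.Lib.SUPres.Small
import Cfsg.Agent.Lib.SUPres.Three
import Cfsg.Agent.Lib.AltPres.TwoGen.Pair

/-!
# Six generators for `SU_n`
-/

set_option autoImplicit false
set_option linter.style.haveILetI false

namespace CfsgLib.SUPres

open Cfsg
open CfsgLib.ClassicalAut (Unitary.Conj)
open CfsgLib.SLPres (Presents)

universe u

variable {F : Type u} [Field F] [Fintype F] {q : ℕ}

/-- Thirty-five relations on six generators. -/
theorem su_six (hF : Fintype.card F = q ^ 2) {n : ℕ} (hn : 4 ≤ n) : Presents (SU n F q) 6 35 := by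
  haveI : NeZero n := ⟨by omega⟩
  obtain ⟨K⟩ := exists_conj_of_card hF
  have h2 := K.two_le
  by_cases h4 : 4 ≤ q
  · exact ((su_big K h4 hn (su_three_presents (by omega) hF)).addGen).mono (by omega)
  have gen3 : q = 2 ∨ q = 3 → (∃ r, r ≤ 9 ∧ Presents (SU 4 F q) 3 r) ∧
      ∃ a b : SU 3 F q, Subgroup.closure ({a, b} : Set (SU 3 F q)) = ⊤ := by
    rintro (rfl | rfl)
    · obtain ⟨w, hw, -⟩ := Classical.Herm.exists_omega K rfl
      have h2 := Classical.Herm.two_eq_zero K rfl
      have hz : FVal dataQ2.fld w := ⟨(Nat.cast_ofNat (R := F) (n := 2)).trans h2, by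
        show w * w = ((1 : ℕ) : F) + ((1 : ℕ) : F) * w
        simp only [Nat.cast_one, one_mul]
        linear_combination hw - (1 + w) * h2⟩
      exact ⟨⟨8, by omega, su_four_two K⟩,
        su_three_gen_of K dataQ2 hz rfl dataQ2_mem dataQ2_tab2 dataQ2_tab1 dataQ2_all⟩
    · have hc : Fintype.card F = 9 := hF
      obtain ⟨i, hi⟩ : IsSquare (-1 : F) := FiniteField.isSquare_neg_one_iff.2 (by rw [hc]; decide)
      have h3 : (3 : F) = 0 := by
        have h := FiniteField.cast_card_eq_zero F
        rw [hc] at h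
        have : (3 : F) * 3 = 0 := by norm_num; exact_mod_cast h
        exact (mul_self_eq_zero).1 this
      have hz : FVal dataQ3.fld i := ⟨(Nat.cast_ofNat (R := F) (n := 3)).trans h3, by
        show i * i = ((2 : ℕ) : F) + ((0 : ℕ) : F) * i
        simp only [Nat.cast_zero, zero_mul, add_zero, Nat.cast_ofNat]
        linear_combination -hi - h3⟩
      exact ⟨⟨9, le_rfl, su_four_three K⟩,
        su_three_gen_of K dataQ3 hz rfl dataQ3_mem dataQ3_tab2 dataQ3_tab1 dataQ3_all⟩
  obtain ⟨⟨r, hr, hB⟩, hg⟩ := gen3 (by omega)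
  rcases (show n = 4 ∨ 5 ≤ n by omega) with rfl | hn5
  · exact (((hB.addGen).addGen).addGen).mono (by omega)
  · exact ((su_small K hn5 hB hg).addGen).mono (by omega)

/-- One more relation for `PSU_n`. -/
theorem psu_six (hF : Fintype.card F = q ^ 2) {n : ℕ} (hn : 4 ≤ n) : Presents (PSU n F q) 6 36 := by
  obtain ⟨K⟩ := exists_conj_of_card hF
  have := Schur.UnitaryPSU.isCyclic_center (n := n) K (by omega)
  exact (su_six hF hn).quotient _

end CfsgLib.SUPres
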