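import Cfsg.Agent.Lib.SUPres.DataQ2
import Cfsg.Agent.Lib.SUPres.DataQ3
import Cfsg.Agent.Lib.SUPres.CheckQ2A
import Cfsg.Agent.Lib.SUPres.CheckQ2B
import Cfsg.Agent.Lib.SUPres.CheckQ3A
import Cfsg.Agent.Lib.SUPres.CheckQ3B

/-!
# `SU₄(2)` and `SU₄(3)`
-/

set_option autoImplicit false
set_option linter.style.haveILetI false

namespace CfsgLib.SUPres

open Cfsg
open CfsgLib.ClassicalAut (Unitary.Conj)
open CfsgLib.SLPres (Presents)

universe u

variable {F : Type u} [Field F] [Finite F]

theorem card_su_four {q : ℕ} (K : Unitary.Conj F q) :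
    (q + 1) * Nat.card (SU 4 F q) = q ^ 6 * ((q + 1) * (q ^ 2 - 1) * (q ^ 3 + 1) * (q ^ 4 - 1)) := by
  rw [Classical.Herm.card_SU K (by norm_num), Classical.Herm.card_GU K]
  simp [Finset.prod_range_succ, Nat.even_iff]

/-- Eight relations for `SU₄(2)`. -/
theorem su_four_two (K : Unitary.Conj F 2) : Presents (SU 4 F 2) 3 8 := by
  obtain ⟨w, hw, -⟩ := Classical.Herm.exists_omega K rfl
  have h2 := Classical.Herm.two_eq_zero K rfl
  have hz : FVal dataQ2.fld w := ⟨(Nat.cast_ofNat (R := F) (n := 2)).trans h2, by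
    show w * w = ((1 : ℕ) : F) + ((1 : ℕ) : F) * w
    simp only [Nat.cast_one, one_mul]
    linear_combination hw - (1 + w) * h2⟩
  exact su_four_small K dataQ2 hz rfl dataQ2_mem dataQ2_rel dataQ2_tab2 dataQ2_tab1 dataQ2_all
    cert2A_complete cert2B_complete (by decide +kernel) (by decide +kernel) (by decide +kernel)
    (by decide +kernel) (by decide +kernel) (by decide +kernel) (by
      have h := card_su_four K
      norm_num at h
      show 120 * (54 * 4) ≤ _
      omega)

/-- Nine relations for `SU₄(3)`. -/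
theorem su_four_three (K : Unitary.Conj F 3) : Presents (SU 4 F 3) 3 9 := by
  cases nonempty_fintype F
  have hc : Fintype.card F = 9 := by rw [← Nat.card_eq_fintype_card, K.card]; rfl
  obtain ⟨i, hi⟩ : IsSquare (-1 : F) := FiniteField.isSquare_neg_one_iff.2 (by rw [hc]; decide)
  have h3 : (3 : F) = 0 := by
    have h := FiniteField.cast_card_eq_zero F
    rw [hc] at h
    have : (3 : F) * 3 = 0 := by norm_num; exact_mod_cast h
    exact (mul_self_eq_zero).1 this
  have hz : FVal dataQ3.fld i := ⟨(Nat.cast_ofNat (R := F) (n := 3)).trans h3, by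
    show i * i = ((2 : ℕ) : F) + ((0 : ℕ) : F) * i
    simp only [Nat.cast_zero, zero_mul, add_zero, Nat.cast_ofNat]
    linear_combination -hi - h3⟩
  exact su_four_small K dataQ3 hz rfl dataQ3_mem dataQ3_rel dataQ3_tab2 dataQ3_tab1 dataQ3_all
    cert3A_complete cert3B_complete (by decide +kernel) (by decide +kernel) (by decide +kernel)
    (by decide +kernel) (by decide +kernel) (by decide +kernel) (by
      have h := card_su_four K
      norm_num at h
      show 2160 * (2016 * 3) ≤ _
      omega)

end CfsgLib.SUPres
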