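import Cfsg.Agent.Lib.SUPres.Big
import Cfsg.Agent.Lib.SUPres.SmallBase

/-!
# Unitary groups over the fields with four and nine elements
-/

set_option autoImplicit false
set_option linter.style.haveILetI false

namespace CfsgLib.SUPres

open Matrix Cfsg Equiv
open CfsgLib.Classical.Herm
open CfsgLib.Classical.Phan (Blk bv bA bB emb range_emb_two emb_injective emb_emb h01 h12 mat)
open CfsgLib.ClassicalAut (Unitary.Conj)
open CfsgLib.SLPres (Presents)

variable {n : ℕ}

theorem even_three [NeZero n] (hn : 3 ≤ n) (H : Subgroup (alternatingGroup (Fin n))) (hc : cyc hn ∈ H)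
    (σ : alternatingGroup (Fin n)) (h : ∀ x : Fin n, 3 ≤ (x : ℕ) → (σ : Perm (Fin n)) x = x) : σ ∈ H := by
  have key : ∀ τ : alternatingGroup (Fin n), (τ : Perm (Fin n)) (pt 2) = pt 2 →
      (∀ x : Fin n, 3 ≤ (x : ℕ) → (τ : Perm (Fin n)) x = x) → τ ∈ H := fun τ h2 h3 => by
    rw [even_pair τ fun x hx => ?_]; · exact one_mem H
    rcases (show (x : ℕ) = 2 ∨ 3 ≤ (x : ℕ) by omega) with e | e
    · rw [show x = pt 2 from Fin.ext (by rw [pt_val (by omega), e])]; exact h2
    · exact h3 x e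
  have hcf : ∀ x : Fin n, 3 ≤ (x : ℕ) → ((cyc hn)⁻¹ : alternatingGroup (Fin n)).1 x = x := fun x hx => by
    rw [Subgroup.coe_inv, Perm.inv_eq_iff_eq]
    conv_rhs => rw [show x = pt (x : ℕ) from Fin.ext (pt_val x.2).symm, cyc_apply hn x.2,
      if_neg (by omega), if_neg (by omega), if_neg (by omega)]
    exact Fin.ext (pt_val x.2).symm
  have back : ∀ i j, i < n → j < n → (cyc hn : Perm (Fin n)) (pt i) = pt j →
      ((cyc hn)⁻¹ : alternatingGroup (Fin n)).1 (pt j) = pt i := fun i j _ _ e => by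
    rw [Subgroup.coe_inv, Perm.inv_eq_iff_eq, e]
  set i := (((σ : Perm (Fin n)) (pt 2) : Fin n) : ℕ) with hi
  have hlt : i < 3 := by
    by_contra hge
    have := (σ : Perm (Fin n)).injective (h ((σ : Perm (Fin n)) (pt 2)) (by omega))
    have h2 := congrArg Fin.val this
    rw [pt_val (by omega)] at h2
    omega
  have hσ2 : (σ : Perm (Fin n)) (pt 2) = pt i := Fin.ext (pt_val (by omega)).symm
  rcases (show i = 0 ∨ i = 1 ∨ i = 2 by omega) with e | e | e <;> rw [e] at hσ2
  · have := key ((cyc hn)⁻¹ * σ) (by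
      rw [Subgroup.coe_mul, Perm.mul_apply, hσ2]
      exact back 2 0 (by omega) (by omega) (by rw [cyc_apply hn (by omega)]; rfl))
      (fun x hx => by rw [Subgroup.coe_mul, Perm.mul_apply, h x hx]; exact hcf x hx)
    have h2 := mul_mem hc this
    rwa [mul_inv_cancel_left] at h2
  · have := key ((cyc hn)⁻¹ * ((cyc hn)⁻¹ * σ)) (by
      rw [Subgroup.coe_mul, Subgroup.coe_mul, Perm.mul_apply, Perm.mul_apply, hσ2,
        back 0 1 (by omega) (by omega) (by rw [cyc_apply hn (by omega)]; rfl)]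
      exact back 2 0 (by omega) (by omega) (by rw [cyc_apply hn (by omega)]; rfl))
      (fun x hx => by
        rw [Subgroup.coe_mul, Subgroup.coe_mul, Perm.mul_apply, Perm.mul_apply, h x hx, hcf x hx]
        exact hcf x hx)
    have h2 := mul_mem hc (mul_mem hc this)
    rwa [mul_inv_cancel_left, mul_inv_cancel_left] at h2
  · exact key σ hσ2 h

theorem stab_reach [NeZero n] {k j : ℕ} (hk : k ≤ n) (h2 : 2 ≤ k) (v : Fin j → Fin n)
    (hv : Function.Injective v) (hge : ∀ i, k ≤ (v i : ℕ)) (hj : k + j ≤ n) :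
    ∃ σ : alternatingGroup (Fin n), (pts k).image (σ : Perm (Fin n)) = pts k ∧
      ∀ i : Fin j, (σ : Perm (Fin n)) (pt (k + i)) = v i := by
  obtain ⟨g, hg⟩ := SLPres.exists_perm_extend (n := n - k) (v := fun i : Fin j => (⟨i, by omega⟩ : Fin (n - k)))
    (w := fun i => (⟨(v i : ℕ) - k, by have := (v i).2; have := hge i; omega⟩ : Fin (n - k)))
    (fun a b e => Fin.ext (congrArg Fin.val e :))
    (fun a b e => hv (Fin.ext (by
      have : (v a : ℕ) - k = (v b : ℕ) - k := congrArg Fin.val e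
      have := hge a; have := hge b; omega)))
  refine ⟨stabHom hk h2 g, stabFun_stab hk h2 g, fun i => ?_⟩
  have hp : k ≤ ((pt (k + i) : Fin n) : ℕ) := by rw [pt_val (by omega)]; omega
  show stabFun k g (pt (k + i)) = v i
  have h0 : (if Perm.sign g = 1 then 1 else swap (pt 0) (pt 1) : Perm (Fin n)) (pt (k + i)) = pt (k + i) := by
    split_ifs
    · rfl
    · refine swap_apply_of_ne_of_ne ?_ ?_ <;>
        exact fun e => by have := (pt_inj (by omega) (by omega)).1 e; omega
  rw [stabFun, Perm.mul_apply, h0, Perm.extendDomain_apply_subtype g (hiEquiv n k) hp,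
    show (hiEquiv n k).symm ⟨pt (k + i), hp⟩ = (⟨i, by omega⟩ : Fin (n - k)) from
      Fin.ext (by simp [hiEquiv, pt_val (show k + (i : ℕ) < n by omega)]), hg i]
  exact Fin.ext (by have := hge i; simp [hiEquiv]; omega)

/-- A permutation taking the first three points to the next three. -/
def shift3 [NeZero n] (h : 6 ≤ n) : alternatingGroup (Fin n) :=
  dbl (n := n) (a := 0) (b := 3) (c := 1) (d := 4) (by omega) (by omega) (by omega) *
    dbl (n := n) (a := 2) (b := 5) (c := 0) (d := 1) (by omega) (by omega) (by omega)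

theorem shift3_apply [NeZero n] (h : 6 ≤ n) {i : ℕ} (hi : i < n) :
    (shift3 h : Perm (Fin n)) (pt i) = pt (if i = 0 then 4 else if i = 1 then 3 else if i = 2 then 5
      else if i = 3 then 0 else if i = 4 then 1 else if i = 5 then 2 else i) := by
  set j := if i = 2 then 5 else if i = 5 then 2 else if i = 0 then 1 else if i = 1 then 0 else i with hj
  have hjn : j < n := by rw [hj]; split_ifs <;> omega
  rw [shift3, Subgroup.coe_mul, Perm.mul_apply, dbl_apply (a := 2) _ _ _ (by omega) hi, ← hj,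
    dbl_apply (a := 0) _ _ _ (by omega) hjn]
  congr 1
  rcases (show i = 0 ∨ i = 1 ∨ i = 2 ∨ i = 3 ∨ i = 4 ∨ i = 5 ∨ 6 ≤ i by omega) with
    rfl | rfl | rfl | rfl | rfl | rfl | h6 <;> first | (simp [hj]; done) | (rw [hj]; simp only [show i ≠ 0 by omega, show i ≠ 1 by omega, show i ≠ 2 by omega, show i ≠ 3 by omega, show i ≠ 4 by omega, show i ≠ 5 by omega, if_false])

theorem disjoint_pts [NeZero n] {k j : ℕ} (hk : k ≤ n) (hj : j ≤ n) {σ : Perm (Fin n)}
    (h : Disjoint ((pts j).image σ) (pts k)) {i : ℕ} (hi : i < j) : k ≤ ((σ (pt i) : Fin n) : ℕ) := by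
  by_contra hlt
  exact Finset.disjoint_left.1 h
    (Finset.mem_image_of_mem σ ((mem_pts hj).2 (by rw [pt_val (show i < n by omega)]; exact hi)))
    ((mem_pts hk).2 (by omega))

universe u

variable {F : Type u} [Field F] [Finite F] {q : ℕ} (K : Unitary.Conj F q)

include K in
theorem exists_move [NeZero n] {m k : ℕ} (hmn : 0 + m ≤ n) (hk : k ≤ n) (S : Subgroup (SU m F q))
    (hS : S.map (emb K hmn) = Blk 0 k) {σ : alternatingGroup (Fin n)}
    (hσ : (pts k).image (σ : Perm (Fin n)) = pts k) (x : SU m F q) (hx : x ∈ S) :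
    ∃ z ∈ S, altSU K σ * emb K hmn x * (altSU K σ)⁻¹ = emb K hmn z := by
  have h1 : altSU K σ * emb K hmn x * (altSU K σ)⁻¹ ∈ S.map (emb K hmn) := by
    rw [hS, ← alt_Blk_stab K hk hσ]
    exact ⟨_, hS ▸ ⟨x, hx, rfl⟩, rfl⟩
  obtain ⟨z, hz, e⟩ := h1
  exact ⟨z, hz, e.symm⟩

include K in
theorem comm_hold [NeZero n] {m a b c : ℕ} (hmn : 0 + m ≤ n) {p : alternatingGroup (Fin n)}
    (hp : (Blk 0 a : Subgroup (SU n F q)).map (MulAut.conj (altSU K p)).toMonoidHom = Blk b c)
    {k : ℕ} (hk : k ≤ b) {x y : SU m F q} (hx : emb K hmn x ∈ (Blk 0 a : Subgroup (SU n F q)))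
    (hy : emb K hmn y ∈ (Blk 0 k : Subgroup (SU n F q))) :
    wval (emb K hmn) (altSU (n := n) K) (relComm p x y) = 1 := by
  rw [relComm_iff]
  have h2 : altSU K p * emb K hmn x * (altSU K p)⁻¹ ∈ (Blk b c : Subgroup (SU n F q)) := by
    rw [← hp]
    exact Subgroup.mem_map_of_mem _ hx
  exact ((Classical.Phan.comm_Blk_Fix K hk hy (Classical.Phan.Blk_le_Fix le_rfl h2)).eq).symm

include K in
theorem su_three_gen_of (D : SmallData) {z : F} (hz : FVal D.fld z) (hq : D.fld.p = q)
    (hmem : D.memOK = true) (h2 : D.tab2OK = true) (h1 : D.tab1OK = true) (hall : D.allOK = true) :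
    ∃ a b : SU 3 F q, Subgroup.closure ({a, b} : Set (SU 3 F q)) = ⊤ := by
  simp only [SmallData.memOK, Bool.and_eq_true] at hmem
  obtain ⟨⟨⟨⟨hok, hXU⟩, hXd⟩, hYU⟩, hYd⟩ := hmem
  obtain ⟨x, hx, hx'⟩ := exists_code_elem K hz hq D.X hXU hXd
  obtain ⟨y, hy, hy'⟩ := exists_code_elem K hz hq D.Y hYU hYd
  have h3 : ∀ g, mat (letters [x, y] g) = FVal.toM z 3 (D.G3.getD g (D.fld.idM 3)) := fun g => by
    rcases g with _ | _ | _ | _ | g
    · exact hx
    · exact hx'
    · exact hy
    · exact hy'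
    · simp [letters, SmallData.G3, hz.toM_id]; rfl
  refine ⟨x, y, eq_top_iff.2 ?_⟩
  rw [← su_three_top K hz hq hok h3 D.T2 D.T1 h2 h1 hall, Subgroup.closure_le]
  rintro _ ⟨g, rfl⟩
  rcases g with _ | _ | _ | _ | g
  · exact Subgroup.subset_closure (Or.inl rfl)
  · exact inv_mem (Subgroup.subset_closure (Or.inl rfl))
  · exact Subgroup.subset_closure (Or.inr rfl)
  · exact inv_mem (Subgroup.subset_closure (Or.inr rfl))
  · simp [letters]

set_option maxHeartbeats 1000000 in
include K in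
/-- Eighteen mixed relations over `SU₄`. -/
theorem su_small [NeZero n] (hn : 5 ≤ n) {k r : ℕ} (hB : Presents (SU 4 F q) k r)
    (hgen3 : ∃ a b : SU 3 F q, Subgroup.closure ({a, b} : Set (SU 3 F q)) = ⊤) :
    Presents (SU n F q) (k + 2) (r + 7 + 18) := by
  classical
  have hmn : 0 + 4 ≤ n := by omega
  have h03 := PhanSmall.h03
  set e := (emb K hmn : SU 4 F q →* SU n F q) with he
  set f := (emb K h03 : SU 3 F q →* SU 4 F q) with hf
  obtain ⟨xa, xb, hgen⟩ := su_two_gen K (F := F) (q := q)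
  obtain ⟨ya, yb, hgen'⟩ := hgen3
  set S : Subgroup (SU 4 F q) := (f.comp (bA K)).range with hS
  set T : Subgroup (SU 4 F q) := (f.comp (bB K)).range with hT
  set V : Subgroup (SU 4 F q) := f.range with hV
  set W : Subgroup (SU 4 F q) := (emb K PhanSmall.h14 : SU 3 F q →* SU 4 F q).range with hW
  set R : Subgroup (SU 4 F q) := (emb K (show 2 + 2 ≤ 4 by omega) : SU 2 F q →* SU 4 F q).range with hR'
  have eS : S.map e = Blk 0 2 := by
    rw [hS, show f.comp (bA K) = emb K (show 0 + 2 ≤ 4 by omega) from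
      MonoidHom.ext fun A => emb_emb K h01 h03 (by omega) A]
    exact win_map K (show 0 + 2 ≤ 4 by omega) hmn (by omega)
  have eT : T.map e = Blk 1 3 := by
    rw [hT, show f.comp (bB K) = emb K (show 1 + 2 ≤ 4 by omega) from
      MonoidHom.ext fun A => emb_emb K h12 h03 (by omega) A]
    exact win_map K (show 1 + 2 ≤ 4 by omega) hmn (by omega)
  have eV : V.map e = Blk 0 3 := win_map K h03 hmn (by omega)
  have eW : W.map e = Blk 1 4 := win_map K PhanSmall.h14 hmn (by omega)
  have eR : R.map e = Blk 2 4 := win_map K (show 2 + 2 ≤ 4 by omega) hmn (by omega)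
  have eA : ∀ x, e (f (bA K x)) ∈ (Blk 0 2 : Subgroup (SU n F q)) := fun x =>
    eS ▸ ⟨f (bA K x), ⟨x, rfl⟩, rfl⟩
  have eA3 : ∀ x, e (f x) ∈ (Blk 0 3 : Subgroup (SU n F q)) := fun x => eV ▸ ⟨f x, ⟨x, rfl⟩, rfl⟩
  -- the permutations
  set c := cyc (n := n) (by omega) with hc
  set d := dbl (n := n) (a := 0) (b := 3) (c := 1) (d := 2) (by omega) (by omega) (by omega) with hd
  set g := stabHom (n := n) (k := 2) (by omega) le_rfl with hg
  set h := stabHom (n := n) (k := 3) (by omega) (by omega) with hh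
  set s2 := dbl (n := n) (a := 0) (b := 3) (c := 1) (d := 4) (by omega) (by omega) (by omega) with hs2
  obtain ⟨c₃, hc₃V, hc₃⟩ : altSU K c ∈ V.map e := by
    rw [eV]
    refine altSU_mem_Blk K c fun i hi h => ?_
    rw [hc, cyc_apply _ hi, if_neg (by omega), if_neg (by omega), if_neg (by omega)]
  obtain ⟨d₄, hd₄⟩ : altSU K d ∈ e.range := by
    rw [PhanSmall.range_emb_win K hmn]
    refine altSU_mem_Blk K d fun i hi h => ?_
    rw [hd, dbl_apply _ _ _ (by omega) hi, if_neg (by omega), if_neg (by omega), if_neg (by omega),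
      if_neg (by omega)]
  have hgstab : ∀ x, (pts 2).image (g x : Perm (Fin n)) = pts 2 := fun x =>
    stabFun_stab (by omega) le_rfl x
  have hhstab : ∀ x, (pts 3).image (h x : Perm (Fin n)) = pts 3 := fun x =>
    stabFun_stab (by omega) (by omega) x
  have m2 : ∀ x y, ∃ z ∈ S, altSU K (g x) * e (f (bA K y)) * (altSU K (g x))⁻¹ = e z := fun x y =>
    exists_move K hmn (show 2 ≤ n by omega) S eS (hgstab x) _ ⟨y, rfl⟩
  have m3 : ∀ x y, ∃ z ∈ V, altSU K (h x) * e (f y) * (altSU K (h x))⁻¹ = e z := fun x y =>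
    exists_move K hmn (show 3 ≤ n by omega) V eV (hhstab x) _ ⟨y, rfl⟩
  choose z2 z2m hz2 using m2
  choose z3 z3m hz3 using m3
  set E0 : List (List (SU 4 F q ⊕ alternatingGroup (Fin n))) :=
    [relEq c c₃, relEq d d₄,
      relMove (g (finRotate (n - 2))) (f (bA K xa)) (z2 (finRotate (n - 2)) xa),
      relMove (g (finRotate (n - 2))) (f (bA K xb)) (z2 (finRotate (n - 2)) xb),
      relMove (g (adj (n - 2))) (f (bA K xa)) (z2 (adj (n - 2)) xa),
      relMove (g (adj (n - 2))) (f (bA K xb)) (z2 (adj (n - 2)) xb),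
      relMove (h (finRotate (n - 3))) (f ya) (z3 (finRotate (n - 3)) ya),
      relMove (h (finRotate (n - 3))) (f yb) (z3 (finRotate (n - 3)) yb),
      relMove (h (adj (n - 3))) (f ya) (z3 (adj (n - 3)) ya),
      relMove (h (adj (n - 3))) (f yb) (z3 (adj (n - 3)) yb),
      relComm s2 (f (bA K xa)) (f ya), relComm s2 (f (bA K xa)) (f yb),
      relComm s2 (f (bA K xb)) (f ya), relComm s2 (f (bA K xb)) (f yb)] with hE0
  set E6 : List (List (SU 4 F q ⊕ alternatingGroup (Fin n))) :=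
    if h6 : 6 ≤ n then
      [relComm (shift3 h6) (f ya) (f ya),
        relComm (shift3 h6) (f ya) (f yb),
        relComm (shift3 h6) (f yb) (f ya),
        relComm (shift3 h6) (f yb) (f yb)]
    else [] with hE6
  have hlen : (E0 ++ E6).length ≤ 18 := by
    rw [hE6]; split_ifs <;> simp [hE0]
  suffices hP : Presents (SU n F q) (k + 2) (r + 7 + (E0 ++ E6).length) from
    SLPres.Presents.mono hP (by omega)
  have hs2B : (Blk 0 2 : Subgroup (SU n F q)).map (MulAut.conj (altSU K s2)).toMonoidHom = Blk 3 5 :=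
    alt_Blk K s2 fun i hi => by
      rw [hs2, dbl_apply _ _ _ (by omega) hi]
      split_ifs <;> rw [pt_val (by omega)] <;> omega
  refine glue_rels K (show 4 ≤ n by omega) (show 3 ≤ 4 by omega) hmn hB (E0 ++ E6) ?_ ?_
  · intro l hl
    rw [List.mem_append] at hl
    rcases hl with hl | hl
    · simp only [hE0, List.mem_cons, List.not_mem_nil, or_false] at hl
      rcases hl with rfl | rfl | rfl | rfl | rfl | rfl | rfl | rfl | rfl | rfl | rfl | rfl | rfl | rfl
      · exact (relEq_iff _ _ _ _).2 hc₃.symm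
      · exact (relEq_iff _ _ _ _).2 hd₄.symm
      · exact (relMove_iff _ _ _ _ _).2 (hz2 _ _)
      · exact (relMove_iff _ _ _ _ _).2 (hz2 _ _)
      · exact (relMove_iff _ _ _ _ _).2 (hz2 _ _)
      · exact (relMove_iff _ _ _ _ _).2 (hz2 _ _)
      · exact (relMove_iff _ _ _ _ _).2 (hz3 _ _)
      · exact (relMove_iff _ _ _ _ _).2 (hz3 _ _)
      · exact (relMove_iff _ _ _ _ _).2 (hz3 _ _)
      · exact (relMove_iff _ _ _ _ _).2 (hz3 _ _)
      · exact comm_hold K hmn hs2B (le_refl 3) (eA _) (eA3 _)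
      · exact comm_hold K hmn hs2B (le_refl 3) (eA _) (eA3 _)
      · exact comm_hold K hmn hs2B (le_refl 3) (eA _) (eA3 _)
      · exact comm_hold K hmn hs2B (le_refl 3) (eA _) (eA3 _)
    · rw [hE6] at hl
      split_ifs at hl with h6
      swap
      · simp at hl
      have hs3B : (Blk 0 3 : Subgroup (SU n F q)).map (MulAut.conj (altSU K (shift3 h6))).toMonoidHom =
          Blk 3 6 := alt_Blk K _ fun i hi => by
        rw [shift3_apply h6 hi]
        split_ifs <;> rw [pt_val (by omega)] <;> omega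
      simp only [List.mem_cons, List.not_mem_nil, or_false] at hl
      rcases hl with rfl | rfl | rfl | rfl
      · exact comm_hold K hmn hs3B (le_refl 3) (eA3 _) (eA3 _)
      · exact comm_hold K hmn hs3B (le_refl 3) (eA3 _) (eA3 _)
      · exact comm_hold K hmn hs3B (le_refl 3) (eA3 _) (eA3 _)
      · exact comm_hold K hmn hs3B (le_refl 3) (eA3 _) (eA3 _)
  intro G _ θ τ π hπθ hπτ hrel hgenG
  have hR : Reads K hmn θ τ π := ⟨hπθ, hπτ⟩
  have hmem : ∀ l ∈ E0, wval θ τ l = 1 := fun l hl => hrel l (List.mem_append_left _ hl)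
  have rc : τ c = θ c₃ := (relEq_iff _ _ _ _).1 (hmem _ (by simp [hE0]))
  have rd : τ d = θ d₄ := (relEq_iff _ _ _ _).1 (hmem _ (by simp [hE0]))
  set ψ := θ.comp f with hψ
  have hU : (ψ.comp (bA K)).range = S.map θ := by rw [hS, hψ, ← MonoidHom.range_comp]; rfl
  have hUb : (ψ.comp (bB K)).range = T.map θ := by rw [hT, hψ, ← MonoidHom.range_comp]; rfl
  have hVr : ψ.range = V.map θ := by rw [hV, hψ, MonoidHom.range_comp]
  have hXS : Subgroup.closure ({θ (f (bA K xa)), θ (f (bA K xb))} : Set G) = S.map θ := by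
    rw [hS, ← MonoidHom.range_comp, MonoidHom.range_eq_map, ← hgen, MonoidHom.map_closure, Set.image_pair]
    rfl
  have hXV : Subgroup.closure ({θ (f ya), θ (f yb)} : Set G) = V.map θ := by
    rw [hV, ← MonoidHom.range_comp, MonoidHom.range_eq_map, ← hgen', MonoidHom.map_closure, Set.image_pair]
    rfl
  haveI : Finite (S.map θ) := Finite.of_surjective (fun x : S => (⟨θ x, ⟨x, x.2, rfl⟩⟩ : S.map θ))
    (by rintro ⟨_, y, hy, rfl⟩; exact ⟨⟨y, hy⟩, rfl⟩)
  haveI : Finite (V.map θ) := Finite.of_surjective (fun x : V => (⟨θ x, ⟨x, x.2, rfl⟩⟩ : V.map θ))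
    (by rintro ⟨_, y, hy, rfl⟩; exact ⟨⟨y, hy⟩, rfl⟩)
  have norm2 : ∀ σ : alternatingGroup (Fin n), (pts 2).image (σ : Perm (Fin n)) = pts 2 →
      cU τ (S.map θ) σ = S.map θ := by
    intro σ hσ
    have hsm : ∀ {σ : alternatingGroup (Fin n)} {a b : SU 4 F q}, a ∈ S → b ∈ S →
        relMove σ (f (bA K xa)) a ∈ E0 → relMove σ (f (bA K xb)) b ∈ E0 →
        σ ∈ normSub τ (S.map θ) := fun {σ a b} haS hbS ha hb => by
      refine norm_of_rels _ _ hXS σ ?_
      rintro x (rfl | rfl)
      · rw [(relMove_iff _ _ _ _ _).1 (hmem _ ha)]; exact ⟨_, haS, rfl⟩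
      · rw [(relMove_iff _ _ _ _ _).1 (hmem _ hb)]; exact ⟨_, hbS, rfl⟩
    exact stab_mem (show 2 ≤ n by omega) le_rfl (normSub τ (S.map θ))
      (hsm (z2m (finRotate (n - 2)) xa) (z2m (finRotate (n - 2)) xb) (by simp [hE0, hg]) (by simp [hE0, hg]))
      (hsm (z2m (adj (n - 2)) xa) (z2m (adj (n - 2)) xb) (by simp [hE0, hg]) (by simp [hE0, hg]))
      (fun σ' h => by rw [even_pair σ' h]; exact one_mem _) σ hσ
  have norm3 : ∀ σ : alternatingGroup (Fin n), (pts 3).image (σ : Perm (Fin n)) = pts 3 →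
      cU τ (V.map θ) σ = V.map θ := by
    intro σ hσ
    have hsm : ∀ {σ : alternatingGroup (Fin n)} {a b : SU 4 F q}, a ∈ V → b ∈ V →
        relMove σ (f ya) a ∈ E0 → relMove σ (f yb) b ∈ E0 →
        σ ∈ normSub τ (V.map θ) := fun {σ a b} haS hbS ha hb => by
      refine norm_of_rels _ _ hXV σ ?_
      rintro x (rfl | rfl)
      · rw [(relMove_iff _ _ _ _ _).1 (hmem _ ha)]; exact ⟨_, haS, rfl⟩
      · rw [(relMove_iff _ _ _ _ _).1 (hmem _ hb)]; exact ⟨_, hbS, rfl⟩
    have hcN : c ∈ normSub τ (V.map θ) := by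
      have hcV : τ c ∈ V.map θ := by
        rw [rc]
        exact ⟨c₃, hc₃V, rfl⟩
      refine norm_of_rels _ _ hXV c fun x hx => ?_
      exact mul_mem (mul_mem hcV (hXV ▸ Subgroup.subset_closure hx)) (inv_mem hcV)
    exact stab_mem (show 3 ≤ n by omega) (by omega) (normSub τ (V.map θ))
      (hsm (z3m (finRotate (n - 3)) ya) (z3m (finRotate (n - 3)) yb) (by simp [hE0, hh]) (by simp [hE0, hh]))
      (hsm (z3m (adj (n - 3)) ya) (z3m (adj (n - 3)) yb) (by simp [hE0, hh]) (by simp [hE0, hh]))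
      (fun σ' h => even_three _ _ hcN σ' h) σ hσ
  -- the double transposition `(0 2)(1 3)`
  set p := c * d * c⁻¹ with hp
  have rp : τ p = θ (c₃ * d₄ * c₃⁻¹) := by rw [hp]; simp only [map_mul, map_inv, rc, rd]
  have hpi : ∀ i < 4, (p : Perm (Fin n)) (pt i) = pt (if i < 2 then i + 2 else i - 2) := by
    intro i hi
    have hinv : ∀ j < n, (c : Perm (Fin n))⁻¹ (pt j) =
        pt (if j = 0 then 2 else if j = 1 then 0 else if j = 2 then 1 else j) := fun j hj => by
      rw [Perm.inv_eq_iff_eq, hc, cyc_apply _ (by split_ifs <;> omega)]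
      congr 1
      rcases (show j = 0 ∨ j = 1 ∨ j = 2 ∨ 3 ≤ j by omega) with rfl | rfl | rfl | h3
      · simp
      · simp
      · simp
      · simp only [show j ≠ 0 by omega, show j ≠ 1 by omega, show j ≠ 2 by omega, if_false]
    rw [hp]
    simp only [Subgroup.coe_mul, Subgroup.coe_inv, Perm.mul_apply]
    rw [hinv i (by omega), hd, dbl_apply _ _ _ (by omega) (by split_ifs <;> omega), hc,
      cyc_apply _ (by split_ifs <;> omega)]
    congr 1
    interval_cases i <;> simp
  refine glue_main K (show 4 ≤ n by omega) (τ := τ) (ψ := ψ) ⟨?_, fun σ hσ => ?_, ⟨c, ?_, ?_, ?_, ?_, ?_, ?_⟩,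
    ⟨p, ?_, ?_, ?_⟩, ?_, fun _ => ⟨hn, d, θ, ?_, ?_, ?_, ?_, rfl, ?_⟩, fun h2 => ⟨?_, ?_, ?_⟩⟩
  · exact (hR.θ_inj K).comp (emb_injective K h03)
  · rw [hU]; exact norm2 σ hσ
  · rw [hVr, rc]; exact ⟨c₃, hc₃V, rfl⟩
  · rw [hc, cyc_apply _ (by omega)]; rfl
  · rw [hc, cyc_apply _ (by omega)]; rfl
  · rw [hc, cyc_apply _ (by omega)]; rfl
  · intro i hi h3
    rw [hc, cyc_apply _ hi, if_neg (by omega), if_neg (by omega), if_neg (by omega)]
  · rw [hU, hUb]
    refine (hR.transfer K rc S T ?_).symm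
    rw [← he, eS, eT]
    refine alt_Blk K c fun i hi => ?_
    rw [hc, cyc_apply _ hi]
    split_ifs <;> rw [pt_val (by omega)] <;> omega
  · exact hpi 0 (by omega)
  · exact hpi 1 (by omega)
  · rw [hU, hR.transfer K rp S R ?_]
    · rintro _ ⟨x, hx, rfl⟩ _ ⟨y, hy, rfl⟩
      rw [← map_mul, ← map_mul]
      refine congrArg θ (emb_injective K hmn ?_)
      rw [map_mul, map_mul]
      have h1 : e x ∈ (Blk 0 2 : Subgroup (SU n F q)) := eS ▸ Subgroup.mem_map_of_mem e hx
      have h2 : e y ∈ (Blk 2 4 : Subgroup (SU n F q)) := eR ▸ Subgroup.mem_map_of_mem e hy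
      exact (Classical.Phan.comm_Blk_Fix K (le_refl 2) h1 (Classical.Phan.Blk_le_Fix le_rfl h2)).eq
    · rw [← he, eS, eR]
      refine alt_Blk K p fun i hi => ?_
      by_cases hi4 : i < 4
      · rw [hpi i hi4]
        split_ifs <;> rw [pt_val (by omega)] <;> omega
      · have hfix : (p : Perm (Fin n)) (pt i) = pt i := by
          have hcf : (c : Perm (Fin n))⁻¹ (pt i) = pt i := by
            rw [Perm.inv_eq_iff_eq, hc, cyc_apply _ hi, if_neg (by omega), if_neg (by omega), if_neg (by omega)]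
          rw [hp]
          simp only [Subgroup.coe_mul, Subgroup.coe_inv, Perm.mul_apply]
          rw [hcf, hd, dbl_apply _ _ _ (by omega) hi, if_neg (by omega), if_neg (by omega), if_neg (by omega),
            if_neg (by omega), hc, cyc_apply _ hi, if_neg (by omega), if_neg (by omega), if_neg (by omega)]
        rw [hfix, pt_val hi]
        omega
  · rw [← top_le_iff, ← hgenG]
    refine sup_le ?_ le_sup_right
    -- the window is generated by the window of three and its conjugate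
    rw [MonoidHom.range_eq_map, Subgroup.map_le_iff_le_comap, ← four_top K]
    have hle : (Blk 0 3 : Subgroup (SU 4 F q)) ≤ (ψ.range ⊔ τ.range).comap θ := by
      rw [← PhanSmall.range_emb_win K h03]
      rintro _ ⟨x, rfl⟩
      exact Subgroup.mem_sup_left ⟨x, rfl⟩
    refine sup_le hle ?_
    rw [← PhanSmall.range_emb_win K PhanSmall.h14, ← hW]
    intro w hw
    rw [Subgroup.mem_comap]
    have := hR.transfer K rd V W (by
      rw [← he, eV, eW]
      refine alt_Blk K d fun i hi => ?_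
      rw [hd, dbl_apply _ _ _ (by omega) hi]
      split_ifs <;> rw [pt_val (by omega)] <;> omega)
    obtain ⟨y, hy, hyw⟩ : θ w ∈ cU τ (V.map θ) d := this ▸ ⟨w, hw, rfl⟩
    rw [← hyw]
    exact mul_mem (mul_mem (Subgroup.mem_sup_right ⟨d, rfl⟩) (Subgroup.mem_sup_left (hVr ▸ hy)))
      (inv_mem (Subgroup.mem_sup_right ⟨d, rfl⟩))
  · rw [hd, dbl_apply _ _ _ (by omega) (by omega)]; rfl
  · rw [hd, dbl_apply _ _ _ (by omega) (by omega)]; rfl
  · rw [hd, dbl_apply _ _ _ (by omega) (by omega)]; rfl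
  · rw [hd, dbl_apply _ _ _ (by omega) (by omega)]; rfl
  · rw [hVr, hR.transfer K rd V W, hW, MonoidHom.range_comp]
    rw [← he, eV, eW]
    refine alt_Blk K d fun i hi => ?_
    rw [hd, dbl_apply _ _ _ (by omega) hi]
    split_ifs <;> rw [pt_val (by omega)] <;> omega
  · rw [hVr]; exact norm3
  · intro σ hσ
    rw [hU, hVr]
    set v : Fin 2 → Fin n := fun i => (σ : Perm (Fin n)) (pt i) with hv
    obtain ⟨ρ, hρ, hρv⟩ := stab_reach (n := n) (show 3 ≤ n by omega) (by omega) v
      (fun a b hab => Fin.ext ((pt_inj (by omega) (by omega)).1 ((σ : Perm (Fin n)).injective hab)))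
      (fun i => disjoint_pts (show 3 ≤ n by omega) (show 2 ≤ n by omega) hσ i.2) (by omega)
    have himg : (pts 2).image ((σ⁻¹ * (ρ * s2) : alternatingGroup (Fin n)) : Perm (Fin n)) = pts 2 := by
      refine Finset.eq_of_subset_of_card_le ?_ (le_of_eq (Finset.card_image_of_injective _ (Equiv.injective _)).symm)
      intro x hx
      obtain ⟨y, hy, rfl⟩ := Finset.mem_image.1 hx
      rw [mem_pts (by omega)] at hy ⊢
      rw [show y = pt (y : ℕ) from Fin.ext (pt_val y.2).symm]
      rcases (show (y : ℕ) = 0 ∨ (y : ℕ) = 1 by omega) with e | e <;>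
        rw [e] <;> simp only [Subgroup.coe_mul, Subgroup.coe_inv, Perm.mul_apply, hs2]
      · rw [dbl_apply _ _ _ (by omega) (by omega), if_pos rfl, show (pt 3 : Fin n) = pt (3 + ((0 : Fin 2) : ℕ)) from rfl,
          hρv 0, hv]
        simp [pt_val (show 0 < n by omega)]
      · rw [dbl_apply _ _ _ (by omega) (by omega), if_neg (by omega), if_neg (by omega), if_pos rfl,
          show (pt 4 : Fin n) = pt (3 + ((1 : Fin 2) : ℕ)) from rfl, hρv 1, hv]
        simp [pt_val (show 1 < n by omega)]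
    have e1 : cU τ (S.map θ) σ = cU τ (cU τ (S.map θ) s2) ρ := by
      conv_lhs => rw [← norm2 _ himg, ← cU_mul, mul_inv_cancel_left]
      rw [cU_mul]
    rw [e1, ← norm3 ρ hρ]
    refine cU_commute ?_ ρ
    have hcl : cU τ (S.map θ) s2 = Subgroup.closure
        ({τ s2 * θ (f (bA K xa)) * (τ s2)⁻¹, τ s2 * θ (f (bA K xb)) * (τ s2)⁻¹} : Set G) := by
      rw [cU, ← hXS, MonoidHom.map_closure, Set.image_pair]
      rfl
    rw [hcl]
    intro x hx y hy
    rw [← hXV] at hy
    refine closure_commute ?_ x hx y hy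
    rintro a (rfl | rfl) b (rfl | rfl) <;>
      exact (relComm_iff _ _ _ _ _).1 (hmem _ (by simp [hE0]))
  · intro σ hσ
    rw [hVr]
    by_cases h6 : 6 ≤ n
    swap
    · exfalso
      have h0 := disjoint_pts (show 3 ≤ n by omega) (show 3 ≤ n by omega) hσ (show 0 < 3 by omega)
      have h1 := disjoint_pts (show 3 ≤ n by omega) (show 3 ≤ n by omega) hσ (show 1 < 3 by omega)
      have h2 := disjoint_pts (show 3 ≤ n by omega) (show 3 ≤ n by omega) hσ (show 2 < 3 by omega)
      have ne : ∀ i j, i < 3 → j < 3 → i ≠ j →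
          ((((σ : Perm (Fin n)) (pt i)) : Fin n) : ℕ) ≠ ((((σ : Perm (Fin n)) (pt j)) : Fin n) : ℕ) :=
        fun i j hi hj hne e => hne ((pt_inj (by omega) (by omega)).1 ((σ : Perm (Fin n)).injective (Fin.ext e)))
      have := ne 0 1 (by omega) (by omega) (by omega)
      have := ne 0 2 (by omega) (by omega) (by omega)
      have := ne 1 2 (by omega) (by omega) (by omega)
      have := ((σ : Perm (Fin n)) (pt 0)).2
      have := ((σ : Perm (Fin n)) (pt 1)).2
      have := ((σ : Perm (Fin n)) (pt 2)).2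
      omega
    set s3 := shift3 h6 with hs3
    set v : Fin 3 → Fin n := fun i => (σ : Perm (Fin n)) (pt i) with hv
    obtain ⟨ρ, hρ, hρv⟩ := stab_reach (n := n) (show 3 ≤ n by omega) (by omega) v
      (fun a b hab => Fin.ext ((pt_inj (by omega) (by omega)).1 ((σ : Perm (Fin n)).injective hab)))
      (fun i => disjoint_pts (show 3 ≤ n by omega) (show 3 ≤ n by omega) hσ i.2) (by omega)
    have himg : (pts 3).image ((σ⁻¹ * (ρ * s3) : alternatingGroup (Fin n)) : Perm (Fin n)) = pts 3 := by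
      refine Finset.eq_of_subset_of_card_le ?_ (le_of_eq (Finset.card_image_of_injective _ (Equiv.injective _)).symm)
      intro x hx
      obtain ⟨y, hy, rfl⟩ := Finset.mem_image.1 hx
      rw [mem_pts (by omega)] at hy ⊢
      rw [show y = pt (y : ℕ) from Fin.ext (pt_val y.2).symm]
      rcases (show (y : ℕ) = 0 ∨ (y : ℕ) = 1 ∨ (y : ℕ) = 2 by omega) with e | e | e <;>
        rw [e] <;> simp only [Subgroup.coe_mul, Subgroup.coe_inv, Perm.mul_apply, hs3] <;>
        rw [shift3_apply h6 (by omega)]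
      · rw [if_pos rfl, show (pt 4 : Fin n) = pt (3 + ((1 : Fin 3) : ℕ)) from rfl, hρv 1, hv]
        simp [pt_val (show 1 < n by omega)]
      · rw [if_neg (by omega), if_pos rfl, show (pt 3 : Fin n) = pt (3 + ((0 : Fin 3) : ℕ)) from rfl, hρv 0, hv]
        simp [pt_val (show 0 < n by omega)]
      · rw [if_neg (by omega), if_neg (by omega), if_pos rfl,
          show (pt 5 : Fin n) = pt (3 + ((2 : Fin 3) : ℕ)) from rfl, hρv 2, hv]
        simp [pt_val (show 2 < n by omega)]
    have e1 : cU τ (V.map θ) σ = cU τ (cU τ (V.map θ) s3) ρ := by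
      conv_lhs => rw [← norm3 _ himg, ← cU_mul, mul_inv_cancel_left]
      rw [cU_mul]
    rw [e1]
    intro x hx
    rw [← norm3 ρ hρ] at hx
    refine cU_commute ?_ ρ x hx
    have hcl : cU τ (V.map θ) s3 = Subgroup.closure
        ({τ s3 * θ (f ya) * (τ s3)⁻¹, τ s3 * θ (f yb) * (τ s3)⁻¹} : Set G) := by
      rw [cU, ← hXV, MonoidHom.map_closure, Set.image_pair]
      rfl
    rw [hcl]
    intro x hx y hy
    rw [← hXV] at hx
    refine closure_commute ?_ x hx y hy
    rintro a (rfl | rfl) b (rfl | rfl) <;>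
      exact ((relComm_iff _ _ _ _ _).1 (hrel _ (List.mem_append_right _ (by rw [hE6, dif_pos h6]; simp [hs3])))).symm

end CfsgLib.SUPres
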