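import Cfsg.Agent.Lib.SUPres.Code

/-!
# Presentations of `SU₄` over a quadratic extension of a prime field from certificates
-/

set_option autoImplicit false
set_option linter.style.haveILetI false

namespace CfsgLib.SUPres

open Matrix Cfsg Equiv
open CfsgLib.Classical.Herm
open CfsgLib.Classical.Phan (Blk emb mat mat_ext mat_mul mat_emb winMat)
open CfsgLib.ClassicalAut (Unitary.Conj)
open CfsgLib.CosetEnum
open CfsgLib.SLPres (Presents)

/-- The data of a small case. -/
structure SmallData where
  /-- the field -/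
  fld : FCode
  /-- first generator -/
  X : CM
  /-- second generator -/
  Y : CM
  /-- order of the first generator -/
  o : ℕ
  /-- relators -/
  R : List (List ℕ)
  /-- last columns -/
  T2 : List (List C2 × List ℕ)
  /-- first columns in the stabiliser -/
  T1 : List (List C2 × List ℕ)

namespace SmallData

variable (D : SmallData)

/-- letters in three dimensions -/
def G3 : List CM := [D.X, D.fld.starM 3 D.X, D.Y, D.fld.starM 3 D.Y]

/-- letters in four dimensions -/
def G4 : List CM := D.G3.map D.fld.padM ++ [D.fld.dM, D.fld.dM]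

/-- the matrices lie in the group -/
def memOK : Bool :=
  D.fld.fieldOK && (D.fld.mulM 3 (D.fld.starM 3 D.X) D.X == D.fld.idM 3) && D.fld.detOK D.X &&
    (D.fld.mulM 3 (D.fld.starM 3 D.Y) D.Y == D.fld.idM 3) && D.fld.detOK D.Y

/-- the relators hold -/
def relOK : Bool := D.R.all fun r => D.fld.evalM 4 D.G4 r == D.fld.idM 4

/-- the tables are right -/
def tab2OK : Bool := D.T2.all fun e => FCode.colM 3 (D.fld.evalM 3 D.G3 e.2) 2 == e.1

/-- the tables are right -/
def tab1OK : Bool := D.T1.all fun e =>
  FCode.colM 3 (D.fld.evalM 3 D.G3 e.2) 2 == [(0, 0), (0, 0), (1 % D.fld.p, 0)] &&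
    FCode.colM 3 (D.fld.evalM 3 D.G3 e.2) 0 == e.1

/-- the tables are complete -/
def allOK : Bool := D.fld.codes.all fun a => D.fld.codes.all fun b => D.fld.codes.all fun d =>
  !(D.fld.norm3 [a, b, d] == (1 % D.fld.p, 0)) ||
    ((D.T2.map Prod.fst).contains [a, b, d] &&
      (!(d == (0, 0)) || (D.T1.map Prod.fst).contains [a, b, d]))

end SmallData

/-- The letters `g₀, g₀⁻¹, g₁, g₁⁻¹, …`. -/
def letters {G : Type*} [Group G] (l : List G) (g : ℕ) : G :=
  (l.flatMap fun x => [x, x⁻¹]).getD g 1

theorem map_letters {G H : Type*} [Group G] [Group H] (f : G →* H) (l : List G) (g : ℕ) :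
    f (letters l g) = letters (l.map f) g := by
  induction l generalizing g with
  | nil => simp [letters]
  | cons x l ih =>
    rcases g with _ | _ | g
    · simp [letters]
    · simp [letters]
    · simpa [letters] using ih g

theorem letters_two_inv {G : Type*} [Group G] (x y : G) (g : ℕ) :
    letters [x, y] g * letters [x, y] (([1, 0, 3, 2] : List ℕ).getD g g) = 1 := by
  rcases g with _ | _ | _ | _ | g <;> simp [letters]

theorem letters_three_inv {G : Type*} [Group G] (x y d : G) (g : ℕ) :
    letters [x, y, d] g * letters [x, y, d] (([1, 0, 3, 2, 5, 4] : List ℕ).getD g g) = 1 := by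
  rcases g with _ | _ | _ | _ | _ | _ | g <;> simp [letters]

universe u

variable {F : Type u} [Field F] [Finite F] {q : ℕ} (K : Unitary.Conj F q) {z : F}

set_option maxHeartbeats 1000000 in
include K in
/-- The presentation of a small case. -/
theorem su_four_small (D : SmallData) (hz : FVal D.fld z) (hq : D.fld.p = q)
    (hmem : D.memOK = true) (hrel : D.relOK = true) (h2 : D.tab2OK = true) (h1 : D.tab1OK = true)
    (hall : D.allOK = true)
    {A B : Cert} (cA : A.Complete) (cB : B.Complete)
    (hA : A.K = 4 ∧ A.invs = [1, 0, 3, 2] ∧ A.subs = [[0]])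
    (hB : B.K = 6 ∧ B.invs = [1, 0, 3, 2, 5, 4] ∧ B.subs = [[0], [2]])
    (hAR : (A.rels.all fun r => D.R.contains r && r.all fun g => Nat.blt g 4) = true)
    (hBR : (B.rels.all fun r => D.R.contains r) = true)
    (ho : D.R.contains (List.replicate D.o 0) = true) (ho0 : 0 < D.o)
    (hcard : B.N * (A.N * D.o) ≤ Nat.card (SU 4 F q)) :
    Presents (SU 4 F q) 3 D.R.length := by
  classical
  simp only [SmallData.memOK, Bool.and_eq_true] at hmem
  obtain ⟨⟨⟨⟨hok, hXU⟩, hXd⟩, hYU⟩, hYd⟩ := hmem
  obtain ⟨x, hx, hx'⟩ := exists_code_elem K hz hq D.X hXU hXd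
  obtain ⟨y, hy, hy'⟩ := exists_code_elem K hz hq D.Y hYU hYd
  set e := (emb K PhanSmall.h03 : SU 3 F q →* SU 4 F q) with he
  set d : SU 4 F q := altSU K (dbl (n := 4) (a := 0) (b := 3) (c := 1) (d := 2) (by omega) (by omega) (by omega))
    with hd
  set π : FreeGroup (Fin 3) →* SU 4 F q := FreeGroup.lift ![e x, e y, d] with hπ
  set gF : ℕ → FreeGroup (Fin 3) := letters [.of 0, .of 1, .of 2] with hgF
  have hπg : ∀ g, π (gF g) = letters [e x, e y, d] g := fun g => by
    rw [hgF, map_letters]; simp [hπ]
  -- the matrices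
  have h3 : ∀ g, mat (letters [x, y] g) = FVal.toM z 3 (D.G3.getD g (D.fld.idM 3)) := fun g => by
    rcases g with _ | _ | _ | _ | g
    · exact hx
    · exact hx'
    · exact hy
    · exact hy'
    · simp [letters, SmallData.G3, hz.toM_id]; rfl
  have hpad : ∀ (w : SU 3 F q) (M : CM), mat w = FVal.toM z 3 M → mat (e w) = FVal.toM z 4 (D.fld.padM M) := by
    intro w M hw
    rw [he, mat_emb, hw]
    ext i j
    simp only [winMat, FVal.toM, FCode.padM, Matrix.of_apply, FVal.ent_ofFn, Matrix.submatrix_apply]
    fin_cases i <;> fin_cases j <;> simp [Classical.Phan.winEquiv, hz.ev_one, FVal.ev_zero, Matrix.one_apply]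
  have hdM : mat d = FVal.toM z 4 D.fld.dM := by
    rw [hd]
    ext i j
    show ((dbl _ _ _ : alternatingGroup (Fin 4)) : Perm (Fin 4))⁻¹.permMatrix F i j = _
    simp only [FVal.toM, FCode.dM, Matrix.of_apply, FVal.ent_ofFn]
    fin_cases i <;> fin_cases j <;>
      simp [dbl, pt, hz.ev_one, FVal.ev_zero, Equiv.swap_apply_def, Matrix.one_apply, PEquiv.toMatrix_apply, Fin.ext_iff]
  have hdinv : d⁻¹ = d := by
    rw [hd, ← map_inv]
    congr 1
    refine Subtype.ext (Perm.ext fun i => ?_)
    fin_cases i <;> simp [dbl, pt, Equiv.swap_apply_def, Fin.ext_iff]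
  have h4 : ∀ g, mat (letters [e x, e y, d] g) = FVal.toM z 4 (D.G4.getD g (D.fld.idM 4)) := fun g => by
    rcases g with _ | _ | _ | _ | _ | _ | g
    · exact hpad _ _ hx
    · rw [show letters [e x, e y, d] 1 = e x⁻¹ by simp [letters]]; exact hpad _ _ hx'
    · exact hpad _ _ hy
    · rw [show letters [e x, e y, d] 3 = e y⁻¹ by simp [letters]]; exact hpad _ _ hy'
    · exact hdM
    · rw [show letters [e x, e y, d] 5 = d⁻¹ by simp [letters], hdinv]; exact hdM
    · simp [letters, SmallData.G4, SmallData.G3, hz.toM_id]; rfl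
  simp only [SmallData.relOK, List.all_eq_true, beq_iff_eq] at hrel
  refine ⟨D.R.map (prodW gF), π, by simp, ?_, fun w hw => ?_, fun G _ ψ hψ hL => ?_⟩
  · -- generation
    have h3top := su_three_top K hz hq hok h3 D.T2 D.T1 h2 h1 hall
    have hxy : (⊤ : Subgroup (SU 3 F q)) ≤ Subgroup.closure {x, y} := by
      rw [← h3top, Subgroup.closure_le]
      rintro _ ⟨g, rfl⟩
      rcases g with _ | _ | _ | _ | g
      · exact Subgroup.subset_closure (Or.inl rfl)
      · exact inv_mem (Subgroup.subset_closure (Or.inl rfl))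
      · exact Subgroup.subset_closure (Or.inr rfl)
      · exact inv_mem (Subgroup.subset_closure (Or.inr rfl))
      · simp [letters]
    have hle : (Blk 0 3 : Subgroup (SU 4 F q)) ≤ π.range := by
      rw [← PhanSmall.range_emb_win K PhanSmall.h03, MonoidHom.range_eq_map, Subgroup.map_le_iff_le_comap]
      refine hxy.trans ((Subgroup.closure_le _).2 ?_)
      rintro w (rfl | rfl)
      · exact ⟨.of 0, by simp [hπ, he]⟩
      · exact ⟨.of 1, by simp [hπ, he]⟩
    have hdr : d ∈ π.range := ⟨.of 2, by simp [hπ]⟩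
    rw [← MonoidHom.range_eq_top, eq_top_iff, ← four_top K]
    refine sup_le hle ?_
    rw [← alt_Blk K (dbl (n := 4) (a := 0) (b := 3) (c := 1) (d := 2) (by omega) (by omega) (by omega))
      (a := 0) (b := 3) (a' := 1) (b' := 4) (fun i hi => by
        rw [dbl_apply _ _ _ (by omega) hi]
        split_ifs <;> rw [pt_val (by omega)] <;> omega)]
    rintro _ ⟨g, hg, rfl⟩
    exact mul_mem (mul_mem hdr (hle hg)) (inv_mem hdr)
  · obtain ⟨r, hr, rfl⟩ := List.mem_map.1 hw
    rw [map_prodW]
    refine mat_ext ?_
    rw [prodW_congr (gen' := letters [e x, e y, d]) fun g _ => hπg g, mat_prodW hz h4, hrel r hr, hz.toM_id]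
    rfl
  -- the bound
  set a := ψ (.of 0)
  set b := ψ (.of 1)
  set t := ψ (.of 2)
  have hψg : ∀ g, ψ (gF g) = letters [a, b, t] g := fun g => by rw [hgF, map_letters]; rfl
  have hrels : ∀ r, D.R.contains r = true → prodW (letters [a, b, t]) r = 1 := fun r hr => by
    rw [← prodW_congr (gen := fun g => ψ (gF g)) fun g _ => hψg g, ← map_prodW]
    exact hL _ (List.mem_map_of_mem (List.contains_iff_mem.1 hr))
  have hao : a ^ D.o = 1 := by
    have := hrels _ ho
    simpa [prodW, letters] using this
  haveI : Finite (Subgroup.zpowers a) :=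
    Nat.finite_of_card_ne_zero (by
      rw [Nat.card_zpowers]
      exact (orderOf_pos_iff.2 (isOfFinOrder_iff_pow_eq_one.2 ⟨D.o, ho0, hao⟩)).ne')
  simp only [List.all_eq_true, Bool.and_eq_true, Nat.blt_eq] at hAR
  simp only [List.all_eq_true] at hBR
  have mA : Model A (Subgroup.zpowers a) (letters [a, b]) :=
    { gen_K := by rw [hA.1]; simp [letters]
      inv_mul := fun g => by rw [Cert.inv, hA.2.1]; exact letters_two_inv a b g
      rel := fun r hr => by
        rw [prodW_congr (gen' := letters [a, b, t]) fun g hg => ?_]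
        · exact hrels r (hAR r hr).1
        · have := (hAR r hr).2 g hg
          rcases g with _ | _ | _ | _ | g <;> first | rfl | omega
      sub := fun w hw => by
        rw [hA.2.2] at hw
        simp only [List.mem_singleton] at hw
        subst hw
        simpa [prodW, letters] using Subgroup.mem_zpowers a }
  obtain ⟨hfin, hle⟩ := finite_card_le cA mA D.o (by
    rw [Nat.card_zpowers]; exact Nat.le_of_dvd ho0 (orderOf_dvd_of_pow_eq_one hao))
  set H := Subgroup.closure {w | ∃ g < A.K, letters [a, b] g = w} with hH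
  have mB : Model B H (letters [a, b, t]) :=
    { gen_K := by rw [hB.1]; simp [letters]
      inv_mul := fun g => by rw [Cert.inv, hB.2.1]; exact letters_three_inv a b t g
      rel := fun r hr => hrels r (hBR r hr)
      sub := fun w hw => by
        rw [hB.2.2] at hw
        simp only [List.mem_cons, List.not_mem_nil, or_false] at hw
        rcases hw with rfl | rfl
        · exact Subgroup.subset_closure ⟨0, by rw [hA.1]; omega, by simp [prodW, letters]⟩
        · exact Subgroup.subset_closure ⟨2, by rw [hA.1]; omega, by simp [prodW, letters]⟩ }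
  obtain ⟨hfinG, hleG⟩ := finite_card_le cB mB (A.N * D.o) hle
  have htop : Subgroup.closure {w | ∃ g < B.K, letters [a, b, t] g = w} = ⊤ := by
    rw [eq_top_iff, ← MonoidHom.range_eq_top.2 hψ, MonoidHom.range_eq_map, Subgroup.map_le_iff_le_comap,
      ← FreeGroup.closure_range_of, Subgroup.closure_le]
    rintro _ ⟨i, rfl⟩
    fin_cases i
    · exact Subgroup.subset_closure ⟨0, by rw [hB.1]; omega, rfl⟩
    · exact Subgroup.subset_closure ⟨2, by rw [hB.1]; omega, rfl⟩
    · exact Subgroup.subset_closure ⟨4, by rw [hB.1]; omega, rfl⟩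
  rw [htop] at hfinG hleG
  exact ⟨Finite.of_equiv _ Subgroup.topEquiv.toEquiv,
    (Nat.card_congr Subgroup.topEquiv.toEquiv).symm.le.trans (hleG.trans hcard)⟩

end CfsgLib.SUPres
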