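import Cfsg.Agent.Lib.SUPres.GlueRels

/-!
# Reading conjugations of windows in a group with mixed relations
-/

set_option autoImplicit false
set_option linter.style.haveILetI false

namespace CfsgLib.SUPres

open Matrix Cfsg Equiv
open CfsgLib.Classical.Herm
open CfsgLib.Classical.Phan (Blk bv bA bB emb range_emb_two emb_injective emb_emb h01 h12)
open CfsgLib.ClassicalAut (Unitary.Conj)

/-! ### Even permutations -/

variable {n : ℕ}

theorem stab_iff [NeZero n] {k : ℕ} (hk : k ≤ n) {σ : Perm (Fin n)}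
    (h : (pts k).image σ = pts k) (x : Fin n) : ((σ x : Fin n) : ℕ) < k ↔ (x : ℕ) < k := by
  rw [← mem_pts hk, ← mem_pts hk]
  conv_lhs => rw [← h]
  exact σ.injective.mem_finset_image

theorem stab_of_iff [NeZero n] {k : ℕ} (hk : k ≤ n) {σ : Perm (Fin n)}
    (h : ∀ x : Fin n, ((σ x : Fin n) : ℕ) < k ↔ (x : ℕ) < k) : (pts k).image σ = pts k := by
  ext x
  obtain ⟨y, rfl⟩ := σ.surjective x
  rw [σ.injective.mem_finset_image, mem_pts hk, mem_pts hk, h]

theorem even_pair [NeZero n] (σ : alternatingGroup (Fin n))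
    (h : ∀ x : Fin n, 2 ≤ (x : ℕ) → (σ : Perm (Fin n)) x = x) : σ = 1 := by
  refine Subtype.ext (Perm.support_eq_empty_iff.1 ?_)
  have hsub : (σ : Perm (Fin n)).support ⊆ {pt 0, pt 1} := fun x hx => by
    rw [Perm.mem_support] at hx
    have : (x : ℕ) = 0 ∨ (x : ℕ) = 1 := by
      by_contra hc; exact hx (h x (by omega))
    rw [Finset.mem_insert, Finset.mem_singleton]
    rcases this with e | e
    · exact Or.inl (Fin.ext (by rw [pt_val (by have := x.2; omega), e]))
    · exact Or.inr (Fin.ext (by rw [pt_val (by have := x.2; omega), e]))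
  have hle := (Finset.card_le_card hsub).trans Finset.card_le_two
  by_contra hne
  have h1 : 1 < (σ : Perm (Fin n)).support.card :=
    Perm.one_lt_card_support_of_ne_one (by simpa [Perm.support_eq_empty_iff] using hne)
  have h2 := (Perm.card_support_eq_two.1 (show (σ : Perm (Fin n)).support.card = 2 by omega)).sign_eq
  have h3 : Perm.sign (σ : Perm (Fin n)) = 1 := σ.2
  rw [h3] at h2
  exact absurd h2 (by decide)

/-- The points from `k` on. -/
def hiEquiv (n k : ℕ) : Fin (n - k) ≃ {x : Fin n // k ≤ (x : ℕ)} where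
  toFun i := ⟨⟨k + i, by omega⟩, by simp⟩
  invFun x := ⟨(x.1 : ℕ) - k, by have := x.1.2; have := x.2; omega⟩
  left_inv i := Fin.ext (by simp)
  right_inv x := Subtype.ext (Fin.ext (by have := x.2; simp; omega))

/-- A permutation of the points from `k` on, made even by the transposition of the first two. -/
def stabFun [NeZero n] (k : ℕ) (g : Perm (Fin (n - k))) : Perm (Fin n) :=
  g.extendDomain (hiEquiv n k) * (if Perm.sign g = 1 then 1 else swap (pt 0) (pt 1))

theorem stabFun_even [NeZero n] (hn : 2 ≤ n) (k : ℕ) (g : Perm (Fin (n - k))) :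
    stabFun k g ∈ alternatingGroup (Fin n) := by
  rw [Perm.mem_alternatingGroup, stabFun, Perm.sign_mul, Perm.sign_extendDomain]
  rcases Int.units_eq_one_or (Perm.sign g) with h | h
  · simp [h]
  · rw [h, if_neg (by decide), Perm.sign_swap (fun e => absurd ((pt_inj (by omega) (by omega)).1 e) (by omega))]
    decide

theorem stabFun_stab [NeZero n] {k : ℕ} (hk : k ≤ n) (h2 : 2 ≤ k) (g : Perm (Fin (n - k))) :
    (pts k).image (stabFun k g) = pts k := by
  refine stab_of_iff hk fun x => ?_
  have hs : ∀ y : Fin n, ((((if Perm.sign g = 1 then 1 else swap (pt 0) (pt 1) : Perm (Fin n)) y : Fin n) : ℕ) < k ↔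
      (y : ℕ) < k) := fun y => by
    split_ifs
    · simp
    · rcases eq_or_ne y (pt 0) with rfl | h0
      · simp [pt_val (show 0 < n by omega), pt_val (show 1 < n by omega)]; omega
      rcases eq_or_ne y (pt 1) with rfl | h1
      · simp [pt_val (show 0 < n by omega), pt_val (show 1 < n by omega)]; omega
      rw [swap_apply_of_ne_of_ne h0 h1]
  have he : ∀ y : Fin n, ((g.extendDomain (hiEquiv n k) y : Fin n) : ℕ) < k ↔ (y : ℕ) < k := fun y => by
    by_cases hy : k ≤ (y : ℕ)
    · rw [Perm.extendDomain_apply_subtype g (hiEquiv n k) hy]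
      have := ((hiEquiv n k) (g ((hiEquiv n k).symm ⟨y, hy⟩))).2
      omega
    · rw [Perm.extendDomain_apply_not_subtype g (hiEquiv n k) hy]
  rw [stabFun, Perm.mul_apply, he, hs]

/-- The stabiliser of the first `k` points receives the permutations of the others. -/
def stabHom [NeZero n] {k : ℕ} (hk : k ≤ n) (h2 : 2 ≤ k) : Perm (Fin (n - k)) →* alternatingGroup (Fin n) where
  toFun g := ⟨stabFun k g, stabFun_even (by omega) k g⟩
  map_one' := Subtype.ext (by simp [stabFun])
  map_mul' g g' := Subtype.ext (by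
    have hlow : ∀ i < k, (g'.extendDomain (hiEquiv n k)) (pt i : Fin n) = pt i := fun i hi =>
      Perm.extendDomain_apply_not_subtype g' _ (by rw [pt_val (by omega)]; omega)
    have hc : g'.extendDomain (hiEquiv n k) * swap (pt 0 : Fin n) (pt 1) =
        swap (pt 0) (pt 1) * g'.extendDomain (hiEquiv n k) := by
      rw [Equiv.mul_swap_eq_swap_mul, hlow 0 (by omega), hlow 1 (by omega)]
    have hsq : swap (pt 0 : Fin n) (pt 1) * swap (pt 0) (pt 1) = 1 := swap_mul_self _ _
    show stabFun k (g * g') = stabFun k g * stabFun k g'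
    have hmul : (g * g').extendDomain (hiEquiv n k) =
        g.extendDomain (hiEquiv n k) * g'.extendDomain (hiEquiv n k) :=
      (Perm.extendDomain_mul (hiEquiv n k) g g').symm
    simp only [stabFun, Perm.sign_mul, hmul]
    rcases Int.units_eq_one_or (Perm.sign g) with h | h <;>
      rcases Int.units_eq_one_or (Perm.sign g') with h' | h' <;>
      simp only [h, h', one_mul, mul_one, if_pos (show (-1 : ℤˣ) * -1 = 1 by decide),
        if_neg (show ¬ (-1 : ℤˣ) = 1 by decide), if_true]
    · rw [mul_assoc]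
    · rw [mul_assoc, mul_assoc, hc]
    · rw [mul_assoc, ← mul_assoc (Equiv.swap _ _), ← hc, mul_assoc, hsq, mul_one])

/-- An adjacent transposition. -/
def adj (m : ℕ) : Perm (Fin m) := if h : 0 < m then swap ⟨0, h⟩ (finRotate m ⟨0, h⟩) else 1

theorem closure_adj (m : ℕ) : Subgroup.closure {finRotate m, adj m} = (⊤ : Subgroup (Perm (Fin m))) := by
  rcases Nat.lt_or_ge m 2 with h | h
  · haveI : Subsingleton (Fin m) := Fin.subsingleton_iff_le_one.2 (by omega)
    exact eq_top_iff.2 fun g _ => by rw [Subsingleton.elim g 1]; exact one_mem _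
  · rw [adj, dif_pos (by omega)]
    exact Perm.closure_cycle_adjacent_swap (isCycle_finRotate_of_le h) (support_finRotate_of_le h) _

theorem stab_mem [NeZero n] {k : ℕ} (hk : k ≤ n) (h2 : 2 ≤ k) (H : Subgroup (alternatingGroup (Fin n)))
    (hr : stabHom hk h2 (finRotate (n - k)) ∈ H) (ht : stabHom hk h2 (adj (n - k)) ∈ H)
    (hsmall : ∀ σ : alternatingGroup (Fin n),
      (∀ x : Fin n, k ≤ (x : ℕ) → (σ : Perm (Fin n)) x = x) → σ ∈ H)
    (σ : alternatingGroup (Fin n)) (hσ : (pts k).image (σ : Perm (Fin n)) = pts k) : σ ∈ H := by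
  have hall : ∀ g, stabHom hk h2 g ∈ H := fun g => by
    have : (⊤ : Subgroup (Perm (Fin (n - k)))) ≤ H.comap (stabHom hk h2) := by
      rw [← closure_adj, Subgroup.closure_le]
      rintro x (rfl | rfl)
      · exact hr
      · exact ht
    exact this (Subgroup.mem_top g)
  have hiff : ∀ x : Fin n, k ≤ (((σ : Perm (Fin n)) x : Fin n) : ℕ) ↔ k ≤ (x : ℕ) := fun x => by
    have := stab_iff hk hσ x; omega
  set g : Perm (Fin (n - k)) := (hiEquiv n k).symm.permCongr
    ((σ : Perm (Fin n)).subtypePerm (p := fun x : Fin n => k ≤ (x : ℕ)) hiff) with hg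
  have := mul_mem (hall g) (hsmall ((stabHom hk h2 g)⁻¹ * σ) fun x hx => by
    rw [Subgroup.coe_mul, Subgroup.coe_inv, Perm.mul_apply, Perm.inv_eq_iff_eq]
    show _ = stabFun k g x
    have h0 : (if Perm.sign g = 1 then 1 else swap (pt 0) (pt 1) : Perm (Fin n)) x = x := by
      split_ifs
      · rfl
      · refine swap_apply_of_ne_of_ne ?_ ?_ <;>
          exact fun e => by rw [e, pt_val (by omega)] at hx; omega
    rw [stabFun, Perm.mul_apply, h0, Perm.extendDomain_apply_subtype g (hiEquiv n k) hx]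
    simp [hg])
  rwa [mul_inv_cancel_left] at this

/-- The three-cycle `0 → 1 → 2 → 0`. -/
def cyc [NeZero n] (hn : 3 ≤ n) : alternatingGroup (Fin n) :=
  ⟨swap (pt 0) (pt 1) * swap (pt 1) (pt 2), by
    rw [Perm.mem_alternatingGroup, Perm.sign_mul,
      Perm.sign_swap (fun e => absurd ((pt_inj (by omega) (by omega)).1 e) (by omega)),
      Perm.sign_swap (fun e => absurd ((pt_inj (by omega) (by omega)).1 e) (by omega))]
    decide⟩

theorem cyc_apply [NeZero n] (hn : 3 ≤ n) {i : ℕ} (hi : i < n) :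
    (cyc hn : Perm (Fin n)) (pt i) = pt (if i = 0 then 1 else if i = 1 then 2 else if i = 2 then 0 else i) := by
  have ne : ∀ {a b : ℕ}, a < n → b < n → a ≠ b → (pt a : Fin n) ≠ pt b := fun ha hb h e => h ((pt_inj ha hb).1 e)
  show (swap (pt 0) (pt 1) * swap (pt 1) (pt 2) : Perm (Fin n)) (pt i) = _
  rw [Perm.mul_apply]
  split_ifs with h0 h1 h2
  · subst h0; rw [swap_apply_of_ne_of_ne (ne hi (by omega) (by omega)) (ne hi (by omega) (by omega)), swap_apply_left]
  · subst h1; rw [swap_apply_left, swap_apply_of_ne_of_ne (ne (by omega) (by omega) (by omega)) (ne (by omega) hi (by omega))]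
  · subst h2; rw [swap_apply_right, swap_apply_right]
  · rw [swap_apply_of_ne_of_ne (ne hi (by omega) h1) (ne hi (by omega) h2),
      swap_apply_of_ne_of_ne (ne hi (by omega) h0) (ne hi (by omega) h1)]

/-- Two disjoint transpositions of the first four points. -/
def dbl [NeZero n] {a b c d : ℕ} (h : a < n ∧ b < n ∧ c < n ∧ d < n) (hab : a ≠ b) (hcd : c ≠ d) :
    alternatingGroup (Fin n) :=
  ⟨swap (pt a) (pt b) * swap (pt c) (pt d), by
    rw [Perm.mem_alternatingGroup, Perm.sign_mul,
      Perm.sign_swap (fun e => hab ((pt_inj h.1 h.2.1).1 e)),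
      Perm.sign_swap (fun e => hcd ((pt_inj h.2.2.1 h.2.2.2).1 e))]
    decide⟩

theorem dbl_apply [NeZero n] {a b c d : ℕ} (h : a < n ∧ b < n ∧ c < n ∧ d < n) (hab : a ≠ b) (hcd : c ≠ d)
    (hac : a ≠ c ∧ a ≠ d ∧ b ≠ c ∧ b ≠ d) {i : ℕ} (hi : i < n) :
    (dbl h hab hcd : Perm (Fin n)) (pt i) =
      pt (if i = a then b else if i = b then a else if i = c then d else if i = d then c else i) := by
  obtain ⟨ha, hb, hc, hd⟩ := h
  have ne : ∀ {a b : ℕ}, a < n → b < n → a ≠ b → (pt a : Fin n) ≠ pt b := fun ha hb h e => h ((pt_inj ha hb).1 e)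
  show (swap (pt a) (pt b) * swap (pt c) (pt d) : Perm (Fin n)) (pt i) = _
  rw [Perm.mul_apply]
  split_ifs with ia ib ic id'
  · subst ia; rw [swap_apply_of_ne_of_ne (ne hi hc hac.1) (ne hi hd hac.2.1), swap_apply_left]
  · subst ib; rw [swap_apply_of_ne_of_ne (ne hi hc hac.2.2.1) (ne hi hd hac.2.2.2), swap_apply_right]
  · subst ic; rw [swap_apply_left, swap_apply_of_ne_of_ne (ne hd ha hac.2.1.symm) (ne hd hb hac.2.2.2.symm)]
  · subst id'; rw [swap_apply_right, swap_apply_of_ne_of_ne (ne hc ha hac.1.symm) (ne hc hb hac.2.2.1.symm)]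
  · rw [swap_apply_of_ne_of_ne (ne hi hc ic) (ne hi hd id'), swap_apply_of_ne_of_ne (ne hi ha ia) (ne hi hb ib)]

/-! ### Blocks -/

universe u

variable {F : Type u} [Field F] [Finite F] {q : ℕ} (K : Unitary.Conj F q)

include K in
theorem alt_Blk [NeZero n] (σ : alternatingGroup (Fin n)) {a b a' b' : ℕ}
    (h : ∀ i < n, (a' ≤ (((σ : Perm (Fin n)) (pt i) : Fin n) : ℕ) ∧
      (((σ : Perm (Fin n)) (pt i) : Fin n) : ℕ) < b') ↔ (a ≤ i ∧ i < b)) :
    (Blk a b : Subgroup (SU n F q)).map (MulAut.conj (altSU K σ)).toMonoidHom = Blk a' b' := by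
  refine le_antisymm ?_ fun g hg => ?_
  · rintro _ ⟨g, hg, rfl⟩
    exact altSU_conj_Blk K σ h hg
  · refine ⟨(altSU K σ)⁻¹ * g * altSU K σ, ?_, by simp [mul_assoc]⟩
    have := altSU_conj_Blk K σ⁻¹ (a := a') (b := b') (a' := a) (b' := b) (fun i hi => by
      set x := (((σ : Perm (Fin n))⁻¹ (pt i) : Fin n) : ℕ) with hx
      have h1 := h x (Fin.is_lt _)
      rw [show (σ : Perm (Fin n)) (pt x) = pt i by
        rw [show (pt x : Fin n) = (σ : Perm (Fin n))⁻¹ (pt i) from Fin.ext (pt_val (Fin.is_lt _))]; simp,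
        pt_val hi] at h1
      rw [Subgroup.coe_inv]
      exact h1.symm) hg
    rwa [map_inv, inv_inv] at this

include K in
theorem alt_Blk_stab [NeZero n] {k : ℕ} (hk : k ≤ n) {σ : alternatingGroup (Fin n)}
    (hσ : (pts k).image (σ : Perm (Fin n)) = pts k) :
    (Blk 0 k : Subgroup (SU n F q)).map (MulAut.conj (altSU K σ)).toMonoidHom = Blk 0 k :=
  alt_Blk K σ fun i hi => by
    have := stab_iff hk hσ (pt i)
    rw [pt_val hi] at this
    omega

include K in
theorem win_map {N m l i k : ℕ} (h' : i + l ≤ m) (hk : k + m ≤ N) (hj : k + i + l ≤ N) :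
    (emb K h' : SU l F q →* SU m F q).range.map (emb K hk : SU m F q →* SU N F q) =
      Blk (k + i) (k + i + l) := by
  rw [← MonoidHom.range_comp, ← PhanSmall.range_emb_win K hj]
  congr 1
  ext A : 1
  exact emb_emb K h' hk hj A

/-! ### Reading relations -/

variable {m : ℕ} {hmn : 0 + m ≤ n} {G : Type*} [Group G]

/-- What a group knows about a window and the alternating group. -/
structure Reads [NeZero n] (hmn : 0 + m ≤ n) (θ : SU m F q →* G)
    (τ : alternatingGroup (Fin n) →* G) (π : G →* SU n F q) : Prop where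
  win : π.comp θ = emb K hmn
  alt : π.comp τ = altSU K

variable {θ : SU m F q →* G} {τ : alternatingGroup (Fin n) →* G} {π : G →* SU n F q}

theorem Reads.θ_inj [NeZero n] (h : Reads K hmn θ τ π) : Function.Injective θ := fun a b e => by
  refine emb_injective K hmn ?_
  rw [← h.win, MonoidHom.comp_apply, e, MonoidHom.comp_apply]

theorem Reads.transfer [NeZero n] (h : Reads K hmn θ τ π) {σ : alternatingGroup (Fin n)} {s : SU m F q}
    (hs : τ σ = θ s) (S T : Subgroup (SU m F q))
    (hST : (S.map (emb K hmn)).map (MulAut.conj (altSU K σ)).toMonoidHom = T.map (emb K hmn)) :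
    cU τ (S.map θ) σ = T.map θ := by
  have e : emb K hmn s = altSU K σ := by
    rw [← h.win, MonoidHom.comp_apply, ← hs, ← h.alt]; rfl
  have hc : ∀ {H : Type u} [Group H] (f : SU m F q →* H),
      (S.map f).map (MulAut.conj (f s)).toMonoidHom = (S.map (MulAut.conj s).toMonoidHom).map f := fun {H} _ f => by
    rw [Subgroup.map_map, Subgroup.map_map]
    congr 1
    ext x
    simp
  have hT : S.map (MulAut.conj s).toMonoidHom = T := by
    refine Subgroup.map_injective (emb_injective K hmn) ?_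
    rw [← hc, e, hST]
  rw [cU, hs, Subgroup.map_map, ← hT, Subgroup.map_map]
  congr 1
  ext x
  simp

theorem norm_of_rels (U : Subgroup G) [Finite U] (X : Set G) (hX : Subgroup.closure X = U)
    (σ : alternatingGroup (Fin n)) (hrel : ∀ x ∈ X, τ σ * x * (τ σ)⁻¹ ∈ U) : cU τ U σ = U := by
  have hle : cU τ U σ ≤ U := by
    rw [cU, Subgroup.map_le_iff_le_comap]
    conv_lhs => rw [← hX]
    rw [Subgroup.closure_le]
    exact fun x hx => hrel x hx
  refine Subgroup.eq_of_le_of_card_ge hle (le_of_eq ?_)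
  rw [cU, Subgroup.card_map_of_injective (MulEquiv.injective _)]

/-- The permutations normalising a subgroup. -/
def normSub (τ : alternatingGroup (Fin n) →* G) (U : Subgroup G) : Subgroup (alternatingGroup (Fin n)) where
  carrier := {σ | cU τ U σ = U}
  one_mem' := cU_one τ U
  mul_mem' {a b} ha hb := by
    show cU τ U (a * b) = U
    rw [cU_mul, hb, ha]
  inv_mem' {a} ha := by
    show cU τ U a⁻¹ = U
    conv_lhs => rw [← ha, ← cU_mul, inv_mul_cancel, cU_one]

theorem mem_normSub {U : Subgroup G} {σ : alternatingGroup (Fin n)} :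
    σ ∈ normSub τ U ↔ cU τ U σ = U := Iff.rfl

/-! ### Mixed relators -/

variable {B A : Type*} [Group B] [Group A]

/-- The permutation equals an element of the window. -/
def relEq (σ : A) (s : B) : List (B ⊕ A) := [.inr σ, .inl s⁻¹]

/-- The permutation moves `x` to `y`. -/
def relMove (σ : A) (x y : B) : List (B ⊕ A) := [.inr σ, .inl x, .inr σ⁻¹, .inl y⁻¹]

/-- The moved `x` commutes with `y`. -/
def relComm (σ : A) (x y : B) : List (B ⊕ A) :=
  [.inr σ, .inl x, .inr σ⁻¹, .inl y, .inr σ, .inl x⁻¹, .inr σ⁻¹, .inl y⁻¹]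

theorem relEq_iff {H : Type*} [Group H] (a : B →* H) (b : A →* H) (σ : A) (s : B) :
    wval a b (relEq σ s) = 1 ↔ b σ = a s := by
  simp [wval, relEq, mul_inv_eq_one]

theorem relMove_iff {H : Type*} [Group H] (a : B →* H) (b : A →* H) (σ : A) (x y : B) :
    wval a b (relMove σ x y) = 1 ↔ b σ * a x * (b σ)⁻¹ = a y := by
  simp [wval, relMove, ← mul_assoc, mul_inv_eq_one]

theorem relComm_iff {H : Type*} [Group H] (a : B →* H) (b : A →* H) (σ : A) (x y : B) :
    wval a b (relComm σ x y) = 1 ↔ b σ * a x * (b σ)⁻¹ * a y = a y * (b σ * a x * (b σ)⁻¹) := by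
  have e : wval a b (relComm σ x y) =
      (b σ * a x * (b σ)⁻¹ * a y) * (a y * (b σ * a x * (b σ)⁻¹))⁻¹ := by
    simp [wval, relComm, mul_assoc]
  rw [e, mul_inv_eq_one]

theorem closure_commute {X Y : Set G} (h : ∀ x ∈ X, ∀ y ∈ Y, x * y = y * x) :
    ∀ x ∈ Subgroup.closure X, ∀ y ∈ Subgroup.closure Y, x * y = y * x := by
  have h1 : Subgroup.closure Y ≤ Subgroup.centralizer X := by
    rw [Subgroup.closure_le]
    exact fun y hy => Subgroup.mem_centralizer_iff.2 fun x hx => h x hx y hy
  intro x hx y hy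
  have h2 : Subgroup.closure X ≤ Subgroup.centralizer {y} := by
    rw [Subgroup.closure_le]
    exact fun a ha => Subgroup.mem_centralizer_iff.2 fun b hb => by
      rw [Set.mem_singleton_iff.1 hb]; exact (Subgroup.mem_centralizer_iff.1 (h1 hy) a ha).symm
  exact (Subgroup.mem_centralizer_iff.1 (h2 hx) y rfl).symm

end CfsgLib.SUPres
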